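import Cfsg.Agent.Lib.Blocks.TameBlock.Main

/-!
# Generators of quaternion and semidihedral defect groups
-/

namespace CfsgLib.Blocks.Tame

open Cfsg

set_option linter.unusedVariables false
set_option linter.unusedSimpArgs false

universe u

variable {K : Type u} [Group K] [Finite K] {D : Subgroup K}

theorem exists_quat {n : ℕ} (hn : 3 ≤ n) (hq : Nonempty (D ≃* QuaternionGroup (2 ^ (n - 2)))) :
    ∃ σ τ, TG D σ τ (2 ^ (n - 2)) (2 * 2 ^ (n - 2) - 1) := by
  obtain ⟨e⟩ := hq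
  set h := 2 ^ (n - 2) with hh
  haveI : NeZero h := ⟨by have := Nat.two_pow_pos (n - 2); omega⟩
  set a := e.symm (QuaternionGroup.a 1) with ha
  set x := e.symm (QuaternionGroup.xa 0) with hx
  have hpow : ∀ k : ℕ, a ^ k = e.symm (QuaternionGroup.a k) := fun k => by
    rw [ha, ← map_pow, QuaternionGroup.a_one_pow]
  refine ⟨(a : K), (x : K), ⟨⟨n - 3, by rw [hh, show n - 3 + 1 = n - 2 by omega]⟩, ?_⟩, ?_, a.2,
    x.2, ?_, ?_, Or.inl ⟨rfl, ?_⟩⟩
  · rw [Subgroup.orderOf_coe, ha, MulEquiv.orderOf_eq, QuaternionGroup.orderOf_a_one]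
  · rw [Nat.card_congr e.toEquiv, Nat.card_eq_fintype_card, QuaternionGroup.card]
    ring
  · rintro ⟨k, hk⟩
    have hk' : a ^ k = x := Subtype.ext (by rw [SubgroupClass.coe_zpow]; exact hk)
    obtain ⟨i, hi⟩ : ∃ i, a ^ k = e.symm (QuaternionGroup.a i) := by
      obtain ⟨m, rfl | rfl⟩ := Int.eq_nat_or_neg k
      · exact ⟨(m : ZMod (2 * h)), by rw [zpow_natCast, hpow]⟩
      · refine ⟨-(m : ZMod (2 * h)), ?_⟩
        rw [zpow_neg, zpow_natCast, hpow, ← map_inv]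
        rfl
    rw [hi, hx, e.symm.injective.eq_iff] at hk'
    exact QuaternionGroup.noConfusion rfl (heq_of_eq hk')
  · rw [← Subgroup.coe_inv, ← Subgroup.coe_mul, ← Subgroup.coe_mul, ← SubmonoidClass.coe_pow,
      hpow]
    congr 1
    rw [ha, hx, ← map_inv, ← map_mul, ← map_mul]
    congr 1
    rw [mul_inv_eq_iff_eq_mul]
    simp [Nat.cast_sub (Nat.mul_pos two_pos (Nat.two_pow_pos (n - 2))), hh]
  · rw [← Subgroup.coe_mul, ← SubmonoidClass.coe_pow, hpow]
    congr 1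
    rw [hx, ← map_mul]
    congr 1
    simp

theorem exists_semi {n : ℕ} (hn : 4 ≤ n) (hcard : Nat.card D = 2 ^ n) (hsd : IsQuasiDihedral D) :
    ∃ σ τ, TG D σ τ (2 ^ (n - 2)) (2 ^ (n - 2) - 1) := by
  obtain ⟨m, hm, hc, x, y, hx, hy, hr⟩ := hsd
  have hmn : m = n - 1 := by
    have := Nat.pow_right_injective le_rfl (hc.symm.trans hcard)
    omega
  subst hmn
  rw [show n - 1 - 1 = n - 2 by omega] at hr
  set h := 2 ^ (n - 2) with hh
  have e : 2 ^ (n - 1) = 2 * h := by rw [hh, ← pow_succ', show n - 2 + 1 = n - 1 by omega]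
  have h4 : 4 ∣ h := ⟨2 ^ (n - 4), by rw [hh, show n - 2 = 2 + (n - 4) by omega, pow_add]; rfl⟩
  have h4' : 4 ≤ h := Nat.le_of_dvd (Nat.two_pow_pos _) h4
  refine ⟨(x : K), (y : K), ⟨⟨n - 3, by rw [hh, show n - 3 + 1 = n - 2 by omega]⟩, ?_⟩, ?_, x.2,
    y.2, ?_, congrArg Subtype.val hr, Or.inr ⟨rfl, ?_, h4⟩⟩
  · rw [Subgroup.orderOf_coe, hx, e]
  · rw [hcard, show n = n - 1 + 1 by omega, pow_succ', e]
  · rintro ⟨k, hk⟩
    have hk' : x ^ k = y := Subtype.ext (by rw [SubgroupClass.coe_zpow]; exact hk)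
    rw [← hk', ((Commute.refl x).zpow_left k).eq, mul_inv_cancel_right] at hr
    have h1 : x ^ (h - 2) = 1 := by
      have e1 : x ^ (h - 2) * x = 1 * x := by
        rw [one_mul, ← pow_succ, show h - 2 + 1 = h - 1 by omega]
        exact hr.symm
      exact mul_right_cancel e1
    have h3 := Nat.le_of_dvd (by omega) (orderOf_dvd_of_pow_eq_one h1)
    rw [hx, e] at h3
    omega
  · rw [← Subgroup.coe_mul, ← sq, ← hy, pow_orderOf_eq_one, Subgroup.coe_one]

end CfsgLib.Blocks.Tame
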