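import Cfsg.Agent.Lib.Blocks.TameBlock.Rot
import Cfsg.Agent.Lib.Blocks.DihBlock.RankThree.Extra
import Cfsg.Agent.Lib.Blocks.KleinBlocks

/-!
# The dihedral quotient by a central involution
-/

namespace CfsgLib.Blocks.Tame

open Cfsg CfsgLib.CharTheory
open scoped ComplexConjugate

set_option linter.unusedVariables false
set_option linter.unusedSimpArgs false
set_option linter.style.haveILetI false
set_option linter.unusedSectionVars false

universe u

variable {G : Type u} [Group G] [Fintype G] {M : Ideal AlgInt} {B : Set (IrrCharacter G)}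
  {D : Subgroup G} {e : Set (IrrCharacter (Subgroup.centralizer (D : Set G)))} {σ τ : G} {h r : ℕ}

/-- The image of the defect group. -/
theorem TG.map_quot (hd : TG D σ τ h r) {U : Subgroup G} [U.Normal]
    (hU : U = Subgroup.zpowers (σ ^ h)) :
    Nat.card (D.map (QuotientGroup.mk' U)) = 2 * h ∧
      Nonempty ((D.map (QuotientGroup.mk' U)) ≃* DihedralGroup h) := by
  classical
  have h2 := hd.two_le
  haveI : NeZero h := ⟨by omega⟩
  set π := QuotientGroup.mk' U with hπ
  have hker : ∀ g, π g = 1 ↔ g ∈ Subgroup.zpowers (σ ^ h) := fun g => by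
    rw [← hU, hπ, QuotientGroup.mk'_apply, QuotientGroup.eq_one_iff]
  have hzeq : ∀ g, g ∈ Subgroup.zpowers (σ ^ h) ↔ g = 1 ∨ g = σ ^ h := by
    intro g
    refine ⟨?_, ?_⟩
    · intro hg
      exact hd.toCyc.sq_eq_one (Subgroup.zpowers_le.2 (Subgroup.npow_mem_zpowers σ h) hg) (by
        obtain ⟨k, rfl⟩ := hg
        show (σ ^ h) ^ k * (σ ^ h) ^ k = 1
        rw [← (Commute.refl (σ ^ h)).mul_zpow, hd.toCyc.z_ne.2, one_zpow])
    · rintro (rfl | rfl)
      · exact one_mem _
      · exact Subgroup.mem_zpowers _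
  set S := π σ with hS
  set T := π τ with hT
  have hSh : S ^ h = 1 := by rw [hS, ← map_pow, hker]; exact Subgroup.mem_zpowers _
  have hTT : T * T = 1 := by
    rw [hT, ← map_mul, hker, hzeq]
    rcases hd.typ with ⟨-, e⟩ | ⟨-, e, -⟩
    · exact Or.inr e
    · exact Or.inl e
  have hrel : T * S * T⁻¹ = S⁻¹ := by
    rw [hS, hT, ← map_inv, ← map_inv, ← map_mul, ← map_mul, hd.rel, map_pow, map_inv, ← hS]
    refine eq_inv_of_mul_eq_one_left ?_
    rw [← pow_succ]
    rcases hd.typ with ⟨e, -⟩ | ⟨e, -, -⟩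
    · rw [show r + 1 = h * 2 by omega, pow_mul, hSh, one_pow]
    · rw [show r + 1 = h by omega, hSh]
  have hconj : ∀ i : ℕ, T * S ^ i * T⁻¹ = (S ^ i)⁻¹ := fun i => by
    rw [← _root_.conj_pow, hrel, inv_pow]
  -- powers indexed by residues
  have hp : ∀ i : ℕ, S ^ ((i : ZMod h).val) = S ^ i := fun i => by
    rw [ZMod.val_natCast, ← pow_eq_pow_mod _ hSh]
  let F : DihedralGroup h → G ⧸ U := fun x => match x with
    | .r i => S ^ i.val
    | .sr i => T * S ^ i.val
  have hadd : ∀ i j : ZMod h, S ^ (i + j).val = S ^ i.val * S ^ j.val := fun i j => by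
    rw [← pow_add, ← hp (i.val + j.val)]
    simp
  have hsub : ∀ i j : ZMod h, S ^ (j - i).val = (S ^ i.val)⁻¹ * S ^ j.val := fun i j => by
    rw [eq_inv_mul_iff_mul_eq, ← hadd, add_sub_cancel]
  have hswap : ∀ i : ℕ, T * S ^ i = (S ^ i)⁻¹ * T := fun i => by
    rw [← hconj i, inv_mul_cancel_right]
  have hmulF : ∀ x y, F (x * y) = F x * F y := by
    have hTinv : T⁻¹ = T := inv_eq_of_mul_eq_one_right hTT
    rintro (i | i) (j | j)
    · exact hadd i j
    · show T * S ^ (j - i).val = S ^ i.val * (T * S ^ j.val)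
      rw [hsub, ← mul_assoc, ← mul_assoc]
      congr 1
      have := hswap i.val
      rw [eq_inv_mul_iff_mul_eq] at this
      calc T * (S ^ i.val)⁻¹ = S ^ i.val * (T * S ^ i.val) * (S ^ i.val)⁻¹ := by rw [this]
        _ = S ^ i.val * T := by group
    · show T * S ^ (i + j).val = T * S ^ i.val * S ^ j.val
      rw [hadd, mul_assoc]
    · show S ^ (j - i).val = T * S ^ i.val * (T * S ^ j.val)
      rw [hsub, hswap i.val, mul_assoc, ← mul_assoc T T, hTT, one_mul]
  let Φ : DihedralGroup h →* G ⧸ U := MonoidHom.mk' F hmulF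
  have hinj : Function.Injective Φ := by
    rw [injective_iff_map_eq_one]
    rintro (i | i) hx
    · change S ^ i.val = 1 at hx
      rw [hS, ← map_pow, hker, hzeq] at hx
      have hlt := ZMod.val_lt i
      rcases hx with e1 | e1
      · have h0 : i.val = 0 := hd.toCyc.pow_inj (l := i.val) (m := 0) (by omega) (by omega)
          (by rw [e1, pow_zero])
        rw [ZMod.val_eq_zero] at h0
        rw [h0]; rfl
      · have := hd.toCyc.pow_inj (l := i.val) (m := h) (by omega) (by omega) e1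
        omega
    · exfalso
      change T * S ^ i.val = 1 at hx
      rw [hS, hT, ← map_pow, ← map_mul, hker] at hx
      have hmem : τ * σ ^ i.val ∈ Subgroup.zpowers σ :=
        Subgroup.zpowers_le.2 (Subgroup.npow_mem_zpowers σ h) hx
      exact hd.out ((Subgroup.mul_mem_cancel_right _ (Subgroup.npow_mem_zpowers σ i.val)).1 hmem)
  have hrange : Φ.range = D.map π := by
    apply le_antisymm
    · rintro _ ⟨x, rfl⟩
      rcases x with i | i
      · exact ⟨σ ^ i.val, hd.pow_mem' _, map_pow _ _ _⟩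
      · exact ⟨τ * σ ^ i.val, D.mul_mem hd.memτ (hd.pow_mem' _),
          (map_mul π τ _).trans (congrArg (T * ·) (map_pow _ _ _))⟩
    · rintro _ ⟨x, hx, rfl⟩
      obtain ⟨i, -, rfl | rfl⟩ := hd.mem_form hx
      · refine ⟨DihedralGroup.r (i : ZMod h), ?_⟩
        show S ^ ((i : ZMod h)).val = π (σ ^ i)
        rw [hp, map_pow]
      · refine ⟨DihedralGroup.r (i : ZMod h) * DihedralGroup.sr 0, ?_⟩
        rw [map_mul, map_mul]
        show S ^ ((i : ZMod h)).val * (T * S ^ (0 : ZMod h).val) = π (σ ^ i) * π τ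
        rw [hp, ZMod.val_zero, pow_zero, mul_one, map_pow]
  refine ⟨?_, ⟨((MulEquiv.subgroupCongr hrange).symm.trans (MonoidHom.ofInjective hinj).symm)⟩⟩
  rw [← hrange, ← Nat.card_congr (MonoidHom.ofInjective hinj).toEquiv, DihedralGroup.nat_card]

/-- The characters trivial on the central involution. -/
theorem TG.quot_count (hd : TG D σ τ h r) (hM : IsPModular 2 M)
    (hmax : IsMaximalBrauerPair 2 M B D e) (hz : σ ^ h ∈ Subgroup.center G) :
    ((bset B).filter fun χ : IrrCharacter G =>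
        (χ : G → ℂ) (σ ^ h) = (χ : G → ℂ) 1).card = h / 2 + 3 ∧
      4 ≤ ((bset B).filter fun χ : IrrCharacter G =>
        (χ : G → ℂ) (σ ^ h) = (χ : G → ℂ) 1 ∧ blockHeight 2 B (χ : G → ℂ) = 0).card := by
  classical
  haveI : Fact (Nat.Prime 2) := ⟨Nat.prime_two⟩
  set U := Subgroup.zpowers (σ ^ h) with hU
  have hUc : U ≤ Subgroup.center G := Subgroup.zpowers_le.2 hz
  haveI := normal_of_central hUc
  haveI := Fintype.ofFinite (G ⧸ U)
  have hUD : U ≤ D := Subgroup.zpowers_le.2 (hd.pow_mem' h)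
  obtain ⟨hQ, -⟩ := DihBlock.quot_block hM hmax.1.2.1 (hmax.1.1.1.to_le hUD) hUc
  have hD' := quot_defectGroup hM hmax hUc hUD
  obtain ⟨hcardD, hiso⟩ := hd.map_quot (U := U) hU
  set Q := quotBlock U B with hQdef
  have hcQ : Nat.card (D.map (QuotientGroup.mk' U)) = 2 ^ blockDefect 2 Q :=
    card_defectGroup hM hQ hD'
  have hminus : Nat.card (G ⧸ U) * 2 = Nat.card G := by
    rw [Subgroup.card_eq_card_quotient_mul_card_subgroup U]
    congr 1
    rw [hU, Nat.card_zpowers]
    exact (orderOf_eq_prime (p := 2) (by rw [sq]; exact hd.toCyc.z_ne.2) hd.toCyc.z_ne.1).symm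
  have hdvi : ∀ ψ : IrrCharacter (G ⧸ U),
      dv 2 (Inflation.inflIrr U ψ : G → ℂ) = dv 2 (ψ : G ⧸ U → ℂ) := fun ψ => by
    rw [dv, dv]
    congr 2
  have hmin : minDv 2 Q = minDv 2 B := by
    have e1 : 2 ^ blockDefect 2 B = 2 * 2 ^ blockDefect 2 Q := by
      rw [← hcQ, hcardD, ← card_defectGroup hM hmax.1.2.1 (maximal_isDefectGroup hM hmax), hd.card]
    rw [← pow_succ', (Nat.pow_right_injective (le_refl 2)).eq_iff, blockDefect_eq, blockDefect_eq,
      ← hminus, Nat.factorization_mul Nat.card_pos.ne' two_ne_zero, Finsupp.add_apply,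
      Nat.prime_two.factorization_self] at e1
    have h1 := minDv_le_card hM hQ
    have h2 := minDv_le_card hM hmax.1.2.1
    rw [← hminus, Nat.factorization_mul Nat.card_pos.ne' two_ne_zero, Finsupp.add_apply,
      Nat.prime_two.factorization_self] at h2
    omega
  have hinfl : Function.Injective (Inflation.inflIrr U : IrrCharacter (G ⧸ U) → IrrCharacter G) := by
    intro ψ φ e1
    refine Subtype.ext (funext fun q => ?_)
    obtain ⟨g, rfl⟩ := QuotientGroup.mk_surjective q
    rw [← Inflation.inflIrr_apply, ← Inflation.inflIrr_apply, e1]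
  have himg : ((bset Q).image (Inflation.inflIrr U)) =
      (bset B).filter fun χ : IrrCharacter G => (χ : G → ℂ) (σ ^ h) = (χ : G → ℂ) 1 := by
    ext χ
    simp only [Finset.mem_image, Finset.mem_filter, mem_bset]
    constructor
    · rintro ⟨ψ, hψ, rfl⟩
      refine ⟨hψ, ?_⟩
      rw [Inflation.inflIrr_apply, Inflation.inflIrr_apply,
        (QuotientGroup.eq_one_iff (σ ^ h)).2 (Subgroup.mem_zpowers _)]
      rfl
    · rintro ⟨hχ, hk⟩
      have hker : ∀ n ∈ U, (χ : G → ℂ) n = (χ : G → ℂ) 1 := by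
        intro n hn
        rcases hd.toCyc.sq_eq_one
          (Subgroup.zpowers_le.2 (Subgroup.npow_mem_zpowers σ h) hn) (by
            obtain ⟨k, rfl⟩ := hn
            show (σ ^ h) ^ k * (σ ^ h) ^ k = 1
            rw [← (Commute.refl (σ ^ h)).mul_zpow, hd.toCyc.z_ne.2, one_zpow]) with rfl | rfl
        · rfl
        · exact hk
      obtain ⟨φ, hφ, he⟩ := exists_quotient_irr U χ.2 hker
      have heq : Inflation.inflIrr U ⟨φ, hφ⟩ = χ := Subtype.ext he.symm
      exact ⟨⟨φ, hφ⟩, show Inflation.inflIrr U ⟨φ, hφ⟩ ∈ B from heq ▸ hχ, heq⟩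
  have hcount : Nat.card Q = h / 2 + 3 ∧
      4 ≤ Nat.card {ψ : IrrCharacter (G ⧸ U) // ψ ∈ Q ∧ blockHeight 2 Q (ψ : G ⧸ U → ℂ) = 0} := by
    obtain ⟨k, hk⟩ := hd.toCyc.hpow
    rcases k with _ | k
    · simp only [zero_add, pow_one] at hk
      subst hk
      have hV : IsKleinFour (D.map (QuotientGroup.mk' U)) := by
        obtain ⟨i⟩ := hiso
        refine ⟨hcardD, ?_⟩
        rw [Monoid.exponent_eq_of_mulEquiv i, DihedralGroup.exponent]
        rfl
      obtain ⟨c, hc⟩ := exists_maximal_at hM hQ hD'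
      obtain ⟨-, h4, -⟩ := klein_blocks hM hc hV
      refine ⟨by rw [h4], ?_⟩
      have hd2 : blockDefect 2 Q = 2 := Nat.pow_right_injective le_rfl
        (hcQ.symm.trans hcardD)
      rw [Nat.card_congr (Equiv.subtypeEquivRight fun ψ => (and_iff_left_of_imp fun hψ =>
        (height_zero_iff hψ).2 (height_zero_of_defect_two hM hQ hd2 hψ))), ← h4]
    · have hn : 3 ≤ k + 3 := by omega
      have he : 2 ^ (k + 3 - 1) = h := by rw [hk]; rfl
      obtain ⟨c1, -, -, c4, -⟩ := DihBlock.dihedral_block hM hQ hD' hn (he ▸ hiso)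
      refine ⟨?_, c4.ge⟩
      rw [c1, hk, show k + 3 - 2 = k + 1 by omega, show k + 1 + 1 = (k + 1) + 1 from rfl,
        pow_succ 2 (k + 1), Nat.mul_div_cancel _ two_pos]
  refine ⟨?_, ?_⟩
  · rw [← himg, Finset.card_image_of_injective _ hinfl, card_bset, hcount.1]
  · refine hcount.2.trans ?_
    rw [Nat.card_eq_fintype_card, Fintype.card_subtype, ← Finset.card_image_of_injective _ hinfl]
    refine Finset.card_le_card fun χ hχ => ?_
    obtain ⟨ψ, hψ, rfl⟩ := Finset.mem_image.1 hχ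
    obtain ⟨-, hψQ, h0⟩ := Finset.mem_filter.1 hψ
    have hm : Inflation.inflIrr U ψ ∈ (bset B).filter fun χ : IrrCharacter G =>
        (χ : G → ℂ) (σ ^ h) = (χ : G → ℂ) 1 :=
      himg ▸ Finset.mem_image_of_mem _ (mem_bset.2 hψQ)
    obtain ⟨hmB, hk⟩ := Finset.mem_filter.1 hm
    refine Finset.mem_filter.2 ⟨hmB, hk, ?_⟩
    rw [blockHeight_eq, hdvi, ← hmin, ← blockHeight_eq]
    exact h0

end CfsgLib.Blocks.Tame
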