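import Cfsg.Agent.Lib.Blocks.TameBlock.Count
import Cfsg.Agent.Lib.Blocks.TameBlock.Quot

/-!
# A tame block with a central involution
-/

namespace CfsgLib.Blocks.Tame

open Cfsg CfsgLib.CharTheory CfsgLib.Blocks.DihBlock
open scoped ComplexConjugate

set_option linter.unusedVariables false
set_option linter.unusedSimpArgs false
set_option linter.style.haveILetI false
set_option linter.unusedSectionVars false

universe u

variable {G : Type u} [Group G] [Fintype G] {M : Ideal AlgInt} {B : Set (IrrCharacter G)}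
  {D : Subgroup G} {e : Set (IrrCharacter (Subgroup.centralizer (D : Set G)))} {σ τ : G} {h r : ℕ}

/-- At a central element the pairing is the pairing at the identity twisted by the central values. -/
theorem pp_central (hM : IsPModular 2 M) (hmax : IsMaximalBrauerPair 2 M B D e) {u : G}
    (hu : u ∈ D) (huc : u ∈ Subgroup.center G) {χ : IrrCharacter G} (hχ : χ ∈ B) :
    pp 2 M D e u χ χ = ((χ : G → ℂ) u / (χ : G → ℂ) 1) *
      conj ((χ : G → ℂ) u / (χ : G → ℂ) 1) *
        (regS 2 (χ : G → ℂ) (χ : G → ℂ) * (Nat.card G : ℂ)⁻¹) := by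
  classical
  haveI : Fact (Nat.Prime 2) := ⟨Nat.prime_two⟩
  have hB := hmax.1.2.1
  obtain ⟨hb1, -, hb3⟩ := bEl_spec hM hmax hu
  have hcomm : ∀ g : G, Commute g u := fun g => Subgroup.mem_center_iff.1 huc g
  obtain ⟨k, hk⟩ := IsPGroup.iff_orderOf.1 hmax.1.1.1 ⟨u, hu⟩
  rw [← Subgroup.orderOf_coe] at hk
  have hone : ∀ a' ∈ pairsAt M (Subgroup.zpowers u), IsBrauerPairOf 2 M B a'.1 a'.2 →
      a' = bEl 2 M D e u := by
    intro a' ha hp
    obtain ⟨g, hg⟩ := (carries_iff_pairOf hM hmax).2 hp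
    have h1 := bEl_unique hM hmax (mem_pairsAt.1 ha).1 hg
    rw [(hcomm g).eq, mul_inv_cancel_right] at h1
    rw [h1]
    obtain ⟨R, b⟩ := a'
    obtain rfl : R = Subgroup.zpowers u := (mem_pairsAt.1 ha).1
    exact (cent_le_pairStab _ b ((isCentr_zpowers u g).2 (hcomm g))).symm
  have hval : ∀ c ∈ regC 2 u, pairVal (bEl 2 M D e u) (χ : G → ℂ) (u * c) =
      (χ : G → ℂ) u / (χ : G → ℂ) 1 * (χ : G → ℂ) c := by
    intro c hc
    rw [← Finset.sum_eq_single (s := pairsAt M (Subgroup.zpowers u))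
      (f := fun a' => pairVal a' (χ : G → ℂ) (u * c)) _ (fun a' ha hne => ?_)
      (fun hn => absurd hb1 hn), sum_pairVal hM (irr_isClassFun χ) hc, central_value_mul huc]
    exact pairVal_off hM hB hχ ⟨k, hk⟩ ha (fun hp => hne (hone a' ha hp)) hc
  have hC : Nat.card (Subgroup.centralizer ((Subgroup.zpowers u : Subgroup G) : Set G)) =
      Nat.card G := by
    rw [show Subgroup.centralizer ((Subgroup.zpowers u : Subgroup G) : Set G) = ⊤ from
      eq_top_iff.2 fun g _ => (isCentr_zpowers u g).2 (hcomm g), Subgroup.card_top]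
  have hpT : pairT 2 (bEl 2 M D e u) u (χ : G → ℂ) (χ : G → ℂ) =
      ((χ : G → ℂ) u / (χ : G → ℂ) 1) * conj ((χ : G → ℂ) u / (χ : G → ℂ) 1) *
        regS 2 (χ : G → ℂ) (χ : G → ℂ) := by
    rw [regS_eq_sum, pairT, Finset.mul_sum]
    refine Finset.sum_congr ?_ fun c hc => ?_
    · ext c
      simp only [mem_regC, Finset.mem_filter, Finset.mem_univ, true_and]
      exact ⟨fun h => h.2, fun h => ⟨(hcomm c).symm, h⟩⟩
    · have hc' : c ∈ regC 2 u :=
        mem_regC.2 ⟨(hcomm c).symm, (Finset.mem_filter.1 hc).2⟩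
      rw [hval c hc', map_mul, irr_conjInv χ c]
      ring
  rw [pp, hC, hpT, mul_assoc]

/-- The rotations sent to themselves times the involution. -/
theorem TG.half_turn (hd : TG D σ τ h r) {i : ℕ} (hi : Good h i) :
    r * i % (2 * h) = (i + h) % (2 * h) ↔ i = h / 2 ∨ i = h + h / 2 := by
  obtain ⟨i0, i1, i2⟩ := hi
  obtain ⟨q, hq, hq0⟩ := hd.half
  have hih : (i + h) % (2 * h) = if i < h then i + h else i - h := by
    split_ifs with hlt
    · rw [Nat.mod_eq_of_lt (by omega)]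
    · rw [show i + h = (i - h) + 2 * h by omega, Nat.add_mod_right, Nat.mod_eq_of_lt (by omega)]
  rcases hd.typ with ⟨e, -⟩ | ⟨e, -, h4⟩
  · have hri : r * i % (2 * h) = 2 * h - i := by
      obtain ⟨j, rfl⟩ : ∃ j, i = j + 1 := ⟨i - 1, by omega⟩
      obtain ⟨w, hw⟩ : ∃ w, 2 * h = w + 1 + j + 1 := ⟨2 * h - j - 2, by omega⟩
      rw [e, hw, show w + 1 + j + 1 - 1 = w + 1 + j by omega,
        show (w + 1 + j) * (j + 1) = (w + 1 + j + 1) * j + (w + 1) by ring, Nat.mul_add_mod,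
        Nat.mod_eq_of_lt (by omega)]
      omega
    rw [hri, hih]
    split_ifs <;> omega
  · obtain ⟨k, hk | hk⟩ := Nat.even_or_odd' i
    · have hri : r * i % (2 * h) = 2 * h - i := by
        obtain ⟨j, rfl⟩ : ∃ j, k = j + 1 := ⟨k - 1, by omega⟩
        subst hk
        obtain ⟨w, hw⟩ : ∃ w, 2 * h = w + 1 + 2 * (j + 1) := ⟨2 * h - 2 * (j + 1) - 1, by omega⟩
        obtain ⟨v, hv⟩ : ∃ v, h = v + 1 := ⟨h - 1, by omega⟩
        rw [e, show h - 1 = v by omega, show v * (2 * (j + 1)) = 2 * h * j + (2 * h - 2 * (j + 1)) by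
          rw [hw, Nat.add_sub_cancel]
          nlinarith,
          Nat.mul_add_mod, Nat.mod_eq_of_lt (by omega)]
      rw [hri, hih]
      split_ifs <;> omega
    · have hri : r * i % (2 * h) = if i < h then h - i else 3 * h - i := by
        subst hk
        obtain ⟨v, hv⟩ : ∃ v, h = v + 1 := ⟨h - 1, by omega⟩
        rw [e, show h - 1 = v by omega]
        split_ifs with hlt
        · rw [show v * (2 * k + 1) = 2 * h * k + (h - (2 * k + 1)) by
            have : h - (2 * k + 1) + (2 * k + 1) = h := by omega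
            nlinarith, Nat.mul_add_mod, Nat.mod_eq_of_lt (by omega)]
        · obtain ⟨j, rfl⟩ : ∃ j, k = j + 1 := ⟨k - 1, by omega⟩
          rw [show v * (2 * (j + 1) + 1) = 2 * h * j + (3 * h - (2 * (j + 1) + 1)) by
            have : 3 * h - (2 * (j + 1) + 1) + (2 * (j + 1) + 1) = 3 * h := by omega
            nlinarith, Nat.mul_add_mod, Nat.mod_eq_of_lt (by omega)]
      rw [hri, hih]
      obtain ⟨q', hq'⟩ := h4
      split_ifs <;> omega

/-- With a central involution the rank and the unfused outer classes add up to three. -/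
theorem TG.central_sum (hd : TG D σ τ h r) (hM : IsPModular 2 M)
    (hmax : IsMaximalBrauerPair 2 M B D e) (hz : σ ^ h ∈ Subgroup.center G) :
    lz M D e σ h + (uset M D e σ τ).card = 3 := by
  classical
  haveI : Fact (Nat.Prime 2) := ⟨Nat.prime_two⟩
  haveI := Fintype.ofFinite (nr σ h)
  obtain ⟨f, a, s, t, L⟩ := exists_loc hM hmax hd
  obtain ⟨ψ₀, T, P⟩ := L.exists_par
  have h2 := hd.two_le
  have hB := hmax.1.2.1
  have hζ := Complex.isPrimitiveRoot_exp (2 * h) (by omega)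
  obtain ⟨b, C⟩ := P.exists_cf hζ
  -- the central signs
  set w : IrrCharacter G → ℂ := fun χ => (χ : G → ℂ) (σ ^ h) / (χ : G → ℂ) 1 with hw
  have hzo : orderOf (σ ^ h) = 2 :=
    orderOf_eq_prime (by rw [sq]; exact hd.toCyc.z_ne.2) hd.toCyc.z_ne.1
  have hw2 : ∀ χ, w χ * w χ = 1 := fun χ => by
    have := central_value_pow hz χ
    rw [hzo, sq] at this
    exact this
  have hwpm : ∀ χ, w χ = 1 ∨ w χ = -1 := fun χ => mul_self_eq_one_iff.1 (hw2 χ)
  have hwc : ∀ χ, conj (w χ) = w χ := fun χ => by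
    rcases hwpm χ with e | e <;> rw [e] <;> simp
  -- the ranks agree
  have hqz : ∀ χ ∈ bset B, qz M D e σ h χ χ = (q1 B χ χ : ℂ) := by
    intro χ hχ
    have h1 := q1_spec hM hB (mem_bset.1 hχ) (mem_bset.1 hχ)
    rw [qz, pp_central hM hmax (hd.pow_mem' h) hz (mem_bset.1 hχ),
      show (χ : G → ℂ) (σ ^ h) / (χ : G → ℂ) 1 = w χ from rfl, hwc, hw2, one_mul, ← mul_assoc,
      show ((4 * h : ℕ) : ℂ) = ((2 : ℕ) : ℂ) ^ blockDefect 2 B by
        rw [← Nat.cast_pow, hd.defect hM hmax], h1, mul_comm (Nat.card G : ℂ), mul_assoc,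
      mul_inv_cancel₀ (Nat.cast_ne_zero.2 Nat.card_pos.ne'), mul_one]
  have hlz : lz M D e σ h = blockRank 2 B := by
    have h1 := P.sum_qz
    rw [Finset.sum_congr rfl hqz, sum_q1 hM hB, ← Nat.cast_pow, hd.defect hM hmax] at h1
    exact_mod_cast (mul_left_cancel₀ (Nat.cast_ne_zero.2 (by omega)) h1).symm
  -- weak orthogonality
  have hq0 : ∑ χ ∈ bset B, w χ * (q1 B χ χ : ℂ) = 0 := by
    apply mul_left_cancel₀ (Nat.cast_ne_zero.2 Nat.card_pos.ne' : (Nat.card G : ℂ) ≠ 0)
    rw [mul_zero, Finset.mul_sum, Finset.sum_congr rfl fun χ hχ => by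
      rw [mul_left_comm, ← q1_spec hM hB (mem_bset.1 hχ) (mem_bset.1 hχ), regS_eq_sum,
        Finset.mul_sum, Finset.mul_sum]]
    rw [Finset.sum_comm]
    refine Finset.sum_eq_zero fun g hg => ?_
    have hgr := (Finset.mem_filter.1 hg).2
    have hsing : 2 ∣ orderOf (σ ^ h * g) := by
      rw [Commute.orderOf_mul_eq_mul_orderOf_of_coprime
        (Subgroup.mem_center_iff.1 hz g).symm (hzo ▸ (Nat.prime_two.coprime_iff_not_dvd.2 hgr)), hzo]
      exact dvd_mul_right 2 _
    have h3 := weak_orth hM hB (x := g⁻¹) (by rwa [orderOf_inv]) hsing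
    rw [← mul_zero (((2 : ℕ) : ℂ) ^ blockDefect 2 B), ← h3, Finset.mul_sum]
    refine Finset.sum_congr rfl fun χ _ => ?_
    rw [central_value_mul hz χ g]
    simp only [hw]
    ring
  -- the rotations
  set ω0 : ℂ := (ψ₀ : nr σ h → ℂ) (s ^ h) / (ψ₀ : nr σ h → ℂ) 1 with hω0
  have hlam : ∀ χ i, Good h i →
      w χ * lam a T χ (s ^ i) = ω0 * lam a T χ (s ^ (i + h)) := fun χ i hi =>
    (P.lam_central hz χ hi).symm
  -- the count of the quotient
  obtain ⟨hplus, hfour⟩ := hd.quot_count hM hmax hz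
  have hEplus : ∀ χ ∈ eset B b, w χ = 1 := by
    intro χ hχ
    have hsub : ((bset B).filter fun χ : IrrCharacter G =>
        (χ : G → ℂ) (σ ^ h) = (χ : G → ℂ) 1 ∧ blockHeight 2 B (χ : G → ℂ) = 0) ⊆ eset B b := by
      intro ψ hψ
      obtain ⟨hψB, -, h0⟩ := Finset.mem_filter.1 hψ
      exact mem_eset.2 ⟨mem_bset.1 hψB, (P.height_odd hζ C (mem_bset.1 hψB)).2 h0⟩
    have heq := Finset.eq_of_subset_of_card_le hsub (by rw [(P.gram_even hζ C).x_vals.1]; exact hfour)
    rw [← heq] at hχ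
    simp only [hw]
    rw [(Finset.mem_filter.1 hχ).2.1, div_self (irr_one_ne_zero χ)]
  have hω1 : ω0 = 1 := by
    obtain ⟨θ, hθE⟩ := (P.gram_even hζ C).ne
    obtain ⟨hθ, hodd⟩ := mem_eset.1 hθE
    have hg := P.dg.rho_good
    have h3 := hlam θ _ hg
    have e : s ^ (h / 2 + h) = s ^ (r * (h / 2) % (2 * h)) := by
      rw [((P.dg.half_turn hg).2 (Or.inl rfl)), P.dg.pow_mod]
    rw [e, P.lam_conj, hEplus θ hθE, one_mul] at h3
    obtain ⟨c, hc⟩ := P.lam_rho hζ C θ
    have hne : lam a T θ (s ^ (h / 2)) ≠ 0 := by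
      rw [hc, Int.cast_ne_zero]
      obtain ⟨k, hk⟩ := hodd
      omega
    exact ((mul_eq_right₀ hne).1 h3.symm)
  have hTT : ∀ i ∈ gset h, ∑ χ ∈ bset B, w χ * (lam a T χ (s ^ i) * conj (lam a T χ (s ^ i))) =
      if i = h / 2 ∨ i = h + h / 2 then ((2 * h : ℕ) : ℂ) else 0 := by
    intro i hi
    have hg := (Finset.mem_filter.1 hi).2
    obtain ⟨i0, i1, i2⟩ := id hg
    set j := (i + h) % (2 * h) with hj
    have hjg : Good h j := by
      rcases lt_or_gt_of_ne i2 with hlt | hgt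
      · rw [hj, Nat.mod_eq_of_lt (by omega)]; exact ⟨by omega, by omega, by omega⟩
      · rw [hj, show i + h = (i - h) + 2 * h by omega, Nat.add_mod_right,
          Nat.mod_eq_of_lt (by omega)]
        exact ⟨by omega, by omega, by omega⟩
    rw [Finset.sum_congr rfl fun χ _ => by
      rw [← mul_assoc, hlam χ i hg, hω1, one_mul, ← P.dg.pow_mod (i + h)], P.orth hjg hg]
    have hne : ¬ i = j := by
      intro e1
      rcases lt_or_gt_of_ne i2 with hlt | hgt
      · rw [hj, Nat.mod_eq_of_lt (by omega)] at e1; omega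
      · rw [hj, show i + h = (i - h) + 2 * h by omega, Nat.add_mod_right,
          Nat.mod_eq_of_lt (by omega)] at e1
        omega
    have hiff : (i = r * j % (2 * h)) ↔ (i = h / 2 ∨ i = h + h / 2) := by
      rw [← hd.half_turn hg, ← hj]
      constructor
      · intro e1
        conv_lhs => rw [e1]
        exact hd.r_inv (Nat.mod_lt _ (by omega))
      · intro e1
        rw [← e1, hd.r_inv i1]
    rw [if_neg hne, if_congr hiff rfl rfl]
    split_ifs <;> simp
  have hpairs : (gset h).filter (fun i => i = h / 2 ∨ i = h + h / 2) = {h / 2, h + h / 2} := by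
    obtain ⟨q, hq, hq0⟩ := hd.half
    ext i
    simp only [Finset.mem_filter, gset, Finset.mem_range, Good, Finset.mem_insert,
      Finset.mem_singleton]
    omega
  have hTsum : ∑ χ ∈ bset B, w χ * ∑ i ∈ gset h, lam a T χ (s ^ i) * conj (lam a T χ (s ^ i)) =
      ((4 * h : ℕ) : ℂ) := by
    simp only [Finset.mul_sum]
    rw [Finset.sum_comm, Finset.sum_congr rfl hTT, ← Finset.sum_filter, hpairs, Finset.sum_const,
      Finset.card_pair (by omega), nsmul_eq_mul]
    push_cast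
    ring
  have hS : ∀ x ∈ uset M D e σ τ,
      ∑ χ ∈ bset B, w χ * ((h : ℂ) * sv M D e (oe σ τ x) χ χ) = ((4 * h : ℕ) : ℂ) := by
    intro x hx
    rw [← Finset.sum_subset (s₁ := eset B b) (Finset.filter_subset _ _) fun χ hχ hn => by
      rw [(P.svz_spec hζ C hx (mem_bset.1 hχ) (mem_bset.1 hχ)).1,
        ((P.svz_values hζ C hx (mem_bset.1 hχ)).2 hn).1, Int.cast_zero, mul_zero, mul_zero],
      Finset.sum_congr rfl fun χ hχ => by
        rw [(P.svz_spec hζ C hx (mem_eset.1 hχ).1 (mem_eset.1 hχ).1).1,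
          (P.svz_values hζ C hx (mem_eset.1 hχ).1).1 hχ, hEplus χ hχ, Int.cast_one, one_mul,
          mul_one], Finset.sum_const, (P.gram_even hζ C).x_vals.1, nsmul_eq_mul]
    push_cast
    ring
  have hmain : ((4 * h : ℕ) : ℂ) * ∑ χ ∈ bset B, w χ =
      ((4 * h : ℕ) : ℂ) * ((1 + (uset M D e σ τ).card : ℕ) : ℂ) := by
    have e : ∀ χ ∈ bset B, ((4 * h : ℕ) : ℂ) * w χ = w χ * (q1 B χ χ : ℂ) + w χ * (q1 B χ χ : ℂ) +
        w χ * ∑ i ∈ gset h, lam a T χ (s ^ i) * conj (lam a T χ (s ^ i)) +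
        ∑ x ∈ uset M D e σ τ, w χ * ((h : ℂ) * sv M D e (oe σ τ x) χ χ) := by
      intro χ hχ
      have h1 := P.formula_one (hd.cover hM hmax) (mem_bset.1 hχ) (mem_bset.1 hχ)
      rw [if_pos rfl, hqz χ hχ] at h1
      rw [← h1, mul_comm _ (w χ), mul_add, Finset.mul_sum (uset M D e σ τ)]
      ring
    rw [Finset.mul_sum, Finset.sum_congr rfl e, Finset.sum_add_distrib, Finset.sum_add_distrib,
      Finset.sum_add_distrib, hq0, hTsum, Finset.sum_comm, Finset.sum_congr rfl hS,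
      Finset.sum_const, nsmul_eq_mul]
    push_cast
    ring
  have hsum := mul_left_cancel₀ (Nat.cast_ne_zero.2 (by omega)) hmain
  set pl := (bset B).filter fun χ : IrrCharacter G => (χ : G → ℂ) (σ ^ h) = (χ : G → ℂ) 1 with hpl
  have hsum2 : ∑ χ ∈ bset B, (w χ + 1) = ((2 * pl.card : ℕ) : ℂ) := by
    rw [hpl, Finset.card_filter, Finset.mul_sum, Nat.cast_sum]
    refine Finset.sum_congr rfl fun χ hχ => ?_
    have hiff : (χ : G → ℂ) (σ ^ h) = (χ : G → ℂ) 1 ↔ w χ = 1 := by
      simp only [hw]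
      rw [div_eq_one_iff_eq (irr_one_ne_zero χ)]
    rcases hwpm χ with e | e
    · rw [e, if_pos (hiff.2 e)]; norm_num
    · rw [e, if_neg fun h' => by rw [hiff.1 h'] at e; norm_num at e]; norm_num
  rw [Finset.sum_add_distrib, hsum, Finset.sum_const, nsmul_eq_mul, mul_one, ← Nat.cast_add,
    Nat.cast_inj, hplus] at hsum2
  have hk := P.card_formula
  rw [hlz] at hk ⊢
  have := hd.h_even
  omega

end CfsgLib.Blocks.Tame
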