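import Cfsg.Agent.Lib.Blocks.TameBlock.Rot
import Cfsg.Agent.Lib.Blocks.Dihedral.Fourier

/-!
# The integral coefficients of the columns at the rotations
-/

namespace CfsgLib.Blocks.Tame

open Cfsg CfsgLib.CharTheory CfsgLib.Blocks.Dihedral
open scoped ComplexConjugate

set_option linter.unusedVariables false
set_option linter.unusedSimpArgs false
set_option linter.style.haveILetI false
set_option linter.unusedSectionVars false

universe u

/-- The exponent subtracted from. -/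
def pj (h j : ℕ) : ℕ := if j % 2 = 0 then h else 1

/-- The symmetrised delta. -/
def d2 (h r x y : ℕ) : ℤ := (if x = y then 1 else 0) + if x = r * y % (2 * h) then 1 else 0

/-- One exponent from each pair of a parity, the special ones left out. -/
def reps (h r p : ℕ) : Finset ℕ :=
  (Finset.range (2 * h)).filter fun j =>
    j % 2 = p ∧ j < r * j % (2 * h) ∧ j ≠ 0 ∧ j ≠ h ∧ j ≠ 1 ∧ j ≠ r

section Nat

variable {K : Type u} [Group K] [Finite K] {D : Subgroup K} {σ τ : K} {h r : ℕ}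

theorem TG.h_even (hd : TG D σ τ h r) : h % 2 = 0 := by
  obtain ⟨q, hq, -⟩ := hd.half
  omega

theorem TG.r_lt (hd : TG D σ τ h r) : r < 2 * h ∧ 1 < r := by
  obtain ⟨q, hq, hq0⟩ := hd.half
  rcases hd.typ with ⟨e, -⟩ | ⟨e, -, w, hw⟩ <;> omega

theorem TG.pj_le (hd : TG D σ τ h r) (j : ℕ) : pj h j < 2 * h := by
  have := hd.two_le
  unfold pj; split_ifs <;> omega

theorem TG.pj_parity (hd : TG D σ τ h r) (j : ℕ) : pj h j % 2 = j % 2 := by
  have := hd.h_even
  unfold pj; split_ifs <;> omega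

theorem TG.r_par (hd : TG D σ τ h r) (j : ℕ) : r * j % (2 * h) % 2 = j % 2 := by
  obtain ⟨v, hv⟩ := hd.r_odd
  rw [Nat.mod_mod_of_dvd _ ⟨h, rfl⟩, hv, Nat.mul_mod, show (2 * v + 1) % 2 = 1 by omega, one_mul,
    Nat.mod_mod]

theorem TG.r_inv (hd : TG D σ τ h r) {j : ℕ} (hj : j < 2 * h) :
    r * (r * j % (2 * h)) % (2 * h) = j := by
  rw [Nat.mul_mod_mod, hd.r_sq, Nat.mod_eq_of_lt hj]

theorem TG.r_eq_iff (hd : TG D σ τ h r) {j : ℕ} (hj : j < 2 * h) :
    r * j % (2 * h) = j ↔ j = 0 ∨ j = h := by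
  constructor
  · intro e
    by_contra hc
    push Not at hc
    exact (hd.r_good (i := j) ⟨by omega, hj, hc.2⟩).2 e
  · rintro (rfl | rfl)
    · simp
    · exact hd.r_mul_h

/-- A sum over a parity in terms of the representatives. -/
theorem TG.sum_parity (hd : TG D σ τ h r) {R : Type*} [AddCommMonoid R] {p : ℕ} (hp : p < 2)
    (F : ℕ → R) (hF : ∀ j < 2 * h, F (r * j % (2 * h)) = F j) :
    ∑ j ∈ (Finset.range (2 * h)).filter (fun j => j % 2 = p), F j =
      (if p = 0 then F 0 + F h else F 1 + F r) + 2 • ∑ j ∈ reps h r p, F j := by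
  classical
  have h2 := hd.two_le
  have hh := hd.h_even
  obtain ⟨v, hv⟩ := hd.r_odd
  obtain ⟨hr1, hr2⟩ := hd.r_lt
  set W := (Finset.range (2 * h)).filter (fun j => j % 2 = p) with hW
  set e1 : ℕ := if p = 0 then 0 else 1 with he1
  set e2 : ℕ := if p = 0 then h else r with he2
  have hsub : ({e1, e2} : Finset ℕ) ⊆ W := by
    intro j hj
    simp only [Finset.mem_insert, Finset.mem_singleton] at hj
    simp only [hW, Finset.mem_filter, Finset.mem_range, he1, he2] at hj ⊢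
    rcases hj with rfl | rfl <;> split_ifs <;> omega
  have hne : e1 ≠ e2 := by simp only [he1, he2]; split_ifs <;> omega
  have hpair : (if p = 0 then F 0 + F h else F 1 + F r) = ∑ j ∈ ({e1, e2} : Finset ℕ), F j := by
    rw [Finset.sum_pair hne]; simp only [he1, he2]; split_ifs <;> rfl
  rw [hpair, ← Finset.sum_sdiff hsub, add_comm]
  congr 1
  have hmem : ∀ j, j ∈ W \ {e1, e2} ↔ j < 2 * h ∧ j % 2 = p ∧ j ≠ 0 ∧ j ≠ h ∧ j ≠ 1 ∧ j ≠ r := by
    intro j
    simp only [Finset.mem_sdiff, hW, Finset.mem_filter, Finset.mem_range, Finset.mem_insert,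
      Finset.mem_singleton, he1, he2]
    split_ifs <;> omega
  have hclosed : ∀ j ∈ W \ {e1, e2}, r * j % (2 * h) ∈ W \ {e1, e2} := by
    intro j hj
    rw [hmem] at hj ⊢
    obtain ⟨hj1, hj2, a, b, c, d⟩ := hj
    have hg := (hd.r_good (i := j) ⟨by omega, hj1, b⟩).1
    have hback := hd.r_inv hj1
    refine ⟨hg.2.1, by rw [hd.r_par, hj2], hg.1.ne', hg.2.2, fun e => ?_, fun e => ?_⟩
    · rw [e, mul_one, Nat.mod_eq_of_lt hr1] at hback
      exact d hback.symm
    · rw [e, show r * r % (2 * h) = 1 by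
        have := hd.r_sq 1
        rwa [mul_one, Nat.mod_eq_of_lt (show 1 < 2 * h by omega)] at this] at hback
      exact c hback.symm
  have hsplit : W \ {e1, e2} = reps h r p ∪ (reps h r p).image fun j => r * j % (2 * h) := by
    ext j
    constructor
    · intro hj
      obtain ⟨hj1, hj2, a, b, c, d⟩ := (hmem j).1 hj
      rcases lt_or_gt_of_ne (show j ≠ r * j % (2 * h) from fun e =>
        ((hd.r_eq_iff hj1).1 e.symm).elim a b) with hlt | hgt
      · exact Finset.mem_union_left _ (Finset.mem_filter.2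
          ⟨Finset.mem_range.2 hj1, hj2, hlt, a, b, c, d⟩)
      · obtain ⟨hk1, hk2, a', b', c', d'⟩ := (hmem _).1 (hclosed j hj)
        exact Finset.mem_union_right _ (Finset.mem_image.2 ⟨_, Finset.mem_filter.2
          ⟨Finset.mem_range.2 hk1, hk2, by rw [hd.r_inv hj1]; exact hgt, a', b', c', d'⟩,
          hd.r_inv hj1⟩)
    · intro hj
      rcases Finset.mem_union.1 hj with hj | hj
      · obtain ⟨hj1, hj2, -, hj3⟩ := Finset.mem_filter.1 hj
        exact (hmem j).2 ⟨Finset.mem_range.1 hj1, hj2, hj3⟩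
      · obtain ⟨k, hk, rfl⟩ := Finset.mem_image.1 hj
        obtain ⟨hj1, hj2, -, hj3⟩ := Finset.mem_filter.1 hk
        exact hclosed k ((hmem k).2 ⟨Finset.mem_range.1 hj1, hj2, hj3⟩)
  have hdisj : Disjoint (reps h r p) ((reps h r p).image fun j => r * j % (2 * h)) := by
    rw [Finset.disjoint_right]
    intro j hj hj'
    obtain ⟨k, hk, rfl⟩ := Finset.mem_image.1 hj
    obtain ⟨hk1, -, hk3, -⟩ := Finset.mem_filter.1 hk
    obtain ⟨-, -, hj3, -⟩ := Finset.mem_filter.1 hj'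
    rw [hd.r_inv (Finset.mem_range.1 hk1)] at hj3
    omega
  rw [hsplit, Finset.sum_union hdisj, two_nsmul]
  congr 1
  rw [Finset.sum_image fun a ha b hb e => ?_]
  · exact Finset.sum_congr rfl fun j hj => hF j (Finset.mem_range.1 (Finset.mem_filter.1 hj).1)
  · have := congrArg (fun x => r * x % (2 * h)) e
    simp only [hd.r_inv (Finset.mem_range.1 (Finset.mem_filter.1 ha).1),
      hd.r_inv (Finset.mem_range.1 (Finset.mem_filter.1 hb).1)] at this
    exact this

theorem card_parity (h p : ℕ) (hp : p < 2) :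
    ((Finset.range (2 * h)).filter fun j => j % 2 = p).card = h := by
  rw [show ((Finset.range (2 * h)).filter fun j => j % 2 = p) =
    (Finset.range h).image fun i => 2 * i + p from by
      ext j
      simp only [Finset.mem_filter, Finset.mem_range, Finset.mem_image]
      exact ⟨fun ⟨h1, h2⟩ => ⟨j / 2, by omega, by omega⟩, by rintro ⟨i, hi, rfl⟩; omega⟩,
    Finset.card_image_of_injective _ (fun a b (e : 2 * a + p = 2 * b + p) => by omega), Finset.card_range]

theorem TG.card_reps (hd : TG D σ τ h r) {p : ℕ} (hp : p < 2) :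
    (reps h r p).card = h / 2 - 1 := by
  have e := hd.sum_parity hp (fun _ => 1) (fun _ _ => rfl)
  simp only [Finset.sum_const, smul_eq_mul, mul_one] at e
  rw [card_parity h p hp] at e
  split_ifs at e <;> omega

end Nat

variable {G : Type u} [Group G] [Fintype G] {M : Ideal AlgInt} {B : Set (IrrCharacter G)}
  {D : Subgroup G} {e : Set (IrrCharacter (Subgroup.centralizer (D : Set G)))} {σ τ : G} {h r : ℕ}
  [Fintype (nr σ h)] {f : Set (IrrCharacter (nr σ h))} {a : BrauerPairIdx (nr σ h)}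
  {s t : nr σ h} {ψ₀ : IrrCharacter (nr σ h)} {T : IrrCharacter a.1 → IrrCharacter (nr σ h)}
  {ζ : ℂ}

/-- The kernel of the coefficient `j`. -/
noncomputable def kF (h : ℕ) (ζ : ℂ) (j l : ℕ) : ℂ :=
  (ζ ^ (2 * h - j)) ^ l - (ζ ^ (2 * h - pj h j)) ^ l

theorem Par.coef_int (P : Par M B D e σ τ h r f a s t ψ₀ T) (hζ : IsPrimitiveRoot ζ (2 * h))
    (χ : IrrCharacter G) {i : ℕ} (hi : i ≤ 2 * h) :
    ∃ m : ℤ, coef (2 * h) ζ s (lam a T χ) i = (m : ℂ) := by
  classical
  haveI := Fintype.ofFinite a.1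
  haveI : NeZero (2 * h) := ⟨by have := P.hd.two_le; omega⟩
  set s' : a.1 := ⟨s, P.dg.memσ⟩ with hs'
  have hN : s' ^ (2 * h) = 1 := Subtype.ext (by
    rw [SubmonoidClass.coe_pow]; exact P.dg.toCyc.pow_N)
  choose m hm using fun l : IrrCharacter a.1 =>
    Dihedral.coef_int hζ hN (isCharacter_of_irr l.2) hi
  choose n hn using fun l : IrrCharacter a.1 =>
    classInner_char_nat (isCharacter_restrict_irr (nr σ h) χ) (isCharacter_of_irr (T l).2)
  refine ⟨∑ l, (n l : ℤ) * m l, ?_⟩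
  push_cast
  simp only [← hm, coef, Finset.mul_sum]
  rw [Finset.sum_comm]
  refine Finset.sum_congr rfl fun t _ => ?_
  rw [lam, Finset.sum_mul, Finset.mul_sum]
  refine Finset.sum_congr rfl fun l _ => ?_
  rw [hn, show s ^ t = ((s' ^ t : a.1) : nr σ h) by rw [SubmonoidClass.coe_pow],
    sext_coe a.1 (l : a.1 → ℂ) (s' ^ t)]
  ring

/-- The integral coefficients. -/
structure Cf {σ : G} (h r : ℕ) [Fintype (nr σ h)] (ζ : ℂ) (s : nr σ h) (a : BrauerPairIdx (nr σ h))
    (T : IrrCharacter a.1 → IrrCharacter (nr σ h)) (b : IrrCharacter G → ℕ → ℤ) : Prop where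
  eq : ∀ χ j, j < 2 * h → (b χ j : ℂ) =
    ((2 * h : ℕ) : ℂ)⁻¹ * ∑ l ∈ Finset.range (2 * h), lam a T χ (s ^ l) * kF h ζ j l
  sym : ∀ χ j, j < 2 * h → b χ (r * j % (2 * h)) = b χ j
  bh : ∀ χ, b χ h = 0
  b1 : ∀ χ, b χ 1 = 0
  br : ∀ χ, b χ r = 0
  val : ∀ χ i, Good h i →
    lam a T χ (s ^ i) = ∑ j ∈ Finset.range (2 * h), (b χ j : ℂ) * (ζ ^ j) ^ i

theorem Par.exists_cf (P : Par M B D e σ τ h r f a s t ψ₀ T) (hζ : IsPrimitiveRoot ζ (2 * h)) :
    ∃ b, Cf h r ζ s a T b := by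
  classical
  have hd := P.dg
  have h2 := hd.two_le
  have hN : (2 * h : ℕ) ≠ 0 := by omega
  choose m hm using fun (χ : IrrCharacter G) (i : Fin (2 * h)) =>
    P.coef_int hζ χ i.2.le
  let A : IrrCharacter G → ℕ → ℤ := fun χ i => if hi : i < 2 * h then m χ ⟨i, hi⟩ else 0
  have hA : ∀ χ i, i < 2 * h → (A χ i : ℂ) = coef (2 * h) ζ s (lam a T χ) i := fun χ i hi => by
    simp only [A, dif_pos hi]; exact (hm χ ⟨i, hi⟩).symm
  have hAsym : ∀ χ i, i < 2 * h → A χ (r * i % (2 * h)) = A χ i := by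
    intro χ i hi
    apply Int.cast_injective (α := ℂ)
    rw [hA _ _ (Nat.mod_lt _ (by omega)), hA _ _ hi, coef, coef]
    refine congrArg _ ?_
    refine Finset.sum_bij' (fun l _ => r * l % (2 * h)) (fun l _ => r * l % (2 * h))
      (fun l _ => Finset.mem_range.2 (Nat.mod_lt _ (by omega)))
      (fun l _ => Finset.mem_range.2 (Nat.mod_lt _ (by omega)))
      (fun l hl => hd.r_inv (Finset.mem_range.1 hl)) (fun l hl => hd.r_inv (Finset.mem_range.1 hl))
      fun l hl => ?_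
    rw [P.lam_conj]
    congr 1
    rw [← inv_pow_eq hζ hN (Nat.mod_lt _ (by omega)).le, ← inv_pow_eq hζ hN hi.le,
      ← pow_mul, ← pow_mul]
    congr 1
    rw [pow_eq_pow_mod (r * i % (2 * h) * l) hζ.pow_eq_one,
      pow_eq_pow_mod (i * (r * l % (2 * h))) hζ.pow_eq_one]
    congr 1
    rw [Nat.mod_mul_mod, Nat.mul_mod_mod, ← mul_assoc, mul_comm r i]
  have hr := hd.r_lt
  have hpr : pj h r = 1 := by
    obtain ⟨v, hv⟩ := hd.r_odd
    rw [pj, if_neg (by omega)]
  have hA1 : ∀ χ, A χ r = A χ 1 := fun χ => by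
    have := hAsym χ 1 (by omega)
    rwa [mul_one, Nat.mod_eq_of_lt hr.1] at this
  refine ⟨fun χ j => A χ j - A χ (pj h j), fun χ j hj => ?_, fun χ j hj => ?_, fun χ => ?_,
    fun χ => ?_, fun χ => ?_, fun χ i hi => ?_⟩
  · show ((A χ j - A χ (pj h j) : ℤ) : ℂ) = _
    rw [Int.cast_sub, hA _ _ hj, hA _ _ (hd.pj_le j), coef, coef, ← mul_sub,
      ← Finset.sum_sub_distrib]
    exact congrArg _ (Finset.sum_congr rfl fun l _ => by rw [kF]; ring)
  · have e : pj h (r * j % (2 * h)) = pj h j := by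
      unfold pj; rw [hd.r_par]
    show A χ (r * j % (2 * h)) - A χ (pj h (r * j % (2 * h))) = _
    rw [e, hAsym χ j hj]
  · show A χ h - A χ (pj h h) = 0
    rw [pj, if_pos hd.h_even, sub_self]
  · show A χ 1 - A χ (pj h 1) = 0
    rw [pj, if_neg (by omega), sub_self]
  · show A χ r - A χ (pj h r) = 0
    rw [hpr, hA1, sub_self]
  · obtain ⟨i0, i1, i2⟩ := hi
    simp only [Int.cast_sub, sub_mul, Finset.sum_sub_distrib]
    rw [Finset.sum_congr rfl fun j hj => by rw [hA χ j (Finset.mem_range.1 hj)],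
      coef_inversion hζ hN _ i1]
    suffices hz : ∑ j ∈ Finset.range (2 * h), (A χ (pj h j) : ℂ) * (ζ ^ j) ^ i = 0 by
      rw [hz, sub_zero]
    have hh : ζ ^ h = -1 :=
      IsPrimitiveRoot.eq_neg_one_of_two_right (hζ.pow (by omega) (mul_comm 2 h))
    have e : ∀ j, (A χ (pj h j) : ℂ) * (ζ ^ j) ^ i =
        ((A χ h : ℂ) + A χ 1) / 2 * (ζ ^ i) ^ j + ((A χ h : ℂ) - A χ 1) / 2 * (ζ ^ (i + h)) ^ j := by
      intro j
      have e1 : (ζ ^ (i + h)) ^ j = (-1) ^ j * (ζ ^ i) ^ j := by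
        rw [pow_add, mul_pow, hh]; ring
      rw [e1, ← pow_mul, mul_comm j i, pow_mul, pj]
      rcases Nat.even_or_odd j with hj | hj
      · rw [if_pos (Nat.even_iff.1 hj), hj.neg_one_pow]; ring
      · rw [if_neg (by rw [Nat.odd_iff.1 hj]; omega), hj.neg_one_pow]; ring
    rw [Finset.sum_congr rfl fun j _ => e j, Finset.sum_add_distrib, ← Finset.mul_sum,
      ← Finset.mul_sum, root_sum hζ, root_sum hζ,
      if_neg fun d => by have := Nat.le_of_dvd i0 d; omega,
      if_neg fun d => by rcases (dvd_small (N := 2 * h) (by omega)).1 d with e | e | e <;> omega]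
    ring

variable {b : IrrCharacter G → ℕ → ℤ}

/-- The products of the coefficient columns. -/
theorem Par.gram (P : Par M B D e σ τ h r f a s t ψ₀ T) (hζ : IsPrimitiveRoot ζ (2 * h))
    (C : Cf h r ζ s a T b) {i k : ℕ} (hi : i < 2 * h) (hk : k < 2 * h) :
    ∑ χ ∈ bset B, b χ i * b χ k =
      d2 h r i k - d2 h r i (pj h k) - d2 h r (pj h i) k + d2 h r (pj h i) (pj h k) := by
  classical
  have hd := P.dg
  have h2 := hd.two_le
  have hN : (2 * h : ℕ) ≠ 0 := by omega
  have hh : ζ ^ h = -1 :=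
    IsPrimitiveRoot.eq_neg_one_of_two_right (hζ.pow (by omega) (mul_comm 2 h))
  set kC : ℕ → ℕ → ℂ := fun j l => (ζ ^ j) ^ l - (ζ ^ pj h j) ^ l with hkC
  have hconj : ∀ j, j < 2 * h → ∀ l, conj (kF h ζ j l) = kC j l := fun j hj l => by
    rw [kF, map_sub, conj_pow_eq hζ hN hj.le, conj_pow_eq hζ hN (hd.pj_le j).le]
  have hF0 : ∀ j, kF h ζ j 0 = 0 := fun j => by simp [kF]
  have hFh : ∀ j, j < 2 * h → kF h ζ j h = 0 := fun j hj => by
    rw [kF, ← pow_mul, ← pow_mul, mul_comm (2 * h - j) h, mul_comm (2 * h - pj h j) h, pow_mul,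
      pow_mul, hh,
      neg_one_pow_eq_pow_mod_two, neg_one_pow_eq_pow_mod_two (n := 2 * h - pj h j),
      show (2 * h - j) % 2 = (2 * h - pj h j) % 2 by
        have := hd.pj_parity j
        have := hd.pj_le j
        omega, sub_self]
  have hC0 : ∀ j, kC j 0 = 0 := fun j => by simp [hkC]
  have hCh : ∀ j, j < 2 * h → kC j h = 0 := fun j hj => by
    rw [← hconj j hj, hFh j hj, map_zero]
  apply Int.cast_injective (α := ℂ)
  push_cast
  have e1 : ∀ χ : IrrCharacter G, (b χ i : ℂ) * (b χ k : ℂ) =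
      (((2 * h : ℕ) : ℂ)⁻¹ * ((2 * h : ℕ) : ℂ)⁻¹) * ∑ l ∈ Finset.range (2 * h),
        ∑ m ∈ Finset.range (2 * h), kF h ζ i l * kC k m *
          (lam a T χ (s ^ l) * conj (lam a T χ (s ^ m))) := by
    intro χ
    rw [C.eq χ i hi, show (b χ k : ℂ) = conj (b χ k : ℂ) by rw [map_intCast], C.eq χ k hk,
      map_mul, map_inv₀, map_natCast, map_sum, mul_mul_mul_comm, Finset.sum_mul_sum]
    refine congrArg _ (Finset.sum_congr rfl fun l _ => Finset.sum_congr rfl fun m _ => ?_)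
    rw [map_mul, hconj k hk]
    ring
  rw [Finset.sum_congr rfl fun χ _ => e1 χ, ← Finset.mul_sum, Finset.sum_comm]
  have hgood : ∀ l, l < 2 * h → ¬ Good h l → l = 0 ∨ l = h := fun l hl hg => by
    simp only [Good, not_and, ne_eq, not_not] at hg
    by_cases h0 : l = 0
    · exact Or.inl h0
    · exact Or.inr (hg (by omega) hl)
  have e2 : ∀ l ∈ Finset.range (2 * h), ∑ χ ∈ bset B,
      ∑ m ∈ Finset.range (2 * h), kF h ζ i l * kC k m *
        (lam a T χ (s ^ l) * conj (lam a T χ (s ^ m))) =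
      ((2 * h : ℕ) : ℂ) * (kF h ζ i l * (kC k l + kC k (r * l % (2 * h)))) := by
    intro l hl
    have hl' := Finset.mem_range.1 hl
    by_cases hgl : Good h l
    swap
    · rcases hgood l hl' hgl with rfl | rfl <;> simp [hF0, hFh i hi]
    rw [Finset.sum_comm]
    have e3 : ∀ m ∈ Finset.range (2 * h), ∑ χ ∈ bset B,
        kF h ζ i l * kC k m * (lam a T χ (s ^ l) * conj (lam a T χ (s ^ m))) =
        ((2 * h : ℕ) : ℂ) * kF h ζ i l *
          ((if m = l then kC k m else 0) + if m = r * l % (2 * h) then kC k m else 0) := by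
      intro m hm
      by_cases hgm : Good h m
      swap
      · rcases hgood m (Finset.mem_range.1 hm) hgm with rfl | rfl <;> simp [hC0, hCh k hk]
      rw [← Finset.mul_sum, P.orth hgl hgm]
      split_ifs <;> ring
    rw [Finset.sum_congr rfl e3, ← Finset.mul_sum, Finset.sum_add_distrib, Finset.sum_ite_eq',
      Finset.sum_ite_eq', if_pos hl, if_pos (Finset.mem_range.2 (Nat.mod_lt _ (by omega)))]
    ring
  rw [Finset.sum_congr rfl e2, ← Finset.mul_sum]
  have ker : ∀ x y, x < 2 * h → y < 2 * h →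
      ∑ l ∈ Finset.range (2 * h), (ζ ^ (2 * h - x)) ^ l *
        ((ζ ^ y) ^ l + (ζ ^ y) ^ (r * l % (2 * h))) = ((2 * h : ℕ) : ℂ) * (d2 h r x y : ℂ) := by
    intro x y hx hy
    have e : ∀ l, (ζ ^ (2 * h - x)) ^ l * ((ζ ^ y) ^ l + (ζ ^ y) ^ (r * l % (2 * h))) =
        (ζ ^ (2 * h - x + y)) ^ l + (ζ ^ (2 * h - x + r * y % (2 * h))) ^ l := by
      intro l
      have e4 : (ζ ^ y) ^ (r * l % (2 * h)) = (ζ ^ (r * y % (2 * h))) ^ l := by
        rw [← pow_mul, ← pow_mul, pow_eq_pow_mod (y * _) hζ.pow_eq_one,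
          pow_eq_pow_mod (r * y % (2 * h) * l) hζ.pow_eq_one, Nat.mul_mod_mod, Nat.mod_mul_mod,
          ← mul_assoc, mul_comm y r]
      rw [e4, mul_add, pow_add, pow_add, mul_pow, mul_pow]
    have hiff : ∀ z, z < 2 * h → (2 * h ∣ 2 * h - x + z ↔ x = z) := fun z hz => by
      rw [dvd_small (by omega)]
      omega
    rw [Finset.sum_congr rfl fun l _ => e l, Finset.sum_add_distrib, root_sum hζ, root_sum hζ, d2,
      if_congr (hiff y hy) rfl rfl, if_congr (hiff _ (Nat.mod_lt _ (by omega))) rfl rfl]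
    push_cast
    split_ifs <;> ring
  have e5 : ∑ l ∈ Finset.range (2 * h), kF h ζ i l * (kC k l + kC k (r * l % (2 * h))) =
      ((2 * h : ℕ) : ℂ) * ((d2 h r i k : ℂ) - d2 h r i (pj h k) - d2 h r (pj h i) k +
        d2 h r (pj h i) (pj h k)) := by
    rw [mul_add, mul_sub, mul_sub, ← ker i k hi hk, ← ker i _ hi (hd.pj_le k),
      ← ker _ k (hd.pj_le i) hk, ← ker _ _ (hd.pj_le i) (hd.pj_le k), ← Finset.sum_sub_distrib,
      ← Finset.sum_sub_distrib, ← Finset.sum_add_distrib]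
    exact Finset.sum_congr rfl fun l _ => by simp only [kF, hkC]; ring
  rw [e5]
  field_simp

/-- The sum of all coefficients. -/
def Pv (h : ℕ) (b : IrrCharacter G → ℕ → ℤ) (χ : IrrCharacter G) : ℤ :=
  ∑ j ∈ Finset.range (2 * h), b χ j

/-- The alternating sum of all coefficients. -/
def Nv (h : ℕ) (b : IrrCharacter G → ℕ → ℤ) (χ : IrrCharacter G) : ℤ :=
  ∑ j ∈ Finset.range (2 * h), (-1) ^ j * b χ j

/-- The sum over the rotations. -/
def TT (h : ℕ) (b : IrrCharacter G → ℕ → ℤ) (χ ψ : IrrCharacter G) : ℤ :=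
  (2 * h : ℕ) * (∑ j ∈ Finset.range (2 * h), b χ j * b ψ j) -
    Pv h b χ * Pv h b ψ - Nv h b χ * Nv h b ψ

open Classical in
/-- The good exponents. -/
noncomputable def gset (h : ℕ) : Finset ℕ := (Finset.range (2 * h)).filter (Good h)

theorem sum_all {R : Type*} [AddCommMonoid R] {h : ℕ} (h0 : 0 < h) (F : ℕ → R) :
    ∑ i ∈ Finset.range (2 * h), F i = (F 0 + F h) + ∑ i ∈ gset h, F i := by
  classical
  have hsub : ({0, h} : Finset ℕ) ⊆ Finset.range (2 * h) := by
    intro i hi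
    simp only [Finset.mem_insert, Finset.mem_singleton] at hi
    rw [Finset.mem_range]
    omega
  rw [← Finset.sum_sdiff hsub, Finset.sum_pair (by omega), add_comm]
  congr 1
  refine Finset.sum_congr ?_ fun _ _ => rfl
  ext i
  simp only [gset, Good, Finset.mem_sdiff, Finset.mem_range, Finset.mem_insert,
    Finset.mem_singleton, Finset.mem_filter]
  omega

/-- Parseval with a twist by a root of unity. -/
theorem Cf.parseval (C : Cf h r ζ s a T b) (hζ : IsPrimitiveRoot ζ (2 * h)) (h0 : 0 < h)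
    (χ ψ : IrrCharacter G) {x : ℕ} (hx : x < 2 * h) :
    ∑ i ∈ gset h, (ζ ^ x) ^ i * (lam a T χ (s ^ i) * conj (lam a T ψ (s ^ i))) =
      ((2 * h : ℕ) : ℂ) * ((∑ j ∈ Finset.range (2 * h),
        b χ j * b ψ ((j + x) % (2 * h)) : ℤ) : ℂ) -
      (Pv h b χ : ℂ) * Pv h b ψ - (-1) ^ x * ((Nv h b χ : ℂ) * Nv h b ψ) := by
  classical
  have hN : (2 * h : ℕ) ≠ 0 := by omega
  have hh : ζ ^ h = -1 :=
    IsPrimitiveRoot.eq_neg_one_of_two_right (hζ.pow (by omega) (mul_comm 2 h))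
  set g : IrrCharacter G → ℕ → ℂ := fun χ i =>
    ∑ j ∈ Finset.range (2 * h), (b χ j : ℂ) * (ζ ^ j) ^ i with hg
  have hall : ∑ i ∈ Finset.range (2 * h), (ζ ^ x) ^ i * (g χ i * conj (g ψ i)) =
      ((2 * h : ℕ) : ℂ) * ((∑ j ∈ Finset.range (2 * h),
        b χ j * b ψ ((j + x) % (2 * h)) : ℤ) : ℂ) := by
    have e : ∀ i, (ζ ^ x) ^ i * (g χ i * conj (g ψ i)) = ∑ j ∈ Finset.range (2 * h),
        ∑ m ∈ Finset.range (2 * h), (b χ j : ℂ) * b ψ m * (ζ ^ (x + j + (2 * h - m))) ^ i := by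
      intro i
      simp only [hg, map_sum, map_mul, map_intCast]
      rw [Finset.sum_mul_sum, Finset.mul_sum]
      refine Finset.sum_congr rfl fun j _ => ?_
      rw [Finset.mul_sum]
      refine Finset.sum_congr rfl fun m hm => ?_
      have hm' := (Finset.mem_range.1 hm).le
      rw [pow_add, pow_add, mul_pow, mul_pow,
        show (ζ ^ (2 * h - m)) ^ i = conj ((ζ ^ m) ^ i) by
          rw [← conj_pow_eq hζ hN hm', Complex.conj_conj]]
      ring
    rw [Finset.sum_congr rfl fun i _ => e i, Finset.sum_comm]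
    push_cast
    rw [Finset.mul_sum]
    refine Finset.sum_congr rfl fun j hj => ?_
    rw [Finset.sum_comm]
    simp only [← Finset.mul_sum, root_sum hζ]
    rw [Finset.sum_eq_single ((j + x) % (2 * h))]
    · rw [if_pos]
      · push_cast; ring
      · rw [Nat.dvd_iff_mod_eq_zero]
        have h1 := Nat.mod_lt (j + x) (show 2 * h > 0 by omega)
        have h3 := Nat.mod_add_div (j + x) (2 * h)
        rw [show x + j + (2 * h - (j + x) % (2 * h)) = 2 * h * ((j + x) / (2 * h) + 1) by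
          rw [mul_add, mul_one]; omega, Nat.mul_mod_right]
    · intro m hm hne
      rw [if_neg, mul_zero]
      intro hdvd
      apply hne
      have hm' := Finset.mem_range.1 hm
      have hj' := Finset.mem_range.1 hj
      rcases (dvd_small (by omega)).1 hdvd with e | e | e
      · omega
      · rw [show j + x = m by omega, Nat.mod_eq_of_lt hm']
      · rw [show j + x = m + 2 * h by omega, Nat.add_mod_right, Nat.mod_eq_of_lt hm']
    · exact fun hn => absurd (Finset.mem_range.2 (Nat.mod_lt _ (by omega))) hn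
  rw [← hall, sum_all h0]
  have hg0 : ∀ χ, g χ 0 = (Pv h b χ : ℂ) := fun χ => by simp [hg, Pv]
  have hgh : ∀ χ, g χ h = (Nv h b χ : ℂ) := fun χ => by
    simp only [hg, Nv]
    push_cast
    refine Finset.sum_congr rfl fun j _ => ?_
    rw [← pow_mul, mul_comm j h, pow_mul, hh]
    ring
  have hxh : (ζ ^ x) ^ h = (-1) ^ x := by rw [← pow_mul, mul_comm, pow_mul, hh]
  rw [hg0, hg0, hgh, hgh, hxh, pow_zero, map_intCast, map_intCast]
  have hgood : ∑ i ∈ gset h, (ζ ^ x) ^ i * (g χ i * conj (g ψ i)) =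
      ∑ i ∈ gset h, (ζ ^ x) ^ i * (lam a T χ (s ^ i) * conj (lam a T ψ (s ^ i))) :=
    Finset.sum_congr rfl fun i hi => by
      rw [C.val χ i (Finset.mem_filter.1 hi).2, C.val ψ i (Finset.mem_filter.1 hi).2]
  rw [hgood]
  ring

theorem Cf.sum_good (C : Cf h r ζ s a T b) (hζ : IsPrimitiveRoot ζ (2 * h)) (h0 : 0 < h)
    (χ ψ : IrrCharacter G) :
    ∑ i ∈ gset h, lam a T χ (s ^ i) * conj (lam a T ψ (s ^ i)) = (TT h b χ ψ : ℂ) := by
  have e := C.parseval hζ h0 χ ψ (x := 0) (by omega)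
  simp only [pow_zero, one_pow, one_mul, add_zero] at e
  rw [e, TT, Finset.sum_congr rfl (fun j hj => show b χ j * b ψ (j % (2 * h)) = b χ j * b ψ j by
    rw [Nat.mod_eq_of_lt (Finset.mem_range.1 hj)])]
  push_cast
  ring

/-- The parities of the sums. -/
theorem Cf.parity (C : Cf h r ζ s a T b) {K : Type u} [Group K] [Finite K] {D' : Subgroup K}
    {σ' τ' : K} (hd : TG D' σ' τ' h r) (χ : IrrCharacter G) :
    (2 : ℤ) ∣ Pv h b χ - b χ 0 := by
  have e : Pv h b χ = ∑ p ∈ Finset.range 2,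
      ∑ j ∈ (Finset.range (2 * h)).filter (fun j => j % 2 = p), b χ j :=
    (Finset.sum_fiberwise_of_maps_to (fun j _ => Finset.mem_range.2 (Nat.mod_lt j two_pos))
      (fun j => b χ j)).symm
  rw [e, Finset.sum_range_succ, Finset.sum_range_one, hd.sum_parity (by norm_num) _ (C.sym χ),
    hd.sum_parity (by norm_num) _ (C.sym χ), if_pos rfl, if_neg one_ne_zero, C.bh, C.b1, C.br]
  exact ⟨(∑ j ∈ reps h r 0, b χ j) + ∑ j ∈ reps h r 1, b χ j, by
    rw [two_nsmul, two_nsmul]; ring⟩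

/-- The sum over the odd exponents. -/
theorem Cf.sum_odd (C : Cf h r ζ s a T b) (hζ : IsPrimitiveRoot ζ (2 * h))
    {K : Type u} [Group K] [Finite K] {D' : Subgroup K} {σ' τ' : K} (hd : TG D' σ' τ' h r)
    (χ ψ : IrrCharacter G) :
    ∃ c : ℤ, ∑ i ∈ gset h, ((1 - (-1) ^ i : ℂ) / 2) *
        (lam a T χ (s ^ i) * conj (lam a T ψ (s ^ i))) =
      (h : ℂ) * ((b χ 0 * b ψ 0 + 2 * c : ℤ) : ℂ) := by
  have h2 := hd.two_le
  have hev := hd.h_even
  have hh : ζ ^ h = -1 :=
    IsPrimitiveRoot.eq_neg_one_of_two_right (hζ.pow (by omega) (mul_comm 2 h))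
  have e0 := C.parseval hζ (by omega) χ ψ (x := 0) (by omega)
  have e1 := C.parseval hζ (by omega) χ ψ (x := h) (by omega)
  rw [hh] at e1
  simp only [pow_zero, one_pow, one_mul, add_zero] at e0
  rw [Finset.sum_congr rfl (fun j hj => show b χ j * b ψ (j % (2 * h)) = b χ j * b ψ j by
    rw [Nat.mod_eq_of_lt (Finset.mem_range.1 hj)])] at e0
  rw [show ((-1 : ℂ)) ^ h = 1 by rw [neg_one_pow_eq_pow_mod_two, hev, pow_zero], one_mul] at e1
  set F : ℕ → ℤ := fun j => b χ j * b ψ j - b χ j * b ψ ((j + h) % (2 * h)) with hF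
  have hsum : ∑ i ∈ gset h, ((1 - (-1) ^ i : ℂ) / 2) *
      (lam a T χ (s ^ i) * conj (lam a T ψ (s ^ i))) =
      (h : ℂ) * ((∑ j ∈ Finset.range (2 * h), F j : ℤ) : ℂ) := by
    rw [Finset.sum_congr rfl fun i _ => show ((1 - (-1) ^ i : ℂ) / 2) *
        (lam a T χ (s ^ i) * conj (lam a T ψ (s ^ i))) =
        (1 / 2) * (lam a T χ (s ^ i) * conj (lam a T ψ (s ^ i))) -
        (1 / 2) * ((-1) ^ i * (lam a T χ (s ^ i) * conj (lam a T ψ (s ^ i)))) by ring,
      Finset.sum_sub_distrib, ← Finset.mul_sum, ← Finset.mul_sum, e0, e1, hF]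
    rw [Finset.sum_sub_distrib]
    push_cast
    ring
  have hFsym : ∀ j < 2 * h, F (r * j % (2 * h)) = F j := by
    intro j hj
    have e : (r * j % (2 * h) + h) % (2 * h) = r * ((j + h) % (2 * h)) % (2 * h) := by
      rw [Nat.mul_mod_mod, mul_add, Nat.add_mod (r * j) (r * h), hd.r_mul_h,
        Nat.add_mod (r * j % (2 * h)) h, Nat.mod_mod, Nat.mod_eq_of_lt (show h < 2 * h by omega)]
    simp only [hF]
    rw [e, C.sym χ j hj, C.sym ψ j hj, C.sym ψ _ (Nat.mod_lt _ (by omega))]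
  obtain ⟨v, hv⟩ := hd.r_odd
  refine ⟨(∑ j ∈ reps h r 0, F j) + ∑ j ∈ reps h r 1, F j, hsum.trans (congrArg _ (congrArg _ ?_))⟩
  rw [← Finset.sum_fiberwise_of_maps_to (t := Finset.range 2)
      (fun j _ => Finset.mem_range.2 (Nat.mod_lt j two_pos)) F,
    Finset.sum_range_succ, Finset.sum_range_one, hd.sum_parity (by norm_num) F hFsym,
    hd.sum_parity (by norm_num) F hFsym, if_pos rfl, if_neg one_ne_zero, two_nsmul, two_nsmul]
  simp only [hF, zero_add, C.bh, C.b1, C.br, Nat.mod_eq_of_lt (show h < 2 * h by omega)]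
  ring

/-- The value at the element of order four. -/
theorem Par.lam_rho (P : Par M B D e σ τ h r f a s t ψ₀ T) (hζ : IsPrimitiveRoot ζ (2 * h))
    (C : Cf h r ζ s a T b) (χ : IrrCharacter G) :
    ∃ c : ℤ, lam a T χ (s ^ (h / 2)) = ((b χ 0 + 2 * c : ℤ) : ℂ) := by
  have hd := P.dg
  have h2 := hd.two_le
  have hg := hd.rho_good
  obtain ⟨q, hq, hq0⟩ := hd.half
  have hh : ζ ^ h = -1 :=
    IsPrimitiveRoot.eq_neg_one_of_two_right (hζ.pow (by omega) (mul_comm 2 h))
  have hI : ζ ^ (h / 2) * ζ ^ (h / 2) = -1 := by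
    rw [← pow_add, show h / 2 + h / 2 = h by omega, hh]
  have hI' : ζ ^ (2 * h - h / 2) = -ζ ^ (h / 2) := by
    rw [show 2 * h - h / 2 = h + h / 2 by omega, pow_add, hh, neg_one_mul]
  set ε : ℕ → ℤ := fun j => if j % 2 = 0 then (-1) ^ (j / 2) else 0 with hε
  have hval := C.val χ _ hg
  have hval' := C.val χ _ (hd.r_good hg).1
  rw [P.lam_conj, hd.rho_r] at hval'
  have e : lam a T χ (s ^ (h / 2)) = ∑ j ∈ Finset.range (2 * h), (b χ j : ℂ) * (ε j : ℂ) := by
    have h3 : lam a T χ (s ^ (h / 2)) + lam a T χ (s ^ (h / 2)) =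
        ∑ j ∈ Finset.range (2 * h), (b χ j : ℂ) * (2 * (ε j : ℂ)) := by
      conv_lhs => arg 2; rw [hval']
      conv_lhs => arg 1; rw [hval]
      rw [← Finset.sum_add_distrib]
      refine Finset.sum_congr rfl fun j _ => ?_
      rw [← mul_add]
      congr 1
      rw [← pow_mul, ← pow_mul, mul_comm j, mul_comm j, pow_mul, pow_mul, hI', hε]
      simp only []
      obtain ⟨q', hq' | hq'⟩ := Nat.even_or_odd' j
      · rw [if_pos (by omega), show j / 2 = q' by omega, hq', pow_mul, pow_mul, neg_sq, sq, hI]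
        push_cast; ring
      · rw [if_neg (by omega), hq', pow_succ, pow_succ, pow_mul, pow_mul, neg_sq]
        push_cast; ring
    have h4 : ∀ j, (b χ j : ℂ) * (2 * (ε j : ℂ)) = 2 * ((b χ j : ℂ) * (ε j : ℂ)) :=
      fun j => by ring
    rw [Finset.sum_congr rfl fun j _ => h4 j, ← Finset.mul_sum, ← two_mul] at h3
    exact mul_left_cancel₀ two_ne_zero h3
  set F : ℕ → ℤ := fun j => b χ j * ε j with hF
  have hFsym : ∀ j < 2 * h, F (r * j % (2 * h)) = F j := by
    intro j hj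
    simp only [hF, C.sym χ j hj]
    congr 1
    simp only [hε, hd.r_par]
    split_ifs with he
    · obtain ⟨j', rfl⟩ : ∃ j', j = 2 * j' := ⟨j / 2, by omega⟩
      obtain ⟨v, hv⟩ := hd.r_odd
      obtain ⟨w, hw⟩ : ∃ w, r * (2 * j') % (2 * h) = 2 * w ∧ (2 : ℕ) ∣ w + j' := by
        refine ⟨r * j' % h, ?_, ?_⟩
        · rw [← mul_assoc, mul_comm r 2, mul_assoc, Nat.mul_mod_mul_left]
        · rw [Nat.dvd_iff_mod_eq_zero, Nat.add_mod, Nat.mod_mod_of_dvd _ (show 2 ∣ h by omega),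
            Nat.mul_mod, show r % 2 = 1 by omega, one_mul, Nat.mod_mod]
          omega
      rw [hw.1, Nat.mul_div_cancel_left _ two_pos, Nat.mul_div_cancel_left _ two_pos]
      rw [neg_one_pow_eq_pow_mod_two, neg_one_pow_eq_pow_mod_two (n := j')]
      congr 1
      have := hw.2
      omega
    · rfl
  refine ⟨(∑ j ∈ reps h r 0, F j) + ∑ j ∈ reps h r 1, F j, ?_⟩
  rw [e]
  have e6 : ∑ j ∈ Finset.range (2 * h), F j =
      b χ 0 + 2 * ((∑ j ∈ reps h r 0, F j) + ∑ j ∈ reps h r 1, F j) := by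
    rw [← Finset.sum_fiberwise_of_maps_to (t := Finset.range 2)
        (fun j _ => Finset.mem_range.2 (Nat.mod_lt j two_pos)) F,
      Finset.sum_range_succ, Finset.sum_range_one, hd.sum_parity (by norm_num) F hFsym,
      hd.sum_parity (by norm_num) F hFsym, if_pos rfl, if_neg one_ne_zero, two_nsmul, two_nsmul]
    simp only [hF, hε, C.bh, C.b1, C.br]
    norm_num
    ring
  rw [← e6]
  simp [hF]

end CfsgLib.Blocks.Tame
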