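import Cfsg.Agent.Lib.Blocks.DihBlock.Shape

/-!
# Integral vectors of norm two meeting pairwise in one point
-/

namespace CfsgLib.Blocks.Tame

set_option linter.unusedVariables false
set_option linter.unusedSimpArgs false
set_option linter.unusedSectionVars false

variable {ι κ : Type*} [DecidableEq ι] [Fintype κ] [DecidableEq κ]
  {S : Finset ι} {Z : κ → ι → ℤ}

/-- The support of a vector. -/
def supp (S : Finset ι) (Z : κ → ι → ℤ) (j : κ) : Finset ι := S.filter fun i => Z j i ≠ 0

/-- The hypotheses. -/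
def Gram2 (S : Finset ι) (Z : κ → ι → ℤ) : Prop :=
  ∀ j k, ∑ i ∈ S, Z j i * Z k i = if j = k then 2 else 1

theorem Gram2.unit (g : Gram2 S Z) {j : κ} {i : ι} (hi : i ∈ supp S Z j) : Z j i * Z j i = 1 := by
  obtain ⟨hiS, h0⟩ := Finset.mem_filter.1 hi
  have h := Finset.single_le_sum (f := fun i => Z j i * Z j i) (fun i _ => mul_self_nonneg (Z j i))
    hiS
  rw [g j j, if_pos rfl] at h
  have h1 : -1 ≤ Z j i ∧ Z j i ≤ 1 := ⟨by nlinarith, by nlinarith⟩
  obtain ⟨a, b⟩ := h1
  interval_cases (Z j i) <;> simp_all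

theorem Gram2.card (g : Gram2 S Z) (j : κ) : (supp S Z j).card = 2 := by
  have h := g j j
  rw [if_pos rfl, ← Finset.sum_filter_of_ne (p := fun i => Z j i ≠ 0)
    (fun i _ hi e => hi (by simp [e])), show (S.filter fun i => Z j i ≠ 0) = supp S Z j from rfl,
    Finset.sum_congr rfl fun i hi => g.unit hi, Finset.sum_const, nsmul_eq_mul, mul_one] at h
  exact_mod_cast h

theorem Gram2.meet (g : Gram2 S Z) {j k : κ} (hjk : j ≠ k) :
    ∃ c, supp S Z j ∩ supp S Z k = {c} ∧ Z j c = Z k c := by
  set I := supp S Z j ∩ supp S Z k with hI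
  have hsub : I ⊆ S := Finset.inter_subset_left.trans (Finset.filter_subset _ _)
  have h : ∑ i ∈ I, Z j i * Z k i = 1 := by
    have := g j k
    rw [if_neg hjk] at this
    rw [← this]
    refine Finset.sum_subset hsub fun i hi hn => ?_
    by_contra h0
    exact hn (Finset.mem_inter.2 ⟨Finset.mem_filter.2 ⟨hi, left_ne_zero_of_mul h0⟩,
      Finset.mem_filter.2 ⟨hi, right_ne_zero_of_mul h0⟩⟩)
  have hle : I.card ≤ 2 := g.card j ▸ Finset.card_le_card Finset.inter_subset_left
  have hodd : ∀ i ∈ I, Z j i * Z k i = 1 ∨ Z j i * Z k i = -1 := fun i hi => by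
    obtain ⟨h1, h2⟩ := Finset.mem_inter.1 hi
    exact Dihedral.units (by rw [mul_mul_mul_comm, g.unit h1, g.unit h2, mul_one])
  interval_cases hc : I.card
  · rw [Finset.card_eq_zero.1 hc, Finset.sum_empty] at h
    norm_num at h
  · obtain ⟨c, hcI⟩ := Finset.card_eq_one.1 hc
    rw [hcI, Finset.sum_singleton] at h
    have hu := g.unit (j := j) (Finset.mem_inter.1 (hcI ▸ Finset.mem_singleton_self c)).1
    refine ⟨c, hcI, ?_⟩
    calc Z j c = Z j c * (Z j c * Z k c) := by rw [h, mul_one]
      _ = Z j c * Z j c * Z k c := by ring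
      _ = Z k c := by rw [hu, one_mul]
  · obtain ⟨x, y, hxy, hI2⟩ := Finset.card_eq_two.1 hc
    rw [hI2, Finset.sum_pair hxy] at h
    rcases hodd x (by rw [hI2]; simp) with e | e <;> rcases hodd y (by rw [hI2]; simp) with e' | e'
      <;> omega

/-- All vectors agree at every point where they do not vanish. -/
theorem Gram2.sign (g : Gram2 S Z) {j k : κ} {i : ι} (hj : i ∈ supp S Z j) (hk : i ∈ supp S Z k) :
    Z j i = Z k i := by
  by_cases hjk : j = k
  · rw [hjk]
  obtain ⟨c, hc, he⟩ := g.meet hjk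
  obtain rfl := Finset.mem_singleton.1 (hc ▸ Finset.mem_inter.2 ⟨hj, hk⟩)
  exact he

/-- The vectors form a star, or there are three of them forming a triangle. -/
theorem Gram2.star_or (g : Gram2 S Z) [Nonempty κ] :
    (∃ (c : ι) (t : κ → ι), Function.Injective t ∧ (∀ j, t j ≠ c) ∧
        ∀ j, supp S Z j = {c, t j}) ∨
      (Fintype.card κ = 3 ∧ ∃ (j k : κ) (c : ι), j ≠ k ∧ c ∈ supp S Z j ∧ c ∈ supp S Z k ∧
        ∀ l, c ∈ supp S Z l → l = j ∨ l = k) := by
  by_cases hone : ∃ c, ∀ j, c ∈ supp S Z j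
  · left
    obtain ⟨c, hc⟩ := hone
    have hex : ∀ j, ∃ t, t ≠ c ∧ supp S Z j = {c, t} := fun j => by
      obtain ⟨t, ht⟩ := Finset.card_eq_one.1
        (show ((supp S Z j).erase c).card = 1 by rw [Finset.card_erase_of_mem (hc j), g.card])
      exact ⟨t, Finset.ne_of_mem_erase (ht ▸ Finset.mem_singleton_self t),
        by rw [← Finset.insert_erase (hc j), ht]⟩
    choose t ht1 ht2 using hex
    refine ⟨c, t, fun j k e => ?_, ht1, ht2⟩
    by_contra hjk
    obtain ⟨x, hx, -⟩ := g.meet hjk
    have h1 : ({c, t j} : Finset ι) = {x} := by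
      rw [← hx, ht2, ht2, ← e, Finset.inter_self]
    have h3 := congrArg Finset.card h1
    rw [Finset.card_pair (ht1 j).symm, Finset.card_singleton] at h3
    omega
  right
  push Not at hone
  obtain ⟨j⟩ := (inferInstance : Nonempty κ)
  obtain ⟨a, b, hab, hjs⟩ := Finset.card_eq_two.1 (g.card j)
  obtain ⟨k, hka⟩ := hone a
  have hkj : k ≠ j := fun e => hka (e ▸ by rw [hjs]; simp)
  obtain ⟨x, hx, -⟩ := g.meet hkj.symm
  have hxb : x = b := by
    have hm := hx ▸ Finset.mem_singleton_self x
    rw [Finset.mem_inter, hjs, Finset.mem_insert, Finset.mem_singleton] at hm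
    exact hm.1.resolve_left fun e => hka (e ▸ hm.2)
  subst hxb
  obtain ⟨hbj, hbk⟩ := Finset.mem_inter.1 (hx ▸ Finset.mem_singleton_self x)
  obtain ⟨d, hd⟩ := Finset.card_eq_one.1
    (show ((supp S Z k).erase x).card = 1 by rw [Finset.card_erase_of_mem hbk, g.card])
  have hks : supp S Z k = {x, d} := by rw [← Finset.insert_erase hbk, hd]
  have hdx : d ≠ x := Finset.ne_of_mem_erase (hd ▸ Finset.mem_singleton_self d)
  have hda : d ≠ a := fun e => hka (by rw [hks, e]; simp)
  obtain ⟨l, hlx⟩ := hone x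
  have hmem : ∀ m : κ, x ∉ supp S Z m → supp S Z m = {a, d} := fun m hm => by
    have hmj : m ≠ j := fun e => hm (e ▸ hbj)
    have hmk : m ≠ k := fun e => hm (e ▸ hbk)
    obtain ⟨y, hy, -⟩ := g.meet hmj
    obtain ⟨z, hz, -⟩ := g.meet hmk
    obtain ⟨hy1, hy2⟩ := Finset.mem_inter.1 (hy ▸ Finset.mem_singleton_self y)
    obtain ⟨hz1, hz2⟩ := Finset.mem_inter.1 (hz ▸ Finset.mem_singleton_self z)
    rw [hjs, Finset.mem_insert, Finset.mem_singleton] at hy2
    rw [hks, Finset.mem_insert, Finset.mem_singleton] at hz2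
    obtain rfl : y = a := hy2.resolve_right fun e => hm (e ▸ hy1)
    obtain rfl : z = d := hz2.resolve_left fun e => hm (e ▸ hz1)
    exact (Finset.eq_of_subset_of_card_le (Finset.insert_subset hy1
      (Finset.singleton_subset_iff.2 hz1)) (by rw [g.card, Finset.card_pair hda.symm])).symm
  have hsame : ∀ m m' : κ, supp S Z m = supp S Z m' → m = m' := fun m m' e => by
    by_contra hne
    obtain ⟨y, hy, -⟩ := g.meet hne
    rw [e, Finset.inter_self] at hy
    have := g.card m'
    rw [hy, Finset.card_singleton] at this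
    omega
  have hls := hmem l hlx
  have hcls : ∀ m, x ∈ supp S Z m → m = j ∨ m = k := by
    intro m hm
    by_contra hc
    push Not at hc
    have hml : m ≠ l := fun e => hlx (e ▸ hm)
    obtain ⟨y, hy, -⟩ := g.meet hml
    obtain ⟨hy1, hy2⟩ := Finset.mem_inter.1 (hy ▸ Finset.mem_singleton_self y)
    rw [hls, Finset.mem_insert, Finset.mem_singleton] at hy2
    rcases hy2 with rfl | rfl
    · exact hc.1 (hsame m j (by
        rw [hjs, (Finset.eq_of_subset_of_card_le (Finset.insert_subset hy1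
          (Finset.singleton_subset_iff.2 hm)) (by rw [g.card, Finset.card_pair hab])).symm]))
    · exact hc.2 (hsame m k (by
        rw [hks, (Finset.eq_of_subset_of_card_le (Finset.insert_subset hm
          (Finset.singleton_subset_iff.2 hy1)) (by rw [g.card, Finset.card_pair hdx.symm])).symm]))
  refine ⟨?_, j, k, x, hkj.symm, hbj, hbk, hcls⟩
  have hall : (Finset.univ : Finset κ) = {j, k, l} := by
    ext m
    simp only [Finset.mem_univ, Finset.mem_insert, Finset.mem_singleton, true_iff]
    by_cases hm : x ∈ supp S Z m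
    · rcases hcls m hm with e | e
      · exact Or.inl e
      · exact Or.inr (Or.inl e)
    · exact Or.inr (Or.inr (hsame m l ((hmem m hm).trans hls.symm)))
  have hlj : l ≠ j := fun e => hlx (e ▸ hbj)
  have hlk : l ≠ k := fun e => hlx (e ▸ hbk)
  rw [← Finset.card_univ, hall, Finset.card_insert_of_notMem (by simp [hkj.symm, hlj.symm]),
    Finset.card_pair hlk.symm]

end CfsgLib.Blocks.Tame
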