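import Cfsg.Agent.Lib.Blocks.TameBlock.Parity
import Cfsg.Agent.Lib.Blocks.TameBlock.Star
import Cfsg.Agent.Lib.Blocks.DihBlock.Shape

/-!
# The shape of the coefficient columns
-/

namespace CfsgLib.Blocks.Tame

open Cfsg CfsgLib.CharTheory CfsgLib.Blocks.DihBlock
open scoped ComplexConjugate

set_option linter.unusedVariables false
set_option linter.unusedSimpArgs false
set_option linter.style.haveILetI false
set_option linter.unusedSectionVars false

universe u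

variable {G : Type u} [Group G] [Fintype G] {M : Ideal AlgInt} {B : Set (IrrCharacter G)}
  {D : Subgroup G} {e : Set (IrrCharacter (Subgroup.centralizer (D : Set G)))} {σ τ : G} {h r : ℕ}
  [Fintype (nr σ h)] {f : Set (IrrCharacter (nr σ h))} {a : BrauerPairIdx (nr σ h)}
  {s t : nr σ h} {ψ₀ : IrrCharacter (nr σ h)} {T : IrrCharacter a.1 → IrrCharacter (nr σ h)}
  {ζ : ℂ} {b : IrrCharacter G → ℕ → ℤ}

open Classical in
/-- The members with odd leading coefficient. -/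
noncomputable def eset (B : Set (IrrCharacter G)) (b : IrrCharacter G → ℕ → ℤ) :
    Finset (IrrCharacter G) :=
  (bset B).filter fun χ => Odd (b χ 0)

theorem mem_eset {χ : IrrCharacter G} : χ ∈ eset B b ↔ χ ∈ B ∧ Odd (b χ 0) := by
  simp [eset, mem_bset]

/-- Height zero is an odd leading coefficient. -/
theorem Par.height_odd (P : Par M B D e σ τ h r f a s t ψ₀ T) (hζ : IsPrimitiveRoot ζ (2 * h))
    (C : Cf h r ζ s a T b) {χ : IrrCharacter G} (hχ : χ ∈ B) :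
    Odd (b χ 0) ↔ blockHeight 2 B (χ : G → ℂ) = 0 := by
  have hM := P.hM
  have hB := P.hmax.1.2.1
  obtain ⟨θ, hθ, h0⟩ := exists_height_zero hM hB
  have hθ0 := (height_zero_iff hθ).2 h0
  have h1 := q1_odd hM hB hθ hθ hθ0 hθ0
  have hXθ : Odd (b θ 0) := by
    rw [← Int.not_even_iff_odd]
    intro he
    have h2 := P.q1_mod_two hζ C hθ hθ
    have h3 := he.two_dvd.mul_right (b θ 0)
    omega
  have h2 := P.q1_mod_two hζ C hθ hχ
  constructor
  · intro hX
    by_contra hne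
    have h3 := (q1_exact hM hB hθ hχ hθ0).1
    have h4 : (2 : ℤ) ∣ q1 B θ χ := (dvd_pow_self (2 : ℤ) hne).trans h3
    have h5 : (2 : ℤ) ∣ b θ 0 * b χ 0 := by omega
    exact Int.not_even_iff_odd.2 (hXθ.mul hX) (even_iff_two_dvd.2 h5)
  · intro hx0
    rw [← Int.not_even_iff_odd]
    intro he
    have h4 := q1_odd hM hB hθ hχ hθ0 hx0
    have h3 := he.two_dvd.mul_left (b θ 0)
    omega

theorem TG.reps_spec {K : Type u} [Group K] [Finite K] {D' : Subgroup K} {σ' τ' : K}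
    (hd : TG D' σ' τ' h r) {p j : ℕ} (hj : j ∈ reps h r p) :
    j < 2 * h ∧ j % 2 = p ∧ j < r * j % (2 * h) ∧ j ≠ 0 ∧ j ≠ h ∧ j ≠ 1 ∧ j ≠ r := by
  obtain ⟨h1, h2⟩ := Finset.mem_filter.1 hj
  exact ⟨Finset.mem_range.1 h1, h2⟩

theorem TG.d2_reps {K : Type u} [Group K] [Finite K] {D' : Subgroup K} {σ' τ' : K}
    (hd : TG D' σ' τ' h r) {p q j k : ℕ} (hj : j ∈ reps h r p) (hk : k ∈ reps h r q) :
    d2 h r j k = if j = k then 1 else 0 := by
  obtain ⟨j1, -, j3, -⟩ := hd.reps_spec hj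
  obtain ⟨k1, -, k3, -⟩ := hd.reps_spec hk
  rw [d2, if_neg (show ¬ j = r * k % (2 * h) from fun e => ?_), add_zero]
  rw [e, hd.r_inv k1] at j3
  omega

/-- The even coefficients have the dihedral Gram matrix. -/
theorem Par.gram_even (P : Par M B D e σ τ h r f a s t ψ₀ T) (hζ : IsPrimitiveRoot ζ (2 * h))
    (C : Cf h r ζ s a T b) :
    Gram (bset B) (eset B b) (fun χ => b χ 0) fun (j : reps h r 0) χ => b χ (j : ℕ) := by
  classical
  have hd := P.dg
  have h2 := hd.two_le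
  have hev := hd.h_even
  have hp0 : pj h 0 = h := by simp [pj]
  have hd00 : d2 h r 0 0 = 2 := by simp [d2]
  have hd0h : d2 h r 0 h = 0 := by
    rw [d2, hd.r_mul_h, if_neg (by omega)]; norm_num
  have hdh0 : d2 h r h 0 = 0 := by
    simp [d2, show h ≠ 0 by omega]
  have hdhh : d2 h r h h = 2 := by
    rw [d2, hd.r_mul_h, if_pos rfl]; norm_num
  have hj : ∀ j : reps h r 0, pj h (j : ℕ) = h ∧ (j : ℕ) < 2 * h ∧ d2 h r 0 j = 0 ∧
      d2 h r j 0 = 0 ∧ d2 h r h j = 0 ∧ d2 h r j h = 0 := fun j => by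
    obtain ⟨j1, j2, j3, j4, j5, -⟩ := hd.reps_spec j.2
    have hg := (hd.r_good (i := (j : ℕ)) ⟨by omega, j1, j5⟩).1
    refine ⟨by simp [pj, j2], j1, ?_, ?_, ?_, ?_⟩
    · rw [d2, if_neg (by omega), if_neg (by omega)]; rfl
    · simp [d2, j4]
    · rw [d2, if_neg (by omega), if_neg (Ne.symm hg.2.2)]; rfl
    · rw [d2, hd.r_mul_h, if_neg j5]; rfl
  refine ⟨Finset.filter_subset _ _, fun χ hχ => by simp [eset, hχ], ?_, ?_, fun j => ?_,
    fun j k => ?_⟩
  · obtain ⟨θ, hθ, h0⟩ := exists_height_zero P.hM P.hmax.1.2.1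
    exact ⟨θ, mem_eset.2 ⟨hθ, (P.height_odd hζ C hθ).2 ((height_zero_iff hθ).2 h0)⟩⟩
  · rw [P.gram hζ C (by omega) (by omega), hp0, hd00, hd0h, hdh0, hdhh]; norm_num
  · obtain ⟨a1, a2, a3, a4, a5, a6⟩ := hj j
    rw [P.gram hζ C (by omega) a2, hp0, a1, a3, hd0h, a5, hdhh]; norm_num
  · obtain ⟨a1, a2, a3, a4, a5, a6⟩ := hj j
    obtain ⟨c1, c2, c3, c4, c5, c6⟩ := hj k
    rw [P.gram hζ C a2 c2, a1, c1, hd.d2_reps j.2 k.2, a6, c5, hdhh]
    by_cases hjk : j = k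
    · rw [if_pos hjk, if_pos (congrArg Subtype.val hjk)]; norm_num
    · rw [if_neg hjk, if_neg (fun e => hjk (Subtype.ext e))]; norm_num

/-- The odd coefficients. -/
theorem Par.gram_odd (P : Par M B D e σ τ h r f a s t ψ₀ T) (hζ : IsPrimitiveRoot ζ (2 * h))
    (C : Cf h r ζ s a T b) :
    Gram2 (bset B) (fun (j : reps h r 1) χ => b χ (j : ℕ)) ∧
      ∀ j : reps h r 1, ∑ χ ∈ bset B, b χ 0 * b χ (j : ℕ) = 0 := by
  classical
  have hd := P.dg
  have h2 := hd.two_le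
  have hev := hd.h_even
  obtain ⟨hr1, hr2⟩ := hd.r_lt
  obtain ⟨v, hv⟩ := hd.r_odd
  have hrr : r * r % (2 * h) = 1 := by
    have := hd.r_sq 1
    rwa [mul_one, Nat.mod_eq_of_lt (show 1 < 2 * h by omega)] at this
  have hj : ∀ j : reps h r 1, pj h (j : ℕ) = 1 ∧ (j : ℕ) < 2 * h ∧ d2 h r 0 j = 0 ∧
      d2 h r 1 j = 0 ∧ d2 h r j 1 = 0 ∧ d2 h r h j = 0 := fun j => by
    obtain ⟨j1, j2, j3, j4, j5, j6, j7⟩ := hd.reps_spec j.2
    have hg := (hd.r_good (i := (j : ℕ)) ⟨by omega, j1, j5⟩).1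
    refine ⟨by simp [pj, j2], j1, ?_, ?_, ?_, ?_⟩
    · rw [d2, if_neg (by omega), if_neg (by omega)]; rfl
    · rw [d2, if_neg (Ne.symm j6), if_neg fun e => j7 ?_]
      · rfl
      · have h3 := congrArg (fun x => r * x % (2 * h)) e
        simp only [mul_one, Nat.mod_eq_of_lt hr1] at h3
        rw [hd.r_inv j1] at h3
        exact h3.symm
    · rw [d2, if_neg j6, mul_one, Nat.mod_eq_of_lt hr1, if_neg j7]; rfl
    · rw [d2, if_neg (by omega), if_neg (Ne.symm hg.2.2)]; rfl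
  have hd11 : d2 h r 1 1 = 1 := by
    rw [d2, if_pos rfl, mul_one, Nat.mod_eq_of_lt hr1, if_neg (by omega)]; rfl
  refine ⟨fun j k => ?_, fun j => ?_⟩
  · obtain ⟨a1, a2, a3, a4, a5, a6⟩ := hj j
    obtain ⟨c1, c2, c3, c4, c5, c6⟩ := hj k
    rw [P.gram hζ C a2 c2, a1, c1, hd.d2_reps j.2 k.2, a5, c4, hd11]
    by_cases hjk : j = k
    · rw [if_pos hjk, if_pos (congrArg Subtype.val hjk)]; norm_num
    · rw [if_neg hjk, if_neg (fun e => hjk (Subtype.ext e))]; norm_num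
  · obtain ⟨a1, a2, a3, a4, a5, a6⟩ := hj j
    rw [P.gram hζ C (by omega) a2, a1, show pj h 0 = h by simp [pj], a3, a6, d2, d2,
      mul_one, Nat.mod_eq_of_lt hr1, if_neg (by omega), if_neg (by omega), if_neg (by omega),
      if_neg (by omega)]
    norm_num

/-- The partial sums. -/
def ES (h r p : ℕ) (b : IrrCharacter G → ℕ → ℤ) (χ : IrrCharacter G) : ℤ :=
  ∑ j ∈ reps h r p, b χ j

/-- The partial sums of squares. -/
def EQ (h r p : ℕ) (b : IrrCharacter G → ℕ → ℤ) (χ : IrrCharacter G) : ℤ :=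
  ∑ j ∈ reps h r p, b χ j * b χ j

/-- The sums in terms of the representatives. -/
theorem Cf.sums (C : Cf h r ζ s a T b) {K : Type u} [Group K] [Finite K] {D' : Subgroup K}
    {σ' τ' : K} (hd : TG D' σ' τ' h r) (χ : IrrCharacter G) :
    Pv h b χ = b χ 0 + 2 * ES h r 0 b χ + 2 * ES h r 1 b χ ∧
    Nv h b χ = b χ 0 + 2 * ES h r 0 b χ - 2 * ES h r 1 b χ ∧
    ∑ j ∈ Finset.range (2 * h), b χ j * b χ j =
      b χ 0 * b χ 0 + 2 * EQ h r 0 b χ + 2 * EQ h r 1 b χ := by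
  classical
  have hsplit : ∀ F : ℕ → ℤ, (∀ j < 2 * h, F (r * j % (2 * h)) = F j) →
      ∑ j ∈ Finset.range (2 * h), F j =
        (F 0 + F h + 2 * ∑ j ∈ reps h r 0, F j) + (F 1 + F r + 2 * ∑ j ∈ reps h r 1, F j) := by
    intro F hF
    rw [← Finset.sum_fiberwise_of_maps_to (t := Finset.range 2)
      (fun j _ => Finset.mem_range.2 (Nat.mod_lt j two_pos)) F, Finset.sum_range_succ,
      Finset.sum_range_one, hd.sum_parity (by norm_num) F hF, hd.sum_parity (by norm_num) F hF,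
      if_pos rfl, if_neg one_ne_zero, two_nsmul, two_nsmul]
    ring
  have hneg : ∀ p, ∀ j ∈ reps h r p, ((-1) ^ j : ℤ) = (-1) ^ p := fun p j hj => by
    rw [neg_one_pow_eq_pow_mod_two, (hd.reps_spec hj).2.1]
  refine ⟨?_, ?_, ?_⟩
  · rw [Pv, hsplit _ (C.sym χ), C.bh, C.b1, C.br, ES, ES]; ring
  · rw [Nv, hsplit _ (fun j hj => by
      rw [C.sym χ j hj, neg_one_pow_eq_pow_mod_two, hd.r_par, ← neg_one_pow_eq_pow_mod_two]),
      C.bh, C.b1, C.br, Finset.sum_congr rfl fun j hj => by rw [hneg 0 j hj],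
      Finset.sum_congr (s₁ := reps h r 1) rfl fun j hj => by rw [hneg 1 j hj], ES, ES,
      ← Finset.mul_sum, ← Finset.mul_sum]
    ring
  · rw [hsplit _ (fun j hj => by rw [C.sym χ j hj]), C.bh, C.b1, C.br, EQ, EQ]; ring

/-- The even part of the diagonal sum. -/
def TE (h r : ℕ) (b : IrrCharacter G → ℕ → ℤ) (χ : IrrCharacter G) : ℤ :=
  2 * h * (b χ 0 * b χ 0 + 2 * EQ h r 0 b χ) -
    2 * ((b χ 0 + 2 * ES h r 0 b χ) * (b χ 0 + 2 * ES h r 0 b χ))

/-- The odd part of the diagonal sum. -/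
def TO (h r : ℕ) (b : IrrCharacter G → ℕ → ℤ) (χ : IrrCharacter G) : ℤ :=
  4 * h * EQ h r 1 b χ - 8 * (ES h r 1 b χ * ES h r 1 b χ)

theorem Cf.TT_split (C : Cf h r ζ s a T b) {K : Type u} [Group K] [Finite K] {D' : Subgroup K}
    {σ' τ' : K} (hd : TG D' σ' τ' h r) (χ : IrrCharacter G) :
    TT h b χ χ = TE h r b χ + TO h r b χ ∧ 0 ≤ TE h r b χ ∧ 0 ≤ TO h r b χ := by
  classical
  obtain ⟨e1, e2, e3⟩ := C.sums hd χ
  refine ⟨?_, ?_, ?_⟩
  · rw [TT, e1, e2, e3, TE, TO]; push_cast; ring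
  · have hn : ((reps h r 0).card : ℤ) * 2 + 2 = h := by
      have := hd.card_reps (p := 0) (by norm_num)
      have := hd.h_even
      have := hd.two_le
      omega
    have hc : ES h r 0 b χ * ES h r 0 b χ ≤ ((reps h r 0).card : ℤ) * EQ h r 0 b χ := by
      have := sq_sum_le_card_mul_sum_sq (s := reps h r 0) (f := fun j => b χ j)
      simp only [sq] at this
      exact this
    have hd0 : 0 ≤ ((reps h r 0).card : ℤ) * (b χ 0 * b χ 0) - 2 * (b χ 0 * ES h r 0 b χ) +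
        EQ h r 0 b χ := by
      have h0 : 0 ≤ ∑ j ∈ reps h r 0, (b χ 0 - b χ j) * (b χ 0 - b χ j) :=
        Finset.sum_nonneg fun j _ => mul_self_nonneg _
      rw [Finset.sum_congr rfl fun j _ => show (b χ 0 - b χ j) * (b χ 0 - b χ j) =
        b χ 0 * b χ 0 - 2 * (b χ 0 * b χ j) + b χ j * b χ j by ring,
        Finset.sum_add_distrib, Finset.sum_sub_distrib, Finset.sum_const, nsmul_eq_mul,
        ← Finset.mul_sum, ← Finset.mul_sum] at h0
      exact h0
    have hq : 0 ≤ EQ h r 0 b χ := Finset.sum_nonneg fun j _ => mul_self_nonneg _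
    rw [TE, ← hn]
    nlinarith [mul_self_nonneg (b χ 0)]
  · have hn : ((reps h r 1).card : ℤ) * 2 + 2 = h := by
      have := hd.card_reps (p := 1) (by norm_num)
      have := hd.h_even
      have := hd.two_le
      omega
    have hc : ES h r 1 b χ * ES h r 1 b χ ≤ ((reps h r 1).card : ℤ) * EQ h r 1 b χ := by
      have := sq_sum_le_card_mul_sum_sq (s := reps h r 1) (f := fun j => b χ j)
      simp only [sq] at this
      exact this
    have hq : 0 ≤ EQ h r 1 b χ := Finset.sum_nonneg fun j _ => mul_self_nonneg _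
    rw [TO, ← hn]
    nlinarith

end CfsgLib.Blocks.Tame
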