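import Cfsg.Agent.Lib.Blocks.TameBlock.Outside
import Cfsg.Agent.Lib.Blocks.DihBlock.Central

/-!
# The congruences between the contributions
-/

namespace CfsgLib.Blocks.Tame

open Cfsg CfsgLib.CharTheory
open scoped ComplexConjugate

set_option linter.unusedVariables false
set_option linter.unusedSimpArgs false
set_option linter.style.haveILetI false
set_option linter.unusedSectionVars false

universe u

variable {G : Type u} [Group G] [Fintype G] {M : Ideal AlgInt} {B : Set (IrrCharacter G)}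
  {D : Subgroup G} {e : Set (IrrCharacter (Subgroup.centralizer (D : Set G)))} {σ τ : G} {h r : ℕ}

/-- A diagonal pairing is nonnegative. -/
theorem pp_self_nonneg (hM : IsPModular 2 M) (u : G) (χ : IrrCharacter G) :
    ∃ x : ℝ, 0 ≤ x ∧ pp 2 M D e u χ χ = (x : ℂ) := by
  classical
  refine ⟨(∑ c ∈ regC 2 u, Complex.normSq (pairVal (bEl 2 M D e u) (χ : G → ℂ) (u * c))) *
    (Nat.card (Subgroup.centralizer ((Subgroup.zpowers u : Subgroup G) : Set G)) : ℝ)⁻¹,
    mul_nonneg (Finset.sum_nonneg fun c _ => Complex.normSq_nonneg _) (by positivity), ?_⟩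
  rw [pp, pairT]
  push_cast
  congr 1
  exact Finset.sum_congr rfl fun c _ => Complex.mul_conj _

theorem q1_pos (hM : IsPModular 2 M) (hB : IsPBlock M B) {χ : IrrCharacter G} (hχ : χ ∈ B) :
    0 < q1 B χ χ := by
  obtain ⟨x, hx, he⟩ := DihBlock.regS_pos (K := G) 2 (by norm_num) χ
  have h1 := q1_spec hM hB hχ hχ
  rw [he] at h1
  have h2 : (2 : ℝ) ^ blockDefect 2 B * x = (Nat.card G : ℝ) * (q1 B χ χ : ℝ) := by
    exact_mod_cast h1
  have h3 : (0 : ℝ) < (Nat.card G : ℝ) * (q1 B χ χ : ℝ) := h2 ▸ mul_pos (by positivity) hx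
  exact_mod_cast (mul_pos_iff_of_pos_left (Nat.cast_pos.2 Nat.card_pos)).1 h3

theorem q1_comm (hM : IsPModular 2 M) (hB : IsPBlock M B) {χ ψ : IrrCharacter G} (hχ : χ ∈ B)
    (hψ : ψ ∈ B) : q1 B χ ψ = q1 B ψ χ :=
  q1_eq hM hB hχ hψ (by rw [regS_comm]; exact q1_spec hM hB hψ hχ)

theorem q1_odd (hM : IsPModular 2 M) (hB : IsPBlock M B) {χ ψ : IrrCharacter G} (hχ : χ ∈ B)
    (hψ : ψ ∈ B) (h0 : blockHeight 2 B (χ : G → ℂ) = 0) (h1 : blockHeight 2 B (ψ : G → ℂ) = 0) :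
    ¬ (2 : ℤ) ∣ q1 B χ ψ := by
  obtain ⟨q, hq, -, h3, -⟩ := exists_int_proj hM hB hχ hψ
  rw [q1_eq hM hB hχ hψ hq]
  exact_mod_cast h3 ((height_zero_iff hχ).1 h0) ((height_zero_iff hψ).1 h1)

theorem q1_exact (hM : IsPModular 2 M) (hB : IsPBlock M B) {χ ψ : IrrCharacter G} (hχ : χ ∈ B)
    (hψ : ψ ∈ B) (h0 : blockHeight 2 B (χ : G → ℂ) = 0) :
    (2 : ℤ) ^ blockHeight 2 B (ψ : G → ℂ) ∣ q1 B χ ψ ∧
      ¬ (2 : ℤ) ^ (blockHeight 2 B (ψ : G → ℂ) + 1) ∣ q1 B χ ψ ∧ q1 B χ ψ ≠ 0 := by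
  obtain ⟨q, hq, h2, -⟩ := exists_int_proj hM hB hψ hχ
  obtain ⟨q', hq', -, h3, h4, -⟩ := exists_int_proj hM hB hχ hψ
  have e := q1_eq hM hB hψ hχ hq
  have e' := q1_eq hM hB hχ hψ hq'
  rw [q1_comm hM hB hχ hψ] at *
  rw [blockHeight_eq]
  have hm := minDv_le (p := 2) hψ
  refine ⟨by rw [e]; exact_mod_cast h2, ?_⟩
  rw [e']
  rcases hm.eq_or_lt with he | hlt
  · have := h3 ((height_zero_iff hχ).1 h0) he.symm
    rw [← he, Nat.sub_self, zero_add, pow_one]
    exact ⟨by exact_mod_cast this, fun h => this (h ▸ dvd_zero _)⟩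
  · obtain ⟨a, b⟩ := h4 ((height_zero_iff hχ).1 h0) hlt
    exact ⟨by exact_mod_cast b, a⟩

/-- The outer elements unfused to the cyclic part. -/
noncomputable def uset (M : Ideal AlgInt) (D : Subgroup G)
    (e : Set (IrrCharacter (Subgroup.centralizer (D : Set G)))) (σ τ : G) : Finset ℕ :=
  open Classical in (Finset.range 2).filter fun x => ¬ Inner M D e σ (oe σ τ x)

theorem mem_uset {x : ℕ} : x ∈ uset M D e σ τ ↔ x < 2 ∧ ¬ Inner M D e σ (oe σ τ x) := by
  classical simp [uset]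

theorem Inner.of_fus (hM : IsPModular 2 M) (hmax : IsMaximalBrauerPair 2 M B D e) {u v : G}
    (hf : Fus 2 M D e u v) (hi : Inner M D e σ v) : Inner M D e σ u := by
  obtain ⟨w, hw, hvw⟩ := hi
  exact ⟨w, hw, fus_trans hM hmax hf hvw⟩

/-- In the quaternion case the two unfused outer classes are not fused to each other. -/
theorem TG.no_pair (hd : TG D σ τ h r) (hM : IsPModular 2 M)
    (hmax : IsMaximalBrauerPair 2 M B D e) (h0 : ¬ Inner M D e σ (oe σ τ 0))
    (h1 : ¬ Inner M D e σ (oe σ τ 1)) : ¬ Fus 2 M D e (oe σ τ 0) (oe σ τ 1) := by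
  classical
  intro hf
  haveI := Fintype.ofFinite (nr σ h)
  obtain ⟨f, a, s, t, L⟩ := exists_loc hM hmax hd
  obtain ⟨ψ₀, T, P⟩ := L.exists_par
  have h2 := hd.two_le
  have hne : oe σ τ 0 ≠ oe σ τ 1 := fun e1 => by
    have e2 := mul_right_cancel e1
    have := hd.toCyc.pow_inj (show 0 < 2 * h by omega) (show 1 < 2 * h by omega) e2
    omega
  rcases hd.typ with ⟨hr, ht⟩ | ⟨hr, ht, h4⟩
  swap
  · have ho := fus_order hf
    have e0 : orderOf (oe σ τ 0) ∣ 2 := orderOf_dvd_of_pow_eq_one (by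
      show (σ ^ 0 * τ) ^ 2 = 1
      rw [pow_zero, one_mul, sq, ht])
    rw [← ho, orderOf_dvd_iff_pow_eq_one, sq] at e0
    have e1 : oe σ τ 1 * oe σ τ 1 = σ ^ h := by
      show σ ^ 1 * τ * (σ ^ 1 * τ) = _
      rw [hd.out_sq, ht, mul_one, mul_one, hr, show 1 + (h - 1) = h by omega]
    rw [e0] at e1
    exact hd.toCyc.z_ne.1 e1.symm
  -- the cover
  have hT : Cover M D e σ τ {0} := by
    refine ⟨fun x hx => by rw [Finset.mem_singleton.1 hx]; norm_num,
      fun x hx => by rw [Finset.mem_singleton.1 hx]; exact h0,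
      fun x hx y hy _ => by rw [Finset.mem_singleton.1 hx, Finset.mem_singleton.1 hy], ?_⟩
    intro x hx
    refine Or.inr ⟨0, Finset.mem_singleton_self 0, ?_⟩
    interval_cases x
    · exact fus_refl hM hmax (hd.out_mem 0)
    · exact fus_symm hM hmax (hd.out_mem 0) hf
  -- the test function
  obtain ⟨η, hgen, hcl, hin, hout⟩ := hd.exists_lin (1 : ℂˣ) (-1) (by simp) (by simp)
  simp only [one_pow, one_mul, Units.val_one, Units.val_neg] at hin hout
  have hgen' : IsGeneralizedCharacter D fun u : D => (1 : ℂ) - η u := by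
    haveI := Fintype.ofFinite D
    exact isGenChar_sub (isGenChar_of_char (isCharacter_of_irr (isIrrCharacter_one (G := D)))) hgen
  have hst : IsStableFun 2 M D e fun u => (1 : ℂ) - η u := by
    refine P.stable (fun x hx u hu => by rw [hcl x hx u hu]) (fun ε hε hfε => ?_)
      (fun ε hε hfε => ?_) (fun _ => by rw [hout, hout])
    · exfalso
      have : Inner M D e σ (oe σ τ ε) := ⟨_, Subgroup.npow_mem_zpowers σ _, hfε⟩
      interval_cases ε
      exacts [h0 this, h1 this]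
    · exfalso
      have : Inner M D e σ (oe σ τ ε) := ⟨_, Subgroup.npow_mem_zpowers σ _, hfε⟩
      interval_cases ε
      exacts [h0 this, h1 this]
  set u := oe σ τ 0 with hu
  have huD : u ∈ D := hd.out_mem 0
  obtain ⟨hu2, hu1⟩ := hd.oe_order 0
  obtain ⟨hsv, hsum⟩ := P.out_local huD h0 hu1
  set c : IrrCharacter G → ℂ := fun χ => cval u (bEl 2 M D e u) (χ : G → ℂ) with hc
  have heven : ∀ χ ∈ B, ∃ n : ℤ, c χ * conj (c χ) = 2 * (n : ℂ) := by
    intro χ hχ
    obtain ⟨n, hn⟩ := P.star_int hst hgen' χ χ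
    have h3 := P.formula hT hst hχ hχ
    rw [hn] at h3
    have e0 : η 1 = 1 := by simpa using hin 0
    simp only [e0, hin, hout, sub_self, zero_mul, Finset.sum_const_zero, zero_add,
      Finset.sum_singleton, sub_neg_eq_add] at h3
    refine ⟨n, ?_⟩
    rw [← hsv χ χ]
    have hh : (h : ℂ) ≠ 0 := Nat.cast_ne_zero.2 (by omega)
    refine mul_left_cancel₀ hh ?_
    push_cast at h3
    linear_combination -(1 / 2 : ℂ) * h3
  -- the values are real Gaussian integers
  have hsq : u * u = σ ^ h := by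
    show σ ^ 0 * τ * (σ ^ 0 * τ) = σ ^ h
    rw [hd.out_sq, ht, mul_zero, add_zero, pow_zero, one_mul]
  have hinv : rho σ h * u * (rho σ h)⁻¹ = u⁻¹ := by
    refine eq_inv_of_mul_eq_one_left ?_
    show rho σ h * (σ ^ 0 * τ) * (rho σ h)⁻¹ * (σ ^ 0 * τ) = 1
    rw [pow_zero, one_mul, show rho σ h * τ * (rho σ h)⁻¹ * τ =
      rho σ h * (τ * rho σ h * τ⁻¹)⁻¹ * (τ * τ) by group, hd.conj_rho, inv_inv, hd.sq_half, ht,
      hd.toCyc.z_ne.2]
  have hb : bEl 2 M D e u⁻¹ = bEl 2 M D e u := by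
    show subIdx 2 M ⟨D, e⟩ (Subgroup.zpowers u⁻¹) = subIdx 2 M ⟨D, e⟩ (Subgroup.zpowers u)
    rw [Subgroup.zpowers_inv]
  have hbc : conjIdx (rho σ h) (bEl 2 M D e u) = bEl 2 M D e u⁻¹ := by
    rw [← hinv]
    refine (fus_bEl hM hmax ?_).symm
    have h3 := carries_mul_left hM (hd.pow_mem' (h / 2)) (bEl_spec hM hmax huD).2.1
    rwa [mul_one] at h3
  haveI := Fintype.ofFinite (Subgroup.centralizer ((Subgroup.zpowers u : Subgroup G) : Set G))
  obtain ⟨b, hbb, hind, -⟩ := pp_secPair hM hmax huD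
  obtain ⟨k, hk⟩ := hu2
  have hl : blockRank 2 b = 1 := by
    have hd4 : 2 ^ blockDefect 2 (bEl 2 M D e u).2 = 4 := by
      obtain ⟨h1', h2'⟩ := subIdx_spec hM (a := (⟨D, e⟩ : BrauerPairIdx G)) hmax.1.1.1 hmax.1.1.2
        (Q := Subgroup.zpowers u) (Subgroup.zpowers_le.2 huD)
      obtain ⟨x, hx, hcard⟩ := exists_conj_centP hM hmax h1' h2'
      have hx' : Carries 2 M D e x (bEl 2 M D e u) := hx
      refine hcard.trans ?_
      have hR : ∀ R : Subgroup G, R = Subgroup.zpowers (x * u * x⁻¹) →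
          Nat.card (D ⊓ Subgroup.centralizer (R : Set G) : Subgroup G) = 4 := by
        rintro R rfl
        exact hd.card_cent_out (carries_mem rfl hx') fun hm => h0 ⟨_, hm, x, hx', rfl⟩
      exact hR _ (conjMap_zpowers x u)
    rw [hbb] at hd4
    refine rank_one_four hM hind.1 (u := (⟨u, (isCentr_zpowers u).self_mem⟩ :
      Subgroup.centralizer ((Subgroup.zpowers u : Subgroup G) : Set G)))
      (Subgroup.mem_center_iff.2 fun g => Subtype.ext ((isCentr_zpowers u g).1 g.2))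
      ⟨k, by rw [← Subgroup.orderOf_coe]; exact hk⟩ (fun e => hu1 (congrArg Subtype.val e)) hd4
  obtain ⟨φ, d, n, hf', -, -, hval, hdeg, -, -, -⟩ := single_block hM hind.1 hl
  have hreal : ∀ χ : IrrCharacter G, conj (c χ) = c χ := by
    intro χ
    have e1 : c χ = cval u⁻¹ (bEl 2 M D e u) (χ : G → ℂ) := by
      conv_rhs => rw [← hb, ← hbc, ← hinv, cval_conj]
    conv_rhs => rw [e1]
    simp only [hc]
    rw [hbb, cval_eq_sum hM (φ := φ) hf' hdeg, cval_eq_sum hM (φ := φ) hf' hdeg, map_sum]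
    refine Finset.sum_congr rfl fun θ _ => ?_
    rw [map_mul, map_natCast]
    congr 1
    rw [classInner, classInner, map_mul, map_inv₀, map_natCast, map_sum]
    congr 1
    refine Fintype.sum_equiv (Equiv.inv _) _ _ fun g => ?_
    simp only [sec, Equiv.inv_apply, map_mul, Complex.conj_conj, Subgroup.coe_inv]
    rw [irr_conjInv, irr_conjInv, inv_inv, mul_inv_rev]
    rw [(((isCentr_zpowers u (g : G)).1 g.2).inv_inv).eq]
  have hint : ∀ χ : IrrCharacter G, ∃ m : ℤ, c χ = (m : ℂ) := by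
    intro χ
    choose N ω hN hω hNω using fun θ => sec_coeff hM (isCentr_zpowers u) hk χ θ
    have h4 : ∀ θ, ω θ ^ 4 = 1 := fun θ => by
      have : 2 ^ k ∣ 4 := hk ▸ orderOf_dvd_of_pow_eq_one (hd.oe_sq_sq 0)
      exact orderOf_dvd_iff_pow_eq_one.1 ((orderOf_dvd_of_pow_eq_one (hω θ)).trans this)
    have hg : ∀ θ, ∃ x y : ℤ, ω θ = (x : ℂ) + y * Complex.I := by
      intro θ
      have e : (ω θ - 1) * (ω θ + 1) * ((ω θ - Complex.I) * (ω θ + Complex.I)) = 0 := by
        linear_combination h4 θ + (1 - ω θ ^ 2) * Complex.I_mul_I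
      rcases mul_eq_zero.1 e with e | e <;> rcases mul_eq_zero.1 e with e | e
      · exact ⟨1, 0, by push_cast; linear_combination e⟩
      · exact ⟨-1, 0, by push_cast; linear_combination e⟩
      · exact ⟨0, 1, by push_cast; linear_combination e⟩
      · exact ⟨0, -1, by push_cast; linear_combination e⟩
    choose x y hxy using hg
    refine ⟨∑ θ ∈ bset b, (N θ : ℤ) * x θ * d θ, ?_⟩
    have e : c χ = ((∑ θ ∈ bset b, (N θ : ℤ) * x θ * d θ : ℤ) : ℂ) +
        ((∑ θ ∈ bset b, (N θ : ℤ) * y θ * d θ : ℤ) : ℂ) * Complex.I := by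
      simp only [hc]
      rw [hbb, cval_eq_sum hM (φ := φ) hf' hdeg, Int.cast_sum, Int.cast_sum, Finset.sum_mul,
        ← Finset.sum_add_distrib]
      refine Finset.sum_congr rfl fun θ _ => ?_
      rw [hNω, hxy]
      simp only [Int.cast_mul, Int.cast_natCast]
      ring
    have hr' := hreal χ
    rw [e, map_add, map_mul, map_intCast, map_intCast, Complex.conj_I] at hr'
    have hy : ((∑ θ ∈ bset b, (N θ : ℤ) * y θ * d θ : ℤ) : ℂ) * Complex.I = 0 := by
      linear_combination -(1 / 2 : ℂ) * hr'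
    rw [e, hy, add_zero]
  choose m hm using hint
  -- one value is two
  have hm4 : ∀ χ ∈ bset B, (4 : ℤ) ∣ m χ * m χ := by
    intro χ hχ
    obtain ⟨n, hn⟩ := heven χ (mem_bset.1 hχ)
    rw [hm χ, map_intCast] at hn
    have h3 : m χ * m χ = 2 * n := by exact_mod_cast hn
    obtain ⟨q, hq⟩ := Int.Prime.dvd_mul' Nat.prime_two (show ((2 : ℕ) : ℤ) ∣ m χ * m χ from ⟨n, h3⟩) |>.elim id id
    exact ⟨q * q, by rw [hq]; ring⟩
  have hm2 : ∑ χ ∈ bset B, m χ * m χ = 4 := by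
    have h3 := hsum
    rw [Finset.sum_congr rfl fun χ _ => by rw [hsv χ χ]] at h3
    simp only [hc] at hm
    simp only [hm, map_intCast] at h3
    exact_mod_cast h3
  obtain ⟨χ, hχ, hne0⟩ : ∃ χ ∈ bset B, m χ * m χ ≠ 0 :=
    Finset.exists_ne_zero_of_sum_ne_zero (by rw [hm2]; norm_num)
  have hχ4 : m χ * m χ = 4 := by
    have hle := Finset.single_le_sum (f := fun χ => m χ * m χ)
      (fun χ _ => mul_self_nonneg _) hχ
    rw [hm2] at hle
    obtain ⟨q, hq⟩ := hm4 χ hχ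
    have := mul_self_nonneg (m χ)
    omega
  -- the row is too long
  have hB := mem_bset.1 hχ
  have hone := P.formula_one hT hB hB
  rw [Finset.sum_singleton, hsv, if_pos rfl] at hone
  simp only [hc] at hm
  rw [hm χ, map_intCast] at hone
  have hχ4' : (m χ : ℂ) * (m χ : ℂ) = 4 := by exact_mod_cast hχ4
  obtain ⟨x, hx, hxe⟩ := pp_self_nonneg (D := D) (e := e) hM (σ ^ h) χ
  have hL : ∑ i ∈ gset h, lam a T χ (s ^ i) * conj (lam a T χ (s ^ i)) =
      ((∑ i ∈ gset h, Complex.normSq (lam a T χ (s ^ i)) : ℝ) : ℂ) := by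
    rw [Complex.ofReal_sum]
    exact Finset.sum_congr rfl fun i _ => Complex.mul_conj _
  rw [qz, hxe, hL] at hone
  have h5 : ((q1 B χ χ : ℝ) + (4 * h : ℕ) * x +
      ∑ i ∈ gset h, Complex.normSq (lam a T χ (s ^ i)) : ℝ) = 0 := by
    apply Complex.ofReal_injective
    push_cast
    push_cast at hone
    linear_combination hone - (h : ℂ) * hχ4'
  have h6 : (0 : ℝ) < q1 B χ χ := Int.cast_pos.2 (q1_pos hM hmax.1.2.1 hB)
  have h7 : (0 : ℝ) ≤ ∑ i ∈ gset h, Complex.normSq (lam a T χ (s ^ i)) :=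
    Finset.sum_nonneg fun i _ => Complex.normSq_nonneg _
  have h8 : (0 : ℝ) ≤ ((4 * h : ℕ) : ℝ) * x := mul_nonneg (Nat.cast_nonneg _) hx
  linarith

/-- The unfused classes cover the outer elements. -/
theorem TG.cover (hd : TG D σ τ h r) (hM : IsPModular 2 M)
    (hmax : IsMaximalBrauerPair 2 M B D e) : Cover M D e σ τ (uset M D e σ τ) where
  lt := fun x hx => (mem_uset.1 hx).1
  not_inner := fun x hx => (mem_uset.1 hx).2
  apart := fun x hx y hy hf => by
    obtain ⟨hx1, hx2⟩ := mem_uset.1 hx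
    obtain ⟨hy1, hy2⟩ := mem_uset.1 hy
    interval_cases x <;> interval_cases y
    · rfl
    · exact absurd hf (hd.no_pair hM hmax hx2 hy2)
    · exact absurd (fus_symm hM hmax (hd.out_mem 1) hf) (hd.no_pair hM hmax hy2 hx2)
    · rfl
  cover := fun x hx => by
    by_cases hi : Inner M D e σ (oe σ τ x)
    · exact Or.inl hi
    · exact Or.inr ⟨x, mem_uset.2 ⟨hx, hi⟩, fus_refl hM hmax (hd.out_mem x)⟩

/-- For the quaternion group of order eight both outer classes behave alike. -/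
theorem TG.eight (hd : TG D σ τ h r) (hM : IsPModular 2 M)
    (hmax : IsMaximalBrauerPair 2 M B D e) (h2 : h = 2) {x y : ℕ} (hx : x < 2) (hy : y < 2)
    (hxy : x ≠ y) (hix : Inner M D e σ (oe σ τ x)) : Inner M D e σ (oe σ τ y) := by
  classical
  by_contra hiy
  subst h2
  rcases hd.typ with ⟨hr, ht⟩ | ⟨-, -, h4⟩
  swap
  · omega
  have hsub : ∀ v : G, v ∈ D → orderOf v = 4 → v ∈ Subgroup.zpowers σ →
      Fus 2 M D e v σ := by
    intro v hv ho hvz
    obtain ⟨t, rfl⟩ := (IsOfFinOrder.mem_powers_iff_mem_zpowers (isOfFinOrder_of_finite σ)).2 hvz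
    simp only at hv ho ⊢
    rw [← hd.pow_mod] at hv ho ⊢
    have := Nat.mod_lt t (show 2 * 2 > 0 by norm_num)
    interval_cases hk : t % (2 * 2)
    · rw [pow_zero, orderOf_one] at ho; omega
    · rw [pow_one]; exact fus_refl hM hmax hd.memσ
    · rw [orderOf_eq_prime (p := 2) (by rw [sq]; exact hd.toCyc.z_ne.2) hd.toCyc.z_ne.1] at ho
      omega
    · have h3 := fus_inner hM hmax (hd.pow_mem' 3) hd.memτ
      rwa [hd.conj_pow, hr, ← hd.pow_mod ((2 * 2 - 1) * 3),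
        show (2 * 2 - 1) * 3 % (2 * 2) = 1 from rfl, pow_one] at h3
  -- the inner class contains σ
  have hsq : ∀ i, oe σ τ i * oe σ τ i = σ ^ 2 := fun i => by
    show σ ^ i * τ * (σ ^ i * τ) = _
    rw [hd.out_sq, ht, hr, ← pow_add, ← hd.pow_mod]
    congr 1
    omega
  have ho4 : ∀ i, orderOf (oe σ τ i) = 4 := fun i => by
    haveI : Fact (Nat.Prime 2) := ⟨Nat.prime_two⟩
    refine orderOf_eq_prime_pow (p := 2) (n := 1) ?_ ?_
    · rw [pow_one, sq, hsq]; exact hd.toCyc.z_ne.1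
    · exact hd.oe_sq_sq i
  have hxσ : Fus 2 M D e (oe σ τ x) σ := by
    obtain ⟨v, hv, hf⟩ := hix
    exact fus_trans hM hmax hf (hsub v (fus_mem hf) ((fus_order hf).trans (ho4 x)) hv)
  -- new generators
  set σ' := oe σ τ y with hσ'
  have hconj : σ * σ' * σ⁻¹ = σ' ^ 3 := by
    show σ * (σ ^ y * τ) * σ⁻¹ = _
    rw [show (σ ^ y * τ : G) ^ 3 = σ ^ 2 * (σ ^ y * τ) by rw [pow_succ, sq, hsq]]
    have e := hd.conj_pow 1
    rw [pow_one, mul_one, hr] at e
    calc σ * (σ ^ y * τ) * σ⁻¹ = σ ^ y * σ * (τ * σ * τ⁻¹)⁻¹ * τ := by group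
      _ = σ ^ 2 * (σ ^ y * τ) := by
        rw [e, ← pow_succ, ← mul_assoc, ← pow_add]
        congr 1
        rw [mul_inv_eq_iff_eq_mul, ← pow_add, ← hd.pow_mod, ← hd.pow_mod (2 + y + _)]
        congr 1
        omega
  have hσn : σ ∉ Subgroup.zpowers σ' := fun hm =>
    hiy ⟨σ, Subgroup.mem_zpowers σ, by
      obtain ⟨t, ht'⟩ := (IsOfFinOrder.mem_powers_iff_mem_zpowers (isOfFinOrder_of_finite σ')).2 hm
      exfalso
      have hc : Commute σ σ' := ht' ▸ (Commute.refl σ').pow_left t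
      rw [hc.eq, mul_inv_cancel_right, pow_succ, sq] at hconj
      have := mul_right_cancel ((one_mul σ').trans hconj)
      rw [hsq] at this
      exact hd.toCyc.z_ne.1 this.symm⟩
  have hd' : TG D σ' σ 2 r := by
    refine ⟨⟨hd.toCyc.hpow, ho4 y⟩, hd.card, hd.out_mem y, hd.memσ, hσn, ?_, Or.inl ⟨hr, ?_⟩⟩
    · rw [hr]; exact hconj
    · rw [sq σ', show σ' * σ' = σ ^ 2 from hsq y, sq]
  have e0 : oe σ' σ 0 = σ := by show σ' ^ 0 * σ = σ; rw [pow_zero, one_mul]
  have he1 : Fus 2 M D e (oe σ' σ 1) (oe σ τ x) := by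
    have hm : oe σ' σ 1 = σ ^ (y + 3) * τ := by
      show σ' ^ 1 * σ = _
      rw [pow_one, hσ']
      have e := hd.conj_pow 1
      rw [pow_one, mul_one, hr] at e
      calc σ ^ y * τ * σ = σ ^ y * (τ * σ * τ⁻¹) * τ := by group
        _ = _ := by rw [e, ← pow_add]
    obtain ⟨g, hg, hge⟩ := hd.out_class (y + 3)
    have hx3 : (y + 3) % 2 = x := by omega
    rw [hx3] at hge
    rw [hm, show oe σ τ x = g * (σ ^ (y + 3) * τ) * g⁻¹ from hge.symm]
    exact fus_inner hM hmax (hd.out_mem _) hg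
  have hin : ∀ u ∈ D, Fus 2 M D e u σ → ¬ Inner M D e σ' u := by
    rintro u hu hf ⟨v, hv, hfv⟩
    have hσv : Fus 2 M D e σ v := fus_trans hM hmax (fus_symm hM hmax hu hf) hfv
    have hov : orderOf v = 4 := by rw [fus_order hσv, hd.toCyc.ord]
    obtain ⟨t, rfl⟩ := (IsOfFinOrder.mem_powers_iff_mem_zpowers (isOfFinOrder_of_finite σ')).2 hv
    simp only at hσv hov
    have h4' : σ' ^ (2 * 2) = 1 := by rw [← hd'.toCyc.ord]; exact pow_orderOf_eq_one σ'
    rw [pow_eq_pow_mod t h4'] at hσv hov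
    refine hiy ⟨σ, Subgroup.mem_zpowers σ, fus_symm hM hmax hd.memσ ?_⟩
    have := Nat.mod_lt t (show 2 * 2 > 0 by norm_num)
    interval_cases hk : t % (2 * 2)
    · rw [pow_zero, orderOf_one] at hov; omega
    · rwa [pow_one] at hσv
    · rw [sq, hsq, orderOf_eq_prime (p := 2) (by rw [sq]; exact hd.toCyc.z_ne.2) hd.toCyc.z_ne.1]
        at hov
      omega
    · have h5 := fus_inner hM hmax (D.mul_mem (D.mul_mem hd.memσ (hd.out_mem y))
        (D.inv_mem hd.memσ)) (D.inv_mem hd.memσ)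
      refine fus_trans hM hmax hσv ?_
      rw [← hconj]
      rwa [show σ⁻¹ * (σ * σ' * σ⁻¹) * σ⁻¹⁻¹ = σ' by group] at h5
  exact hd'.no_pair hM hmax (hin _ (hd'.out_mem 0) (e0.symm ▸ fus_refl hM hmax hd.memσ))
    (hin _ (hd'.out_mem 1) (fus_trans hM hmax he1 hxσ))
    (e0.symm ▸ fus_symm hM hmax (hd'.out_mem 1) (fus_trans hM hmax he1 hxσ))

end CfsgLib.Blocks.Tame
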