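import Cfsg.Agent.Lib.Blocks.TameBlock.Rows

/-!
# The number of members
-/

namespace CfsgLib.Blocks.Tame

open Cfsg CfsgLib.CharTheory CfsgLib.Blocks.DihBlock
open scoped ComplexConjugate

set_option linter.unusedVariables false
set_option linter.unusedSimpArgs false
set_option linter.style.haveILetI false
set_option linter.unusedSectionVars false

universe u

variable {G : Type u} [Group G] [Fintype G] {M : Ideal AlgInt} {B : Set (IrrCharacter G)}
  {D : Subgroup G} {e : Set (IrrCharacter (Subgroup.centralizer (D : Set G)))} {σ τ : G} {h r : ℕ}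
  [Fintype (nr σ h)] {f : Set (IrrCharacter (nr σ h))} {a : BrauerPairIdx (nr σ h)}
  {s t : nr σ h} {ψ₀ : IrrCharacter (nr σ h)} {T : IrrCharacter a.1 → IrrCharacter (nr σ h)}
  {ζ : ℂ} {b : IrrCharacter G → ℕ → ℤ}

theorem card_gset (h : ℕ) (h0 : 0 < h) : (gset h).card + 2 = 2 * h := by
  have e := sum_all (R := ℕ) h0 (fun _ => 1)
  simp only [Finset.sum_const, Finset.card_range, smul_eq_mul, mul_one] at e
  omega

/-- The number of members in terms of the ranks. -/
theorem Par.card_formula (P : Par M B D e σ τ h r f a s t ψ₀ T) :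
    (bset B).card + 1 =
      blockRank 2 B + lz M D e σ h + h + (uset M D e σ τ).card := by
  classical
  have hd := P.hd
  have hM := P.hM
  have hm := P.hmax
  have h2 := hd.two_le
  have hT := hd.cover hM hm
  have hsum : ∑ χ ∈ bset B, ((q1 B χ χ : ℂ) + qz M D e σ h χ χ +
      ∑ i ∈ gset h, lam a T χ (s ^ i) * conj (lam a T χ (s ^ i)) +
      ∑ x ∈ uset M D e σ τ, (h : ℂ) * sv M D e (oe σ τ x) χ χ) =
      ∑ χ ∈ bset B, ((4 * h : ℕ) : ℂ) := Finset.sum_congr rfl fun χ hχ => by
    rw [P.formula_one hT (mem_bset.1 hχ) (mem_bset.1 hχ), if_pos rfl]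
  simp only [Finset.sum_add_distrib] at hsum
  rw [sum_q1 hM hm.1.2.1, P.sum_qz, Finset.sum_comm (s := bset B) (t := gset h),
    Finset.sum_comm (s := bset B) (t := uset M D e σ τ),
    Finset.sum_congr rfl fun i hi => by
      rw [P.orth (Finset.mem_filter.1 hi).2 (Finset.mem_filter.1 hi).2, if_pos rfl,
        if_neg (hd.r_good (Finset.mem_filter.1 hi).2).2.symm, add_zero, mul_one],
    Finset.sum_congr (s₁ := uset M D e σ τ) rfl fun x hx =>
      show ∑ χ ∈ bset B, (h : ℂ) * sv M D e (oe σ τ x) χ χ = (h : ℂ) * 4 by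
        rw [← Finset.mul_sum, (P.out_local (hd.out_mem x) (mem_uset.1 hx).2 (hd.oe_order x).2).2],
    ← Nat.cast_pow, hd.defect hM hm] at hsum
  simp only [Finset.sum_const, nsmul_eq_mul] at hsum
  have hg := card_gset h (by omega)
  have hN : 4 * h * blockRank 2 B + 4 * h * lz M D e σ h + (gset h).card * (2 * h) +
      (uset M D e σ τ).card * (h * 4) = (bset B).card * (4 * h) := by exact_mod_cast hsum
  have hg' : (gset h).card * (2 * h) + 4 * h = 4 * h * h := by
    calc (gset h).card * (2 * h) + 4 * h = ((gset h).card + 2) * (2 * h) := by ring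
      _ = 4 * h * h := by rw [hg]; ring
  refine Nat.eq_of_mul_eq_mul_left (show 0 < 4 * h by omega) ?_
  linarith

end CfsgLib.Blocks.Tame
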