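import Cfsg.Agent.Lib.Blocks.TameBlock.Coef
import Cfsg.Agent.Lib.Blocks.Star.Fixed
import Cfsg.Agent.Lib.Blocks.CyclicValue
import Cfsg.Agent.Lib.Blocks.KleinBlocks

/-!
# The inner product formula of a tame block
-/

namespace CfsgLib.Blocks.Tame

open Cfsg CfsgLib.CharTheory
open scoped ComplexConjugate

set_option linter.unusedVariables false
set_option linter.unusedSimpArgs false
set_option linter.style.haveILetI false
set_option linter.unusedSectionVars false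

universe u

/-- The two representatives of the outer elements. -/
abbrev oe {K : Type u} [Group K] (σ τ : K) (ε : ℕ) : K := σ ^ ε * τ

variable {G : Type u} [Group G] [Fintype G] {M : Ideal AlgInt} {B : Set (IrrCharacter G)}
  {D : Subgroup G} {e : Set (IrrCharacter (Subgroup.centralizer (D : Set G)))} {σ τ : G} {h r : ℕ}

theorem fus_order {p : ℕ} {u v : G} (hf : Fus p M D e u v) : orderOf v = orderOf u := by
  obtain ⟨g, -, rfl⟩ := hf
  exact conj_orderOf g u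

/-- Fused pairs to any element of the cyclic part. -/
def Inner (M : Ideal AlgInt) (D : Subgroup G)
    (e : Set (IrrCharacter (Subgroup.centralizer (D : Set G)))) (σ u : G) : Prop :=
  ∃ v ∈ Subgroup.zpowers σ, Fus 2 M D e u v

/-- A set of representatives for the classes outside the cyclic part. -/
structure Cover (M : Ideal AlgInt) (D : Subgroup G)
    (e : Set (IrrCharacter (Subgroup.centralizer (D : Set G)))) (σ τ : G) (T : Finset ℕ) : Prop where
  lt : ∀ x ∈ T, x < 2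
  not_inner : ∀ x ∈ T, ¬ Inner M D e σ (oe σ τ x)
  apart : ∀ x ∈ T, ∀ y ∈ T, Fus 2 M D e (oe σ τ x) (oe σ τ y) → x = y
  cover : ∀ x < 2, Inner M D e σ (oe σ τ x) ∨ ∃ y ∈ T, Fus 2 M D e (oe σ τ x) (oe σ τ y)

variable [Fintype (nr σ h)] {f : Set (IrrCharacter (nr σ h))} {a : BrauerPairIdx (nr σ h)}
  {s t : nr σ h} {ψ₀ : IrrCharacter (nr σ h)} {T : IrrCharacter a.1 → IrrCharacter (nr σ h)}
  {ζ : ℂ}

/-- Two fused rotations have exponents conjugate inside `D`. -/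
theorem Par.fus_good (P : Par M B D e σ τ h r f a s t ψ₀ T) {l m : ℕ} (hl : Good h l)
    (hm : Good h m) (hf : Fus 2 M D e (σ ^ l) (σ ^ m)) : m = l ∨ m = r * l % (2 * h) := by
  classical
  by_contra hc
  push Not at hc
  have hh : ((2 * h : ℕ) : ℂ) ≠ 0 := Nat.cast_ne_zero.2 (by have := P.hd.two_le; omega)
  have e : ∀ χ ψ : IrrCharacter G, lam a T χ (s ^ m) * conj (lam a T ψ (s ^ m)) =
      lam a T χ (s ^ l) * conj (lam a T ψ (s ^ l)) := fun χ ψ => by
    have h1 := pp_fus P.hM P.hmax hf χ ψ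
    rw [P.pp_good hm, P.pp_good hl] at h1
    exact (div_left_inj' hh).1 h1
  have hne := (P.hd.r_good hl).2
  have o1 := P.orth hl hl
  have o2 := P.orth hl hm
  rw [if_pos rfl, if_neg hne.symm, add_zero, mul_one] at o1
  rw [if_neg hc.1, if_neg hc.2, add_zero, mul_zero] at o2
  -- square of the inner product
  have h2 : (∑ χ ∈ bset B, conj (lam a T χ (s ^ l)) * lam a T χ (s ^ m)) *
      (∑ ψ ∈ bset B, lam a T ψ (s ^ l) * conj (lam a T ψ (s ^ m))) =
      (∑ χ ∈ bset B, conj (lam a T χ (s ^ l)) * lam a T χ (s ^ l)) *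
      (∑ ψ ∈ bset B, lam a T ψ (s ^ l) * conj (lam a T ψ (s ^ l))) := by
    rw [Finset.sum_mul_sum, Finset.sum_mul_sum]
    refine Finset.sum_congr rfl fun χ _ => Finset.sum_congr rfl fun ψ _ => ?_
    linear_combination (conj (lam a T χ (s ^ l)) * lam a T ψ (s ^ l)) * e χ ψ
  rw [o2, mul_zero, o1, Finset.sum_congr rfl fun χ _ => mul_comm _ _, o1] at h2
  exact mul_ne_zero hh hh h2.symm

omit [Fintype (nr σ h)] in
theorem TG.rep (hd : TG D σ τ h r) {u : G} (hu : u ∈ D) :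
    (∃ i < 2 * h, u = σ ^ i) ∨ ∃ ε < 2, ∃ x ∈ D, x * u * x⁻¹ = oe σ τ ε := by
  obtain ⟨i, hi, rfl | rfl⟩ := hd.mem_form hu
  · exact Or.inl ⟨i, hi, rfl⟩
  · obtain ⟨x, hx, he⟩ := hd.out_class i
    exact Or.inr ⟨i % 2, Nat.mod_lt _ two_pos, x, hx, he⟩

omit [Fintype (nr σ h)] in
theorem TG.oe_sq_sq (hd : TG D σ τ h r) (ε : ℕ) : oe σ τ ε ^ 4 = 1 := by
  rw [show (4 : ℕ) = 2 * 2 from rfl, pow_mul, sq, sq]
  rcases hd.out_sq_cases ε with e | e
  · rw [oe, e, one_mul]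
  · rw [oe, e, hd.toCyc.z_ne.2]

omit [Fintype (nr σ h)] in
/-- A power of `σ` with trivial fourth power. -/
theorem TG.pow_four (hd : TG D σ τ h r) {i : ℕ} (hi : i < 2 * h) (h4 : (σ ^ i) ^ 4 = 1) :
    i = 0 ∨ i = h ∨ i = h / 2 ∨ i = r * (h / 2) % (2 * h) := by
  rw [hd.rho_r]
  obtain ⟨q, hq, hq0⟩ := hd.half
  rw [← pow_mul] at h4
  have h5 := orderOf_dvd_of_pow_eq_one h4
  rw [hd.ord] at h5
  obtain ⟨c, hc⟩ : q ∣ i := Nat.dvd_of_mul_dvd_mul_left (k := 4) (by norm_num)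
    (by rw [show 4 * q = 2 * h by omega, mul_comm 4 i]; exact h5)
  have : c < 4 := by nlinarith
  interval_cases c <;> omega

/-- The fusion of the rotations. -/
theorem Par.fus_pow (P : Par M B D e σ τ h r f a s t ψ₀ T) {i j : ℕ} (hi : i < 2 * h)
    (hj : j < 2 * h) (hf : Fus 2 M D e (σ ^ i) (σ ^ j)) : j = i ∨ j = r * i % (2 * h) := by
  have hd := P.hd
  have ho := fus_order hf
  have h1 : ∀ k, k < 2 * h → (k = 0 ↔ orderOf (σ ^ k) = 1) := fun k hk => by
    rw [orderOf_eq_one_iff]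
    refine ⟨fun e => by rw [e, pow_zero], fun e => ?_⟩
    by_contra hk0
    exact hd.toCyc.pow_ne_one (by omega) hk e
  have hz : ∀ k, k < 2 * h → k ≠ 0 → (k = h ↔ orderOf (σ ^ k) ∣ 2) := fun k hk hk0 => by
    rw [orderOf_dvd_iff_pow_eq_one, sq]
    refine ⟨fun e => by rw [e, hd.toCyc.z_ne.2], fun e => ?_⟩
    by_contra hkh
    exact good_mem hd.toCyc ⟨by omega, hk, hkh⟩ e
  by_cases hi0 : i = 0
  · exact Or.inl (((h1 j hj).2 (ho.trans ((h1 i hi).1 hi0))).trans hi0.symm)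
  have hj0 : j ≠ 0 := fun e => hi0 ((h1 i hi).2 (ho.symm.trans ((h1 j hj).1 e)))
  by_cases hih : i = h
  · exact Or.inl (((hz j hj hj0).2 (ho ▸ (hz i hi hi0).1 hih)).trans hih.symm)
  have hjh : j ≠ h := fun e => hih ((hz i hi hi0).2 (ho ▸ (hz j hj hj0).1 e))
  exact P.fus_good ⟨by omega, hi, hih⟩ ⟨by omega, hj, hjh⟩ hf

/-- A criterion for stability. -/
theorem Par.stable (P : Par M B D e σ τ h r f a s t ψ₀ T) {η : G → ℂ}
    (hcl : ∀ x ∈ D, ∀ u ∈ D, η (x * u * x⁻¹) = η u)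
    (hρ : ∀ ε < 2, Fus 2 M D e (oe σ τ ε) (rho σ h) → η (oe σ τ ε) = η (rho σ h))
    (hz : ∀ ε < 2, Fus 2 M D e (oe σ τ ε) (σ ^ h) → η (oe σ τ ε) = η (σ ^ h))
    (hout : Fus 2 M D e (oe σ τ 0) (oe σ τ 1) → η (oe σ τ 0) = η (oe σ τ 1)) :
    IsStableFun 2 M D e η := by
  have hM := P.hM
  have hm := P.hmax
  have hd := P.hd
  have hmix : ∀ ε < 2, ∀ i < 2 * h, Fus 2 M D e (oe σ τ ε) (σ ^ i) → η (σ ^ i) = η (oe σ τ ε) := by
    intro ε hε i hi hf
    have ho := fus_order hf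
    have h4 : (σ ^ i) ^ 4 = 1 := orderOf_dvd_iff_pow_eq_one.1
      (ho ▸ orderOf_dvd_of_pow_eq_one (hd.oe_sq_sq ε))
    rcases hd.pow_four hi h4 with rfl | rfl | rfl | rfl
    · exfalso
      rw [pow_zero, orderOf_one] at ho
      exact hd.out_not ε (show σ ^ ε * τ ∈ Subgroup.zpowers σ by
        rw [show σ ^ ε * τ = 1 from orderOf_eq_one_iff.1 ho.symm]; exact one_mem _)
    · exact (hz ε hε hf).symm
    · exact (hρ ε hε hf).symm
    · have hcr : Fus 2 M D e (σ ^ (r * (h / 2) % (2 * h))) (rho σ h) := by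
        have := fus_inner hM hm (hd.pow_mem' (r * (h / 2) % (2 * h))) hd.memτ
        rwa [hd.conj_pow, ← hd.pow_mod (r * _), hd.r_inv (by have := hd.two_le; omega)] at this
      have h1 := hρ ε hε (fus_trans hM hm hf hcr)
      rw [h1, hd.pow_mod, ← hd.conj_pow, hcl _ hd.memτ _ (hd.pow_mem' _)]
  refine stable_of_fus hM hm fun u v hu hf => ?_
  have hv := fus_mem hf
  rcases hd.rep hu with ⟨i, hi, rfl⟩ | ⟨ε, hε, x, hx, hxe⟩
  · rcases hd.rep hv with ⟨j, hj, rfl⟩ | ⟨ε, hε, y, hy, hye⟩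
    · rcases P.fus_pow hi hj hf with rfl | rfl
      · rfl
      · rw [hd.pow_mod, ← hd.conj_pow, hcl _ hd.memτ _ (hd.pow_mem' _)]
    · have h1 := fus_trans hM hm hf (fus_inner hM hm hv hy)
      rw [hye] at h1
      have h2 := hmix ε hε i hi (fus_symm hM hm hu h1)
      rw [h2, ← hye, hcl y hy v hv]
  · have h0 : Fus 2 M D e (oe σ τ ε) v := by
      have h1 := fus_symm hM hm hu (fus_inner hM hm hu hx)
      rw [hxe] at h1
      exact fus_trans hM hm h1 hf
    rw [← hcl x hx u hu, hxe]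
    rcases hd.rep hv with ⟨j, hj, rfl⟩ | ⟨ε', hε', y, hy, hye⟩
    · exact hmix ε hε j hj h0
    · have h1 := fus_trans hM hm h0 (fus_inner hM hm hv hy)
      rw [hye] at h1
      rw [← hcl y hy v hv, hye]
      interval_cases ε <;> interval_cases ε'
      · rfl
      · exact (hout h1).symm
      · exact hout (fus_symm hM hm (hd.out_mem 1) h1)
      · rfl

/-- The contributions at the identity. -/
noncomputable def q1 (B : Set (IrrCharacter G)) (χ ψ : IrrCharacter G) : ℤ :=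
  open Classical in if χ ∈ B ∧ ψ ∈ B then Classical.epsilon (fun q : ℤ =>
    ((2 : ℕ) : ℂ) ^ blockDefect 2 B * regS 2 (χ : G → ℂ) (ψ : G → ℂ) = (Nat.card G : ℂ) * q) else 0

theorem q1_spec (hM : IsPModular 2 M) (hB : IsPBlock M B) {χ ψ : IrrCharacter G} (hχ : χ ∈ B)
    (hψ : ψ ∈ B) : ((2 : ℕ) : ℂ) ^ blockDefect 2 B * regS 2 (χ : G → ℂ) (ψ : G → ℂ) =
      (Nat.card G : ℂ) * q1 B χ ψ := by
  obtain ⟨q, hq, -⟩ := exists_int_proj hM hB hχ hψ
  rw [q1, if_pos ⟨hχ, hψ⟩]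
  exact Classical.epsilon_spec (p := fun q : ℤ =>
    ((2 : ℕ) : ℂ) ^ blockDefect 2 B * regS 2 (χ : G → ℂ) (ψ : G → ℂ) = (Nat.card G : ℂ) * q) ⟨q, hq⟩

theorem q1_eq (hM : IsPModular 2 M) (hB : IsPBlock M B) {χ ψ : IrrCharacter G} (hχ : χ ∈ B)
    (hψ : ψ ∈ B) {q : ℤ} (hq : ((2 : ℕ) : ℂ) ^ blockDefect 2 B *
      regS 2 (χ : G → ℂ) (ψ : G → ℂ) = (Nat.card G : ℂ) * q) : q1 B χ ψ = q := by
  have h := q1_spec hM hB hχ hψ
  rw [hq] at h
  exact_mod_cast (mul_left_cancel₀ (Nat.cast_ne_zero.2 Nat.card_pos.ne') h).symm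

/-- The contributions at the involution. -/
noncomputable def qz (M : Ideal AlgInt) (D : Subgroup G)
    (e : Set (IrrCharacter (Subgroup.centralizer (D : Set G)))) (σ : G) (h : ℕ)
    (χ ψ : IrrCharacter G) : ℂ :=
  ((4 * h : ℕ) : ℂ) * pp 2 M D e (σ ^ h) χ ψ

/-- The contributions at an outer element. -/
noncomputable def sv (M : Ideal AlgInt) (D : Subgroup G)
    (e : Set (IrrCharacter (Subgroup.centralizer (D : Set G)))) (u : G)
    (χ ψ : IrrCharacter G) : ℂ :=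
  4 * pp 2 M D e u χ ψ

omit [Fintype (nr σ h)] in
theorem TG.defect (hM : IsPModular 2 M) (hmax : IsMaximalBrauerPair 2 M B D e)
    (hd : TG D σ τ h r) : 2 ^ blockDefect 2 B = 4 * h := by
  rw [← card_defectGroup hM hmax.1.2.1 (maximal_isDefectGroup hM hmax), hd.card]
  ring

theorem Par.pp_one (P : Par M B D e σ τ h r f a s t ψ₀ T) {χ ψ : IrrCharacter G}
    (hχ : χ ∈ B) (hψ : ψ ∈ B) :
    ((4 * h : ℕ) : ℂ) * pp 2 M D e 1 χ ψ = (q1 B χ ψ : ℂ) := by
  classical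
  have hM := P.hM
  have hB := P.hmax.1.2.1
  obtain ⟨hb1, -, hb3⟩ := bEl_spec hM P.hmax D.one_mem
  have hone : ∀ a' ∈ pairsAt M (Subgroup.zpowers (1 : G)), IsBrauerPairOf 2 M B a'.1 a'.2 →
      a' = bEl 2 M D e 1 := by
    intro a' ha hp
    obtain ⟨g, hg⟩ := (carries_iff_pairOf hM P.hmax).2 hp
    have h1 := bEl_unique hM P.hmax (mem_pairsAt.1 ha).1 hg
    rw [mul_one, mul_inv_cancel] at h1
    rw [h1]
    obtain ⟨R, b⟩ := a'
    obtain rfl : R = Subgroup.zpowers (1 : G) := (mem_pairsAt.1 ha).1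
    exact (cent_le_pairStab _ b ((isCentr_zpowers 1 g).2 (Commute.one_right g))).symm
  have hval : ∀ (χ : IrrCharacter G), χ ∈ B → ∀ c ∈ regC 2 (1 : G),
      pairVal (bEl 2 M D e 1) (χ : G → ℂ) (1 * c) = (χ : G → ℂ) c := by
    intro χ hχ c hc
    rw [← Finset.sum_eq_single (s := pairsAt M (Subgroup.zpowers (1 : G)))
      (f := fun a' => pairVal a' (χ : G → ℂ) (1 * c)) _ (fun a' ha hne => ?_)
      (fun hn => absurd hb1 hn), sum_pairVal hM (irr_isClassFun χ) hc, one_mul]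
    exact pairVal_off hM hB hχ ⟨0, by simp⟩ ha (fun hp => hne (hone a' ha hp)) hc
  have hC : Nat.card (Subgroup.centralizer ((Subgroup.zpowers (1 : G) : Subgroup G) : Set G)) =
      Nat.card G := by
    rw [show Subgroup.centralizer ((Subgroup.zpowers (1 : G) : Subgroup G) : Set G) = ⊤ from
      eq_top_iff.2 fun g _ => (isCentr_zpowers 1 g).2 (Commute.one_right g), Subgroup.card_top]
  have hpT : pairT 2 (bEl 2 M D e 1) 1 (χ : G → ℂ) (ψ : G → ℂ) =
      regS 2 (χ : G → ℂ) (ψ : G → ℂ) := by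
    rw [regS_eq_sum, pairT]
    refine Finset.sum_congr ?_ fun c hc => ?_
    · ext c; simp [mem_regC]
    · have hc' : c ∈ regC 2 (1 : G) :=
        mem_regC.2 ⟨Commute.one_left c, (Finset.mem_filter.1 hc).2⟩
      rw [hval χ hχ c hc', hval ψ hψ c hc', irr_conjInv, irr_inv]
  have h1 := q1_spec hM hB hχ hψ
  rw [show ((2 : ℕ) : ℂ) ^ blockDefect 2 B = ((4 * h : ℕ) : ℂ) by
    rw [← Nat.cast_pow, P.hd.defect hM P.hmax]] at h1
  rw [pp, hC, hpT, ← mul_assoc, h1, mul_comm (Nat.card G : ℂ), mul_assoc,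
    mul_inv_cancel₀ (Nat.cast_ne_zero.2 Nat.card_pos.ne'), mul_one]

/-- The inner product formula. -/
theorem Par.formula (P : Par M B D e σ τ h r f a s t ψ₀ T) {T' : Finset ℕ}
    (hT : Cover M D e σ τ T') {η : G → ℂ} (hη : IsStableFun 2 M D e η) {χ ψ : IrrCharacter G}
    (hχ : χ ∈ B) (hψ : ψ ∈ B) :
    ((4 * h : ℕ) : ℂ) * classInner (starFun 2 M (pairW 2 M D e η) (χ : G → ℂ)) (ψ : G → ℂ) =
      η 1 * (q1 B χ ψ : ℂ) + η (σ ^ h) * qz M D e σ h χ ψ +
        ∑ i ∈ gset h, η (σ ^ i) * (lam a T χ (s ^ i) * conj (lam a T ψ (s ^ i))) +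
        ∑ x ∈ T', η (oe σ τ x) * ((h : ℂ) * sv M D e (oe σ τ x) χ ψ) := by
  classical
  haveI := Fintype.ofFinite D
  have hM := P.hM
  have hm := P.hmax
  have hd := P.hd
  have h2 := hd.two_le
  set S1 := (Finset.range (2 * h)).image fun i => σ ^ i with hS1
  set S2 := T'.image fun x => oe σ τ x with hS2
  have hdisj : Disjoint S1 S2 := by
    rw [Finset.disjoint_right]
    intro v hv hv'
    obtain ⟨x, -, rfl⟩ := Finset.mem_image.1 hv
    obtain ⟨i, -, hi⟩ := Finset.mem_image.1 hv'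
    exact hd.out_not x (show σ ^ x * τ ∈ Subgroup.zpowers σ by
      rw [show σ ^ x * τ = σ ^ i from hi.symm]; exact Subgroup.npow_mem_zpowers σ i)
  have hSD : ∀ v ∈ S1 ∪ S2, v ∈ D := fun v hv => by
    rcases Finset.mem_union.1 hv with hv | hv
    · obtain ⟨i, -, rfl⟩ := Finset.mem_image.1 hv; exact hd.pow_mem' i
    · obtain ⟨x, -, rfl⟩ := Finset.mem_image.1 hv; exact hd.out_mem x
  have hS1mem : ∀ v ∈ Subgroup.zpowers σ, v ∈ S1 := fun v hv => by
    obtain ⟨k, rfl⟩ := (IsOfFinOrder.mem_powers_iff_mem_zpowers (isOfFinOrder_of_finite σ)).2 hv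
    exact Finset.mem_image.2 ⟨k % (2 * h), Finset.mem_range.2 (Nat.mod_lt _ (by omega)), hd.pow_mod k⟩
  have hmeet : ∀ u ∈ D, ∃ v ∈ S1 ∪ S2, Fus 2 M D e u v := by
    intro u hu
    rcases hd.rep hu with ⟨i, hi, rfl⟩ | ⟨ε, hε, x, hx, hxe⟩
    · exact ⟨_, Finset.mem_union_left _ (Finset.mem_image.2 ⟨i, Finset.mem_range.2 hi, rfl⟩),
        fus_refl hM hm hu⟩
    · have h1 : Fus 2 M D e u (oe σ τ ε) := hxe ▸ fus_inner hM hm hu hx
      rcases hT.cover ε hε with ⟨v, hv, hf⟩ | ⟨y, hy, hf⟩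
      · exact ⟨v, Finset.mem_union_left _ (hS1mem v hv), fus_trans hM hm h1 hf⟩
      · exact ⟨_, Finset.mem_union_right _ (Finset.mem_image.2 ⟨y, hy, rfl⟩),
          fus_trans hM hm h1 hf⟩
  rw [classInner_star hM hm hη hχ hψ hSD hmeet, Finset.mul_sum, Finset.sum_union hdisj]
  have hc2 : ∀ x ∈ T', fset 2 M D e (S1 ∪ S2) (oe σ τ x) = {oe σ τ x} := by
    intro x hx
    ext v
    simp only [fset, Finset.mem_filter, Finset.mem_singleton]
    constructor
    · rintro ⟨hv, hf⟩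
      rcases Finset.mem_union.1 hv with hv | hv
      · obtain ⟨i, -, rfl⟩ := Finset.mem_image.1 hv
        exact absurd ⟨_, Subgroup.npow_mem_zpowers σ i, hf⟩ (hT.not_inner x hx)
      · obtain ⟨y, hy, rfl⟩ := Finset.mem_image.1 hv
        rw [hT.apart x hx y hy hf]
    · rintro rfl
      exact ⟨Finset.mem_union_right _ (Finset.mem_image.2 ⟨x, hx, rfl⟩),
        fus_refl hM hm (hd.out_mem x)⟩
  have hc1 : ∀ i < 2 * h,
      fset 2 M D e (S1 ∪ S2) (σ ^ i) = {σ ^ i, σ ^ (r * i % (2 * h))} := by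
    intro i hi
    ext v
    simp only [fset, Finset.mem_filter, Finset.mem_singleton, Finset.mem_insert]
    constructor
    · rintro ⟨hv, hf⟩
      rcases Finset.mem_union.1 hv with hv | hv
      · obtain ⟨j, hj, rfl⟩ := Finset.mem_image.1 hv
        rcases P.fus_pow hi (Finset.mem_range.1 hj) hf with e | e <;> simp [e]
      · obtain ⟨y, hy, rfl⟩ := Finset.mem_image.1 hv
        exact absurd ⟨_, Subgroup.npow_mem_zpowers σ i, fus_symm hM hm (hd.pow_mem' i) hf⟩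
          (hT.not_inner y hy)
    · rintro (rfl | rfl)
      · exact ⟨Finset.mem_union_left _ (hS1mem _ (Subgroup.npow_mem_zpowers σ i)),
          fus_refl hM hm (hd.pow_mem' i)⟩
      · refine ⟨Finset.mem_union_left _ (hS1mem _ (Subgroup.npow_mem_zpowers σ _)), ?_⟩
        rw [hd.pow_mod, ← hd.conj_pow]
        exact fus_inner hM hm (hd.pow_mem' i) hd.memτ
  have hinj : Set.InjOn (fun i => σ ^ i) (Finset.range (2 * h) : Set ℕ) := fun x hx y hy e =>
    hd.toCyc.pow_inj (Finset.mem_range.1 hx) (Finset.mem_range.1 hy) e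
  rw [hS1, hS2, Finset.sum_image hinj, Finset.sum_image fun x hx y hy e => ?_]
  swap
  · exact hT.apart x hx y hy (by rw [← e]; exact fus_refl hM hm (hd.out_mem x))
  rw [← hS1, ← hS2]
  congr 1
  · rw [sum_all (by omega)]
    congr 1
    · have e0 : ((fset 2 M D e (S1 ∪ S2) (1 : G)).card : ℂ) = 1 := by
        have := hc1 0 (by omega)
        rw [pow_zero, mul_zero, Nat.zero_mod, pow_zero] at this
        rw [this]; simp
      have eh : ((fset 2 M D e (S1 ∪ S2) (σ ^ h)).card : ℂ) = 1 := by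
        rw [hc1 h (by omega), hd.r_mul_h]; simp
      rw [pow_zero, e0, eh, div_one, div_one, qz, mul_left_comm, P.pp_one hχ hψ, mul_left_comm]
    · refine Finset.sum_congr rfl fun i hi => ?_
      have hg := (Finset.mem_filter.1 hi).2
      have hne : σ ^ i ≠ σ ^ (r * i % (2 * h)) := fun e =>
        (hd.r_good hg).2 (hd.toCyc.pow_inj hg.2.1 (hd.r_good hg).1.2.1 e).symm
      rw [hc1 i hg.2.1, Finset.card_pair hne, P.pp_good hg]
      have : (h : ℂ) ≠ 0 := Nat.cast_ne_zero.2 (by omega)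
      push_cast
      field_simp
      ring
  · refine Finset.sum_congr rfl fun x hx => ?_
    rw [hc2 x hx, Finset.card_singleton, sv]
    push_cast
    ring

/-- The inner products are integers. -/
theorem Par.star_int (P : Par M B D e σ τ h r f a s t ψ₀ T) {η : G → ℂ}
    (hη : IsStableFun 2 M D e η) (hgen : IsGeneralizedCharacter D fun u : D => η u)
    (χ ψ : IrrCharacter G) :
    ∃ c : ℤ, classInner (starFun 2 M (pairW 2 M D e η) (χ : G → ℂ)) (ψ : G → ℂ) = c :=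
  classInner_genChar_int (starW_genChar P.hM P.hmax hη hgen χ)
    (isGenChar_of_char (isCharacter_of_irr ψ.2))

/-- The formula for the unit function. -/
theorem Par.formula_one (P : Par M B D e σ τ h r f a s t ψ₀ T) {T' : Finset ℕ}
    (hT : Cover M D e σ τ T') {χ ψ : IrrCharacter G} (hχ : χ ∈ B) (hψ : ψ ∈ B)
    [Decidable (χ = ψ)] :
    (q1 B χ ψ : ℂ) + qz M D e σ h χ ψ +
        ∑ i ∈ gset h, lam a T χ (s ^ i) * conj (lam a T ψ (s ^ i)) +
        ∑ x ∈ T', (h : ℂ) * sv M D e (oe σ τ x) χ ψ =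
      if χ = ψ then ((4 * h : ℕ) : ℂ) else 0 := by
  classical
  have hs : IsStableFun 2 M D e (fun _ => (1 : ℂ)) := fun _ _ _ _ _ _ => rfl
  have h1 := P.formula hT hs hχ hψ
  rw [starFun_one P.hM P.hmax.1.2.1 hχ fun x a ha _ hp =>
    pairW_eq_of_eqOn P.hM P.hmax (fun _ _ => rfl) (mem_pairsAt.1 ha).1 hp] at h1
  simp only [one_mul] at h1
  rw [← h1]
  split_ifs with he
  · rw [he, classInner_irr_self ψ.2, mul_one]
  · rw [classInner_irr_ne χ.2 ψ.2 (fun h => he (Subtype.ext h)), mul_zero]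

theorem sum_q1 (hM : IsPModular 2 M) (hB : IsPBlock M B) :
    ∑ χ ∈ bset B, (q1 B χ χ : ℂ) = ((2 : ℕ) : ℂ) ^ blockDefect 2 B * (blockRank 2 B : ℂ) := by
  apply mul_left_cancel₀ (Nat.cast_ne_zero.2 Nat.card_pos.ne' : (Nat.card G : ℂ) ≠ 0)
  rw [Finset.mul_sum, Finset.sum_congr rfl fun χ hχ =>
    (q1_spec hM hB (mem_bset.1 hχ) (mem_bset.1 hχ)).symm, ← Finset.mul_sum, mul_left_comm,
    card_mul_blockRank hM hB]

/-- The contributions as pairings of sections. -/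
theorem pp_secPair (hM : IsPModular 2 M) (hmax : IsMaximalBrauerPair 2 M B D e) {u : G}
    (hu : u ∈ D) :
    ∃ (b : Set (IrrCharacter
        (Subgroup.centralizer ((Subgroup.zpowers u : Subgroup G) : Set G)))),
      bEl 2 M D e u = ⟨Subgroup.zpowers u, b⟩ ∧
      (∀ [Fintype (Subgroup.centralizer ((Subgroup.zpowers u : Subgroup G) : Set G))],
        IsInducedBlock M (Subgroup.centralizer ((Subgroup.zpowers u : Subgroup G) : Set G)) b B) ∧
      ∀ [Fintype (Subgroup.centralizer ((Subgroup.zpowers u : Subgroup G) : Set G))]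
        (χ ψ : IrrCharacter G), secPair 2 u b (χ : G → ℂ) (ψ : G → ℂ) =
          ((2 ^ blockDefect 2 b : ℕ) : ℂ) * pp 2 M D e u χ ψ := by
  haveI : Fact (Nat.Prime 2) := ⟨Nat.prime_two⟩
  refine ⟨(bEl 2 M D e u).2, rfl, ?_, ?_⟩
  · intro _
    obtain ⟨hm, -, hp⟩ := bEl_spec hM hmax hu
    exact (induced_centralizer_iff hM
      (hmax.1.1.1.to_le (Subgroup.zpowers_le.2 hu))).2 hp
  · intro _ χ ψ
    have := pairT_eq (p := 2) (isCentr_zpowers u) (irr_isClassFun χ) (irr_isClassFun ψ)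
      (bEl 2 M D e u).2
    rw [← this, pp]
    push_cast
    rw [mul_assoc, mul_comm (pairT _ _ _ _ _)]
    rfl

/-- The regular rank of the pair at the involution. -/
noncomputable def lz (M : Ideal AlgInt) (D : Subgroup G)
    (e : Set (IrrCharacter (Subgroup.centralizer (D : Set G)))) (σ : G) (h : ℕ) : ℕ :=
  idxRank 2 (bEl 2 M D e (σ ^ h))

omit [Fintype (nr σ h)] in
theorem TG.defect_z (hM : IsPModular 2 M) (hmax : IsMaximalBrauerPair 2 M B D e)
    (hd : TG D σ τ h r) :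
    blockDefect 2 (bEl 2 M D e (σ ^ h)).2 = blockDefect 2 B :=
  blockDefect_bEl_central hM hmax (hd.pow_mem' h) fun y hy => (hd.z_central hy).eq

theorem Par.sum_qz (P : Par M B D e σ τ h r f a s t ψ₀ T) :
    ∑ χ ∈ bset B, qz M D e σ h χ χ = ((4 * h : ℕ) : ℂ) * (lz M D e σ h : ℂ) := by
  classical
  obtain ⟨b, hb, hind, hsec⟩ := pp_secPair P.hM P.hmax (P.hd.pow_mem' h)
  haveI := Fintype.ofFinite
    (Subgroup.centralizer ((Subgroup.zpowers (σ ^ h) : Subgroup G) : Set G))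
  have hd := P.hd.defect_z P.hM P.hmax
  rw [hb] at hd
  simp only at hd
  have h1 := sum_secPair_diag P.hM (isCentr_zpowers (σ ^ h))
    (P.hd.toCyc.exists_order (Subgroup.npow_mem_zpowers σ h)) hind
  rw [Finset.sum_congr rfl fun χ _ => hsec χ χ, hd, P.hd.defect P.hM P.hmax, ← Nat.cast_pow,
    P.hd.defect P.hM P.hmax] at h1
  simp only [qz, lz]
  rw [hb]
  exact h1

end CfsgLib.Blocks.Tame
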