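import Cfsg.Agent.Lib.Blocks.DihBlock.Group

/-!
# Quaternion and semidihedral two-groups with chosen generators
-/

namespace CfsgLib.Blocks.Tame

open CfsgLib.Blocks.DihBlock

set_option linter.unusedVariables false
set_option linter.unusedSectionVars false

universe u

variable {K : Type u} [Group K] [Finite K]

/-- The subgroup `D` of order `4 * h` is generated by `σ` of order `2 * h` and `τ`, conjugation by
`τ` raising `σ` to the power `r`; the two cases are quaternion and semidihedral. -/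
structure TG (D : Subgroup K) (σ τ : K) (h r : ℕ) : Prop extends Cyc σ h where
  card : Nat.card D = 2 * (2 * h)
  memσ : σ ∈ D
  memτ : τ ∈ D
  out : τ ∉ Subgroup.zpowers σ
  rel : τ * σ * τ⁻¹ = σ ^ r
  typ : (r = 2 * h - 1 ∧ τ * τ = σ ^ h) ∨ (r = h - 1 ∧ τ * τ = 1 ∧ 4 ∣ h)

/-- An index strictly between multiples of `h`. -/
def Good (h i : ℕ) : Prop := 0 < i ∧ i < 2 * h ∧ i ≠ h

variable {D : Subgroup K} {σ τ : K} {h r : ℕ}

theorem TG.two_le (hd : TG D σ τ h r) : 2 ≤ h := hd.toCyc.two_le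

theorem TG.half (hd : TG D σ τ h r) : ∃ q, h = 2 * q ∧ 0 < q := by
  obtain ⟨a, rfl⟩ := hd.toCyc.hpow
  exact ⟨2 ^ a, by ring, by positivity⟩

theorem TG.r_odd (hd : TG D σ τ h r) : ∃ v, r = 2 * v + 1 := by
  obtain ⟨q, hq, hq0⟩ := hd.half
  rcases hd.typ with ⟨e, -⟩ | ⟨e, -, -⟩
  · exact ⟨2 * q - 1, by omega⟩
  · exact ⟨q - 1, by omega⟩

theorem TG.r_mul_h (hd : TG D σ τ h r) : r * h % (2 * h) = h := by
  obtain ⟨v, hv⟩ := hd.r_odd
  have h2 := hd.two_le
  rw [hv, show (2 * v + 1) * h = h + (2 * h) * v by ring, Nat.add_mul_mod_self_left,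
    Nat.mod_eq_of_lt (by omega)]

theorem TG.r_sq (hd : TG D σ τ h r) (i : ℕ) : r * (r * i) % (2 * h) = i % (2 * h) := by
  obtain ⟨q, hq, hq0⟩ := hd.half
  rcases hd.typ with ⟨e, -⟩ | ⟨e, -, h4⟩
  · obtain ⟨m, hm⟩ : ∃ m, r * r = 1 + 2 * h * m := ⟨2 * h - 2, by
      rw [e]
      obtain ⟨t, rfl⟩ : ∃ t, h = t + 1 := ⟨h - 1, by omega⟩
      rw [show 2 * (t + 1) - 1 = 2 * t + 1 by omega, show 2 * (t + 1) - 2 = 2 * t by omega]
      ring⟩
    rw [← mul_assoc, hm, add_mul, one_mul, mul_assoc, Nat.add_mul_mod_self_left]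
  · obtain ⟨m, hm⟩ : ∃ m, r * r = 1 + 2 * h * m := ⟨q - 1, by
      rw [e]
      obtain ⟨t, rfl⟩ : ∃ t, q = t + 1 := ⟨q - 1, by omega⟩
      subst hq
      rw [show 2 * (t + 1) - 1 = 2 * t + 1 by omega, show t + 1 - 1 = t by omega]
      ring⟩
    rw [← mul_assoc, hm, add_mul, one_mul, mul_assoc, Nat.add_mul_mod_self_left]

theorem TG.pow_mod (hd : TG D σ τ h r) (i : ℕ) : σ ^ (i % (2 * h)) = σ ^ i :=
  (pow_eq_pow_mod i hd.toCyc.pow_N).symm

theorem TG.conj_pow (hd : TG D σ τ h r) (i : ℕ) : τ * σ ^ i * τ⁻¹ = σ ^ (r * i) := by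
  rw [← _root_.conj_pow, hd.rel, pow_mul]

theorem TG.mem_form (hd : TG D σ τ h r) {d : K} (hd' : d ∈ D) :
    ∃ i < 2 * h, d = σ ^ i ∨ d = σ ^ i * τ := by
  have hle : Subgroup.zpowers σ ≤ D := Subgroup.zpowers_le.2 hd.memσ
  have h2 := hd.two_le
  have hidx : ((Subgroup.zpowers σ).subgroupOf D).index = 2 := by
    have h1 := ((Subgroup.zpowers σ).subgroupOf D).card_mul_index
    rw [Nat.card_congr (Subgroup.subgroupOfEquivOfLe hle).toEquiv, Nat.card_zpowers, hd.ord,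
      hd.card] at h1
    nlinarith
  have key : ∀ x ∈ Subgroup.zpowers σ, ∃ i < 2 * h, x = σ ^ i := fun x hx => by
    obtain ⟨t, rfl⟩ := (IsOfFinOrder.mem_powers_iff_mem_zpowers (isOfFinOrder_of_finite σ)).2 hx
    exact ⟨t % (2 * h), Nat.mod_lt _ (by omega), (hd.pow_mod t).symm⟩
  by_cases hc : d ∈ Subgroup.zpowers σ
  · obtain ⟨i, hi, e⟩ := key d hc
    exact ⟨i, hi, Or.inl e⟩
  · have hin : d * τ⁻¹ ∈ Subgroup.zpowers σ := by
      have hτn : (⟨τ, hd.memτ⟩ : D)⁻¹ ∉ (Subgroup.zpowers σ).subgroupOf D := fun e =>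
        hd.out (Subgroup.inv_mem_iff (Subgroup.zpowers σ) |>.1 (Subgroup.mem_subgroupOf.1 e))
      have hdn : (⟨d, hd'⟩ : D) ∉ (Subgroup.zpowers σ).subgroupOf D := fun e =>
        hc (Subgroup.mem_subgroupOf.1 e)
      exact Subgroup.mem_subgroupOf.1 ((Subgroup.mul_mem_iff_of_index_two hidx).2
        (iff_of_false hdn hτn))
    obtain ⟨i, hi, e⟩ := key _ hin
    exact ⟨i, hi, Or.inr (by rw [← e, inv_mul_cancel_right])⟩

theorem TG.pow_mem' (hd : TG D σ τ h r) (i : ℕ) : σ ^ i ∈ D := D.pow_mem hd.memσ i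

theorem TG.out_mem (hd : TG D σ τ h r) (i : ℕ) : σ ^ i * τ ∈ D :=
  D.mul_mem (hd.pow_mem' i) hd.memτ

theorem TG.out_not (hd : TG D σ τ h r) (i : ℕ) : σ ^ i * τ ∉ Subgroup.zpowers σ := fun e =>
  hd.out ((Subgroup.mul_mem_cancel_left _ (Subgroup.npow_mem_zpowers σ i)).1 e)

theorem TG.conj_out (hd : TG D σ τ h r) (i j : ℕ) :
    σ ^ i * τ * σ ^ j * (σ ^ i * τ)⁻¹ = σ ^ (r * j) := by
  rw [mul_inv_rev, show σ ^ i * τ * σ ^ j * (τ⁻¹ * (σ ^ i)⁻¹) =
    σ ^ i * (τ * σ ^ j * τ⁻¹) * (σ ^ i)⁻¹ by group, hd.conj_pow, ← pow_add, add_comm,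
    pow_add, mul_inv_cancel_right]

theorem TG.z_central (hd : TG D σ τ h r) {d : K} (hd' : d ∈ D) : Commute d (σ ^ h) := by
  obtain ⟨i, -, rfl | rfl⟩ := hd.mem_form hd'
  · exact (Commute.refl σ).pow_pow i h
  · refine Commute.mul_left ((Commute.refl σ).pow_pow i h) (mul_inv_eq_iff_eq_mul.1 ?_)
    rw [hd.conj_pow, ← hd.pow_mod, hd.r_mul_h]

theorem TG.out_sq (hd : TG D σ τ h r) (i : ℕ) :
    σ ^ i * τ * (σ ^ i * τ) = σ ^ (i + r * i) * (τ * τ) := by
  rw [show σ ^ i * τ * (σ ^ i * τ) = σ ^ i * (τ * σ ^ i * τ⁻¹) * (τ * τ) by group, hd.conj_pow,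
    ← pow_add]

theorem TG.out_sq_cases (hd : TG D σ τ h r) (i : ℕ) :
    σ ^ i * τ * (σ ^ i * τ) = 1 ∨ σ ^ i * τ * (σ ^ i * τ) = σ ^ h := by
  have h2 := hd.two_le
  rw [hd.out_sq]
  rcases hd.typ with ⟨e, e2⟩ | ⟨e, e2, -⟩
  · right
    rw [show i + r * i = 2 * h * i by
      rw [e]
      obtain ⟨t, rfl⟩ : ∃ t, h = t + 1 := ⟨h - 1, by omega⟩
      rw [show 2 * (t + 1) - 1 = 2 * t + 1 by omega]
      ring, pow_mul, hd.toCyc.pow_N, one_pow, one_mul, e2]
  · rw [e2, mul_one, show i + r * i = h * i by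
      rw [e]
      obtain ⟨t, rfl⟩ : ∃ t, h = t + 1 := ⟨h - 1, by omega⟩
      rw [Nat.add_sub_cancel]
      ring, pow_mul]
    rcases i.even_or_odd with ⟨t, ht⟩ | ⟨t, ht⟩
    · left
      rw [ht, ← two_mul, pow_mul, sq, hd.toCyc.z_ne.2, one_pow]
    · right
      rw [ht, pow_succ, pow_mul, sq, hd.toCyc.z_ne.2, one_pow, one_mul]

/-- In the quaternion case every outer element squares to the involution. -/
theorem TG.out_sq_quat (hd : TG D σ τ h r) (hq : r = 2 * h - 1) (i : ℕ) :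
    σ ^ i * τ * (σ ^ i * τ) = σ ^ h := by
  have h2 := hd.two_le
  rw [hd.out_sq]
  rcases hd.typ with ⟨e, e2⟩ | ⟨e, e2, -⟩
  · rw [show i + r * i = 2 * h * i by
      rw [e]
      obtain ⟨t, rfl⟩ : ∃ t, h = t + 1 := ⟨h - 1, by omega⟩
      rw [show 2 * (t + 1) - 1 = 2 * t + 1 by omega]
      ring, pow_mul, hd.toCyc.pow_N, one_pow, one_mul, e2]
  · omega

/-- In the semidihedral case the squares of the outer elements follow the parity. -/
theorem TG.out_sq_semi (hd : TG D σ τ h r) (hs : r = h - 1) (i : ℕ) :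
    σ ^ i * τ * (σ ^ i * τ) = (σ ^ h) ^ i := by
  have h2 := hd.two_le
  rw [hd.out_sq]
  rcases hd.typ with ⟨e, e2⟩ | ⟨e, e2, -⟩
  · omega
  · rw [e2, mul_one, ← pow_mul, show i + r * i = h * i by
      rw [e]
      obtain ⟨t, rfl⟩ : ∃ t, h = t + 1 := ⟨h - 1, by omega⟩
      rw [Nat.add_sub_cancel]
      ring]

theorem TG.sq_out_mem (hd : TG D σ τ h r) {d : K} (hd' : d ∈ D)
    (h1 : d * d ≠ 1) (hz : d * d ≠ σ ^ h) : d ∈ Subgroup.zpowers σ := by
  obtain ⟨i, -, rfl | rfl⟩ := hd.mem_form hd'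
  · exact Subgroup.npow_mem_zpowers σ i
  · rcases hd.out_sq_cases i with e | e <;> contradiction

theorem TG.r_good (hd : TG D σ τ h r) {i : ℕ} (hi : Good h i) :
    Good h (r * i % (2 * h)) ∧ r * i % (2 * h) ≠ i := by
  have h2 := hd.two_le
  obtain ⟨v, hv⟩ := hd.r_odd
  have hlt : r * i % (2 * h) < 2 * h := Nat.mod_lt _ (by omega)
  have hback := hd.r_sq i
  rw [Nat.mod_eq_of_lt hi.2.1, Nat.mul_mod] at hback
  have hne : r * i % (2 * h) ≠ i := by
    intro e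
    rcases hd.typ with ⟨er, -⟩ | ⟨er, -, h4⟩
    · have h3 : 2 * h ∣ 2 * i := by
        have h5 : r * i + i = 2 * h * i := by
          rw [← Nat.succ_mul, er, show (2 * h - 1).succ = 2 * h by omega]
        have h6 : (r * i + i) % (2 * h) = 0 := by rw [h5, Nat.mul_mod_right]
        rw [Nat.add_mod, e, Nat.mod_eq_of_lt hi.2.1, ← two_mul] at h6
        exact Nat.dvd_of_mod_eq_zero h6
      obtain ⟨c, hc⟩ := h3
      obtain ⟨i0, i1, i2⟩ := hi
      have hic : i = h * c := by nlinarith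
      rcases c with _ | _ | c
      · omega
      · omega
      · nlinarith
    · obtain ⟨q, hq⟩ := h4
      have h3 : 2 * h ∣ (h - 2) * i := by
        have h5 : r * i = (h - 2) * i + i := by
          rw [er, ← Nat.succ_mul, show (h - 2).succ = h - 1 by omega]
        rw [h5, Nat.add_mod, Nat.mod_eq_of_lt hi.2.1] at e
        obtain ⟨w, hw⟩ : ∃ w, ((h - 2) * i) % (2 * h) = w := ⟨_, rfl⟩
        rw [hw] at e
        have hwlt : w < 2 * h := hw ▸ Nat.mod_lt _ (by omega)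
        have := hi.2.1
        apply Nat.dvd_of_mod_eq_zero
        rw [hw]
        by_cases hc : w + i < 2 * h
        · rw [Nat.mod_eq_of_lt hc] at e; omega
        · rw [Nat.mod_eq_sub_mod (by omega), Nat.mod_eq_of_lt (by omega)] at e; omega
      have hodd : Nat.Coprime h (2 * q - 1) := by
        obtain ⟨a, ha⟩ := hd.toCyc.hpow
        rw [ha]
        exact (Nat.prime_two.coprime_iff_not_dvd.2 (by omega)).pow_left _
      obtain ⟨c, hc⟩ : h ∣ i := by
        refine hodd.dvd_of_dvd_mul_left (Nat.dvd_of_mul_dvd_mul_left (k := 2) two_pos ?_)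
        rwa [← mul_assoc, show 2 * (2 * q - 1) = h - 2 by omega]
      obtain ⟨i0, i1, i2⟩ := hi
      rcases c with _ | _ | c
      · omega
      · omega
      · nlinarith
  refine ⟨⟨Nat.pos_of_ne_zero fun e => ?_, hlt, fun e => ?_⟩, hne⟩
  · rw [e, mul_zero, Nat.zero_mod] at hback
    exact hi.1.ne hback
  · rw [e, Nat.mod_mul_mod, hd.r_mul_h] at hback
    exact hi.2.2 hback.symm

/-- The element of order four in the cyclic part. -/
abbrev rho (σ : K) (h : ℕ) : K := σ ^ (h / 2)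

theorem TG.rho_good (hd : TG D σ τ h r) : Good h (h / 2) := by
  obtain ⟨q, hq, hq0⟩ := hd.half
  exact ⟨by omega, by omega, by omega⟩

theorem TG.rho_r (hd : TG D σ τ h r) : r * (h / 2) % (2 * h) = 2 * h - h / 2 := by
  obtain ⟨q, hq, hq0⟩ := hd.half
  rcases hd.typ with ⟨e, -⟩ | ⟨e, -, ⟨w, hw⟩⟩
  · rw [show r * (h / 2) = (2 * h - h / 2) + 2 * h * (h / 2 - 1) by
      rw [e, show h / 2 = q by omega]
      obtain ⟨t, rfl⟩ : ∃ t, q = t + 1 := ⟨q - 1, by omega⟩
      subst hq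
      rw [show 2 * (2 * (t + 1)) - 1 = 4 * t + 3 by omega,
        show 2 * (2 * (t + 1)) - (t + 1) = 3 * t + 3 by omega, show t + 1 - 1 = t by omega]
      ring, Nat.add_mul_mod_self_left, Nat.mod_eq_of_lt (by omega)]
  · rw [show r * (h / 2) = (2 * h - h / 2) + 2 * h * (w - 1) by
      rw [e, show h / 2 = 2 * w by omega]
      obtain ⟨t, rfl⟩ : ∃ t, w = t + 1 := ⟨w - 1, by omega⟩
      subst hw
      rw [show 4 * (t + 1) - 1 = 4 * t + 3 by omega,
        show 2 * (4 * (t + 1)) - 2 * (t + 1) = 6 * t + 6 by omega, show t + 1 - 1 = t by omega]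
      ring, Nat.add_mul_mod_self_left, Nat.mod_eq_of_lt (by omega)]

theorem TG.conj_rho (hd : TG D σ τ h r) : τ * rho σ h * τ⁻¹ = (rho σ h)⁻¹ := by
  rw [hd.conj_pow, ← hd.pow_mod, hd.rho_r, hd.toCyc.pow_sub' (by omega)]

theorem TG.rho_order (hd : TG D σ τ h r) : orderOf (rho σ h) = 4 := by
  obtain ⟨q, hq, hq0⟩ := hd.half
  rw [rho, orderOf_pow' σ (by omega), hd.ord, show h / 2 = q by omega, hq,
    Nat.gcd_eq_right ⟨4, by ring⟩, show 2 * (2 * q) = 4 * q by ring, Nat.mul_div_cancel _ hq0]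

theorem TG.rho_mem (hd : TG D σ τ h r) {u : K} (hu : u ∈ Subgroup.zpowers σ) (h1 : u * u ≠ 1) :
    rho σ h ∈ Subgroup.zpowers u := by
  obtain ⟨q, hq, hq0⟩ := hd.half
  obtain ⟨j, hk, hj⟩ := hd.toCyc.exists_root hu fun e => h1 (by rw [e, one_mul])
  rcases j with _ | j
  · refine absurd ?_ h1
    have := pow_orderOf_eq_one u
    rw [hk] at this
    simpa [sq] using this
  set w := u ^ 2 ^ j with hw
  have hww : w * w = σ ^ h := by rw [← hj, hw, ← pow_add, ← two_mul, ← pow_succ']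
  have hwm : w ∈ Subgroup.zpowers σ := Subgroup.pow_mem _ hu _
  have hρ : rho σ h * rho σ h = σ ^ h := by
    rw [rho, ← pow_add, show h / 2 + h / 2 = h by omega]
  have hc : Commute w (rho σ h)⁻¹ := by
    obtain ⟨t, ht⟩ := hwm
    rw [← ht]
    exact ((Commute.refl σ).zpow_left t |>.pow_right _).inv_right
  rcases hd.toCyc.sq_eq_one (Subgroup.mul_mem _ hwm
    (Subgroup.inv_mem _ (Subgroup.npow_mem_zpowers σ (h / 2)))) (by
      show w * (rho σ h)⁻¹ * (w * (rho σ h)⁻¹) = 1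
      rw [hc.symm.mul_mul_mul_comm, hww, ← mul_inv_rev, hρ, mul_inv_cancel]) with e | e
  · rw [mul_inv_eq_one] at e
    show σ ^ (h / 2) ∈ Subgroup.zpowers u
    rw [← e]
    exact Subgroup.npow_mem_zpowers u _
  · have e' : rho σ h = (σ ^ h)⁻¹ * w := by rw [← e, mul_inv_rev, inv_inv, mul_assoc,
      inv_mul_cancel, mul_one]
    rw [e', ← hj]
    exact Subgroup.mul_mem _ (Subgroup.inv_mem _ (Subgroup.npow_mem_zpowers u _))
      (Subgroup.npow_mem_zpowers u _)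

theorem TG.mem_normalizer (hd : TG D σ τ h r) :
    D ≤ Subgroup.normalizer ((Subgroup.zpowers (rho σ h) : Subgroup K) : Set K) := by
  intro d hd'
  refine Subgroup.mem_normalizer_fintype fun y hy => ?_
  obtain ⟨t, rfl⟩ := hy
  show d * rho σ h ^ t * d⁻¹ ∈ Subgroup.zpowers (rho σ h)
  rw [← conj_zpow]
  obtain ⟨i, -, rfl | rfl⟩ := hd.mem_form hd'
  · rw [((Commute.refl σ).pow_pow i (h / 2)).eq, mul_inv_cancel_right]
    exact Subgroup.zpow_mem _ (Subgroup.mem_zpowers _) t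
  · rw [hd.conj_out, ← hd.pow_mod, hd.rho_r, hd.toCyc.pow_sub' (by omega)]
    exact Subgroup.zpow_mem _ (Subgroup.inv_mem _ (Subgroup.mem_zpowers _)) t

/-- An element of odd order fixing the element of order four and normalising a subgroup of `D`
centralises it. -/
theorem TG.centralizes (hd : TG D σ τ h r) {Q : Subgroup K} (hQ : Q ≤ D) {x : K}
    (hx : ¬ 2 ∣ orderOf x) (hxρ : Commute x (rho σ h)) (hxQ : ∀ y ∈ Q, x * y * x⁻¹ ∈ Q) :
    ∀ y ∈ Q, Commute x y := by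
  classical
  haveI : Fact (Nat.Prime 2) := ⟨Nat.prime_two⟩
  set R := Subgroup.zpowers σ with hR
  obtain ⟨q, hq, hq0⟩ := hd.half
  have hρz : rho σ h * rho σ h = σ ^ h := by
    rw [rho, ← pow_add, show h / 2 + h / 2 = h by omega]
  have hxz : Commute x (σ ^ h) := hρz ▸ hxρ.mul_right hxρ
  have hinv : ∀ y ∈ Q, y ∈ R → x * y * x⁻¹ ∈ R := by
    intro y hy hyR
    have hsq : x * y * x⁻¹ * (x * y * x⁻¹) = x * (y * y) * x⁻¹ := by group
    by_cases h2 : y * y = 1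
    · rcases hd.toCyc.sq_eq_one hyR h2 with rfl | rfl
      · simp [R.one_mem]
      · rw [hxz.eq, mul_inv_cancel_right]; exact hyR
    by_cases h3 : y * y = σ ^ h
    · obtain ⟨t, ht⟩ := hyR
      have hc : Commute y (rho σ h)⁻¹ := by
        rw [← ht]
        exact ((Commute.refl σ).zpow_left t |>.pow_right _).inv_right
      rcases hd.toCyc.sq_eq_one (Subgroup.mul_mem _ ⟨t, ht⟩
        (Subgroup.inv_mem _ (Subgroup.npow_mem_zpowers σ (h / 2)))) (by
          show y * (rho σ h)⁻¹ * (y * (rho σ h)⁻¹) = 1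
          rw [hc.symm.mul_mul_mul_comm, h3, ← mul_inv_rev, hρz, mul_inv_cancel]) with e | e
      · rw [mul_inv_eq_one] at e
        rw [e, hxρ.eq, mul_inv_cancel_right]
        exact Subgroup.npow_mem_zpowers σ _
      · rw [mul_inv_eq_iff_eq_mul] at e
        rw [e, (hxz.mul_right hxρ).eq, mul_inv_cancel_right]
        exact Subgroup.mul_mem _ (Subgroup.npow_mem_zpowers σ _) (Subgroup.npow_mem_zpowers σ _)
    refine hd.sq_out_mem (hQ (hxQ y hy)) (fun e => h2 ?_) (fun e => h3 ?_)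
    · rwa [hsq, conj_eq_one_iff] at e
    · rw [hsq, mul_inv_eq_iff_eq_mul, ← hxz.eq] at e
      exact mul_left_cancel e
  set C := Q ⊓ R with hC
  have hxN : x ∈ Subgroup.normalizer (C : Set K) :=
    Subgroup.mem_normalizer_fintype fun y hy => ⟨hxQ y hy.1, hinv y hy.1 hy.2⟩
  have hCx : ∀ y ∈ C, Commute x y := by
    haveI : IsCyclic C := Subgroup.isCyclic_of_le (show C ≤ R from inf_le_right)
    obtain ⟨k, hk⟩ := hd.toCyc.pow_two
    have hCc : ∃ i, Nat.card C = 2 ^ i := by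
      have h1 : Nat.card C ∣ 2 ^ (k + 2) := by
        rw [← hk, ← hd.ord, ← Nat.card_zpowers]
        exact Subgroup.card_dvd_of_le inf_le_right
      exact ((Nat.dvd_prime_pow Nat.prime_two).1 h1).imp fun i hi => hi.2
    obtain ⟨i, hi⟩ := hCc
    set w : Subgroup.normalizer (C : Set K) := ⟨x, hxN⟩
    have h1 : orderOf (C.normalizerMonoidHom w) ∣ orderOf x := by
      rw [← Subgroup.orderOf_mk x hxN]
      exact orderOf_map_dvd _ w
    have h2 : orderOf (C.normalizerMonoidHom w) ∣ 2 ^ i := by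
      refine (orderOf_dvd_natCard _).trans ?_
      rw [IsCyclic.card_mulAut, hi]
      rcases i with _ | i
      · simp
      · rw [Nat.totient_prime_pow_succ Nat.prime_two]
        exact ⟨2, by ring⟩
    have h3 : C.normalizerMonoidHom w = 1 := orderOf_eq_one_iff.1
      (Nat.eq_one_of_dvd_coprimes
        ((Nat.prime_two.coprime_iff_not_dvd.2 hx).pow_left i) h2 h1)
    have h4 : w ∈ C.normalizerMonoidHom.ker := h3
    rw [Subgroup.normalizerMonoidHom_ker] at h4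
    exact fun y hy => (Subgroup.mem_centralizer_iff.1 (Subgroup.mem_subgroupOf.1 h4) y hy).symm
  intro y hy
  by_cases hyR : y ∈ R
  · exact hCx y ⟨hy, hyR⟩
  set y' := x * y * x⁻¹ with hy'
  have hy'R : y' ∉ R := by
    intro h'
    apply hyR
    have h5 := hCx y' ⟨hxQ y hy, h'⟩
    have : y = y' := by
      calc y = x⁻¹ * (y' * x) := by rw [hy']; group
        _ = y' := by rw [← h5.eq, inv_mul_cancel_left]
    rw [this]; exact h'
  have hc : y' * y⁻¹ ∈ C := by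
    refine ⟨Q.mul_mem (hxQ y hy) (Q.inv_mem hy), ?_⟩
    obtain ⟨i, -, e1 | e1⟩ := hd.mem_form (hQ (hxQ y hy))
    · exact absurd (show y' ∈ R by
        rw [show y' = σ ^ i from e1]; exact Subgroup.npow_mem_zpowers σ i) hy'R
    obtain ⟨j, -, e2 | e2⟩ := hd.mem_form (hQ hy)
    · exact absurd (e2 ▸ Subgroup.npow_mem_zpowers σ j) hyR
    rw [show y' = σ ^ i * τ from e1, e2,
      show σ ^ i * τ * (σ ^ j * τ)⁻¹ = σ ^ i * (σ ^ j)⁻¹ by group]
    exact Subgroup.mul_mem _ (Subgroup.npow_mem_zpowers σ i)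
      (Subgroup.inv_mem _ (Subgroup.npow_mem_zpowers σ j))
  have hstep : ∀ m : ℕ, x ^ m * y * (x ^ m)⁻¹ = (y' * y⁻¹) ^ m * y := by
    intro m
    induction m with
    | zero => simp
    | succ m ih =>
      rw [pow_succ' x, show x * x ^ m * y * (x * x ^ m)⁻¹ = x * (x ^ m * y * (x ^ m)⁻¹) * x⁻¹ by
        group, ih, show x * ((y' * y⁻¹) ^ m * y) * x⁻¹ = x * (y' * y⁻¹) ^ m * x⁻¹ * y' by
        generalize (y' * y⁻¹) ^ m = b
        rw [hy']; group, ((hCx _ hc).pow_right m).eq, mul_inv_cancel_right, pow_succ]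
      generalize (y' * y⁻¹) ^ m = b
      rw [mul_assoc b, inv_mul_cancel_right]
  have h6 : (y' * y⁻¹) ^ orderOf x = 1 := by
    have := hstep (orderOf x)
    rw [pow_orderOf_eq_one, inv_one, one_mul, mul_one] at this
    exact mul_eq_right.1 this.symm
  have h7 : y' * y⁻¹ = 1 := by
    obtain ⟨k, hk⟩ := hd.toCyc.exists_order hc.2
    exact orderOf_eq_one_iff.1 (Nat.eq_one_of_dvd_coprimes
      ((Nat.prime_two.coprime_iff_not_dvd.2 hx).pow_left k) (dvd_of_eq hk)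
      (orderOf_dvd_of_pow_eq_one h6))
  exact mul_inv_eq_iff_eq_mul.1 (mul_inv_eq_one.1 h7)

/-- The outer elements fall into two classes under conjugation inside `D`. -/
theorem TG.out_class (hd : TG D σ τ h r) (j : ℕ) :
    ∃ x ∈ D, x * (σ ^ j * τ) * x⁻¹ = σ ^ (j % 2) * τ := by
  have h2 := hd.two_le
  obtain ⟨v, hv⟩ := hd.r_odd
  obtain ⟨a, ha⟩ := hd.toCyc.hpow
  -- conjugation by a power of `σ` shifts the exponent by a multiple of `r - 1`
  have key : ∀ i, σ ^ i * (σ ^ j * τ) * (σ ^ i)⁻¹ = σ ^ (i + j) * (σ ^ (r * i))⁻¹ * τ := by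
    intro i
    rw [← hd.conj_pow, pow_add]
    group
  obtain ⟨v', hv'⟩ : ∃ v', v * v' % h = 1 := by
    have hcop : Nat.Coprime v h := by
      rw [ha]
      refine (Nat.Coprime.pow_right _ (Nat.coprime_two_right.2 ?_))
      rcases hd.typ with ⟨e, -⟩ | ⟨e, -, q, hq⟩
      · exact ⟨2 ^ a - 1 + (2 ^ a - 1) + 0 - (2 ^ a - 1) + 0, by
          have := Nat.two_pow_pos a
          rw [pow_succ] at ha
          omega⟩
      · exact ⟨q - 1, by omega⟩
    obtain ⟨m, -, hm⟩ := Nat.exists_mul_mod_eq_one_of_coprime hcop (by omega)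
    exact ⟨m, hm⟩
  refine ⟨σ ^ (v' * (j / 2)), hd.pow_mem' _, ?_⟩
  rw [key]
  congr 1
  rw [mul_inv_eq_iff_eq_mul, ← pow_add, ← hd.pow_mod, ← hd.pow_mod (_ + _)]
  congr 1
  obtain ⟨c, hc⟩ : ∃ c, v * v' = 1 + h * c :=
    ⟨v * v' / h, by have := Nat.mod_add_div (v * v') h; omega⟩
  rw [hv, show j % 2 + (2 * v + 1) * (v' * (j / 2)) =
      (v' * (j / 2) + j) + 2 * h * (c * (j / 2)) by
    have hj := Nat.mod_add_div j 2
    generalize j / 2 = t at hj ⊢
    generalize j % 2 = ε at hj ⊢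
    subst hj
    calc ε + (2 * v + 1) * (v' * t) = ε + 2 * (v * v') * t + v' * t := by ring
      _ = _ := by rw [hc]; ring, Nat.add_mul_mod_self_left]

end CfsgLib.Blocks.Tame
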