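import Cfsg.Agent.Lib.Blocks.TameBlock.Central
import Cfsg.Agent.Lib.Blocks.Star.Fixed

/-!
# Passing to the centralizer of the involution
-/

namespace CfsgLib.Blocks.Tame

open Cfsg CfsgLib.CharTheory CfsgLib.Blocks.DihBlock
open scoped ComplexConjugate

set_option linter.unusedVariables false
set_option linter.unusedSimpArgs false
set_option linter.style.haveILetI false
set_option linter.unusedSectionVars false

universe u

variable {G : Type u} [Group G] [Fintype G] {M : Ideal AlgInt} {B : Set (IrrCharacter G)}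
  {D : Subgroup G} {e : Set (IrrCharacter (Subgroup.centralizer (D : Set G)))} {σ τ : G} {h r : ℕ}

/-- The local data at the involution. -/
theorem exists_zloc (hd : TG D σ τ h r) (hM : IsPModular 2 M)
    (hmax : IsMaximalBrauerPair 2 M B D e)
    [Fintype (Subgroup.centralizer ((Subgroup.zpowers (σ ^ h) : Subgroup G) : Set G))] :
    ∃ (f : Set (IrrCharacter
        (Subgroup.centralizer ((Subgroup.zpowers (σ ^ h) : Subgroup G) : Set G))))
      (a : BrauerPairIdx (Subgroup.centralizer ((Subgroup.zpowers (σ ^ h) : Subgroup G) : Set G)))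
      (s t : Subgroup.centralizer ((Subgroup.zpowers (σ ^ h) : Subgroup G) : Set G))
      (ha : Subgroup.centralizer ((a.1.map (Subgroup.centralizer
          ((Subgroup.zpowers (σ ^ h) : Subgroup G) : Set G)).subtype : Subgroup G) : Set G) ≤
        Subgroup.centralizer ((Subgroup.zpowers (σ ^ h) : Subgroup G) : Set G)),
      upIdx a ha = ⟨D, e⟩ ∧ IsMaximalBrauerPair 2 M f a.1 a.2 ∧
        lz M D e σ h = blockRank 2 f ∧ TG a.1 s t h r ∧ (s : G) = σ ∧ (t : G) = τ := by
  classical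
  have hQ : (Subgroup.zpowers (σ ^ h)) ≤ D := Subgroup.zpowers_le.2 (hd.pow_mem' h)
  have hP : IsPGroup 2 D := hmax.1.1.1
  have hPC : D ≤ Subgroup.centralizer ((Subgroup.zpowers (σ ^ h)) : Set G) := fun y hy =>
    (isCentr_zpowers (σ ^ h) y).2 (hd.z_central hy)
  obtain ⟨x, hx, hup, hxb⟩ :=
    exists_upIdx (H := Subgroup.centralizer ((Subgroup.zpowers (σ ^ h)) : Set G)) hPC (centralizer_anti hQ) hmax.1.1.2
  have hmap : x.1.map (Subgroup.centralizer ((Subgroup.zpowers (σ ^ h)) : Set G)).subtype = D := le_map_subtype_of_eq hup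
  have hRp : IsPGroup 2 x.1 :=
    hP.of_equiv ((Subgroup.equivMapOfInjective x.1 _ Subtype.coe_injective).trans
      (MulEquiv.subgroupCongr hmap)).symm
  obtain ⟨f', hf'⟩ := exists_block_of_pair hM hRp hxb
  have hstep := normalSubpair_of_pairOf hM hQ hP hPC hf'.2.1 hmax.1.1.2 hup hf'
  have e1 : (⟨(Subgroup.zpowers (σ ^ h)), (subIdx 2 M ⟨D, e⟩ (Subgroup.zpowers (σ ^ h))).2⟩ : BrauerPairIdx G) = ⟨(Subgroup.zpowers (σ ^ h)), f'⟩ :=
    subIdx_unique hM (a := (⟨D, e⟩ : BrauerPairIdx G)) (b := ⟨(Subgroup.zpowers (σ ^ h)), f'⟩) hP hmax.1.1.2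
      (Relation.ReflTransGen.single hstep)
  have hlift : ∀ y ∈ D, ∃ y' ∈ x.1, (y' : G) = y := fun y hy => by
    rw [← hmap] at hy; exact hy
  obtain ⟨s, hsm, hs⟩ := hlift σ hd.memσ
  obtain ⟨t, htm, ht⟩ := hlift τ hd.memτ
  have hout : t ∉ Subgroup.zpowers s := fun hm => by
    obtain ⟨k, hk⟩ := hm
    exact hd.out ⟨k, by rw [← ht, ← hk]; simp [hs]⟩
  refine ⟨f', x, s, t, hx, hup, maximal_down hM hup hmax hf', ?_,
    ⟨⟨hd.toCyc.hpow, ?_⟩, ?_, hsm, htm, hout, ?_, ?_⟩, hs, ht⟩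
  · show idxRank 2 (subIdx 2 M ⟨D, e⟩ (Subgroup.zpowers (σ ^ h))) = _
    have e2 : subIdx 2 M ⟨D, e⟩ (Subgroup.zpowers (σ ^ h)) = ⟨_, f'⟩ := e1
    rw [e2, idxRank]
  · rw [← Subgroup.orderOf_coe, hs, hd.ord]
  · rw [← hd.card, ← hmap, Subgroup.card_map_of_injective Subtype.coe_injective]
  · exact Subtype.ext (by simp [hs, ht, hd.rel])
  · rcases hd.typ with ⟨a1, a2⟩ | ⟨a1, a2, a3⟩
    · exact Or.inl ⟨a1, Subtype.ext (by simp [hs, ht, a2])⟩
    · exact Or.inr ⟨a1, Subtype.ext (by simp [ht, a2]), a3⟩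

/-- Pairs of elements with centralizer in a subgroup agree. -/
theorem bEl_down (hM : IsPModular 2 M) (hmax : IsMaximalBrauerPair 2 M B D e) {H : Subgroup G}
    [Fintype H] {a : BrauerPairIdx H} {F : Set (IrrCharacter H)}
    {ha : Subgroup.centralizer ((a.1.map H.subtype : Subgroup G) : Set G) ≤ H}
    (hup : upIdx a ha = ⟨D, e⟩) (hf : IsMaximalBrauerPair 2 M F a.1 a.2) {u : H} (hu : u ∈ a.1)
    (hC : ∀ g : G, Commute g (u : G) → g ∈ H) :
    ∃ hb : Subgroup.centralizer (((bEl 2 M a.1 a.2 u).1.map H.subtype : Subgroup G) : Set G) ≤ H,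
      upIdx (bEl 2 M a.1 a.2 u) hb = bEl 2 M D e (u : G) := by
  have hmap : (bEl 2 M a.1 a.2 u).1.map H.subtype = Subgroup.zpowers (u : G) := by
    show (Subgroup.zpowers u).map H.subtype = _
    exact MonoidHom.map_zpowers H.subtype u
  have hQ : Subgroup.centralizer ((Subgroup.zpowers (u : G) : Subgroup G) : Set G) ≤ H :=
    fun x hx => hC x ((isCentr_zpowers (u : G) x).1 hx)
  have hb : Subgroup.centralizer
      (((bEl 2 M a.1 a.2 u).1.map H.subtype : Subgroup G) : Set G) ≤ H := hmap ▸ hQ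
  obtain ⟨hblk, hle⟩ := subIdx_spec hM (a := (⟨a.1, a.2⟩ : BrauerPairIdx H))
    hf.1.1.1 hf.1.1.2 (Q := Subgroup.zpowers u) (Subgroup.zpowers_le.2 hu)
  obtain ⟨hb', hle'⟩ := subpair_up hQ hle hmap.ge hb
  have hle2 : Relation.ReflTransGen (NormalSubpairRel 2 M)
      (upIdx (bEl 2 M a.1 a.2 u) hb) ⟨D, e⟩ := hup ▸ hle'
  refine ⟨hb, ?_⟩
  have he := subIdx_unique hM (a := (⟨D, e⟩ : BrauerPairIdx G)) hmax.1.1.1 hmax.1.1.2 hle2
  rw [show (upIdx (bEl 2 M a.1 a.2 u) hb).1 = Subgroup.zpowers (u : G) from hmap] at he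
  exact he.symm

/-- The rank at the involution and the unfused outer classes of order four. -/
theorem TG.local_sum (hd : TG D σ τ h r) (hM : IsPModular 2 M)
    (hmax : IsMaximalBrauerPair 2 M B D e) :
    (r = 2 * h - 1 → lz M D e σ h + (uset M D e σ τ).card = 3) ∧
      (r = h - 1 → lz M D e σ h + ((uset M D e σ τ).filter fun x => x = 1).card = 2) := by
  classical
  haveI := Fintype.ofFinite (zc σ h)
  obtain ⟨f, a, s, t, ha, hup, hf, hlz, hd', hs, ht⟩ := exists_zloc hd hM hmax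
  have h2 := hd.two_le
  have hmemH : ∀ g, g ∈ (zc σ h) ↔ Commute g (σ ^ h) := fun g => isCentr_zpowers (σ ^ h) g
  have hsh : ((s ^ h : (zc σ h)) : G) = σ ^ h := by rw [SubmonoidClass.coe_pow, hs]
  have hz : s ^ h ∈ Subgroup.center (zc σ h) := Subgroup.mem_center_iff.2 fun g => Subtype.ext (by
    simp only [Subgroup.coe_mul, hsh]
    exact ((hmemH _).1 g.2).eq)
  have hoe : ∀ x, ((oe s t x : (zc σ h)) : G) = oe σ τ x := fun x => by
    show ((s ^ x * t : (zc σ h)) : G) = σ ^ x * τ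
    rw [Subgroup.coe_mul, SubmonoidClass.coe_pow, hs, ht]
  have hzl : lz M a.1 a.2 s h = blockRank 2 f := by
    show subRk 2 M a.1 a.2 (Subgroup.zpowers (s ^ h)) = _
    exact subRk_central hM hf (Subgroup.zpowers_le.2 (hd'.pow_mem' h))
      (eq_top_iff.2 fun g _ => (isCentr_zpowers (s ^ h) g).2 (Subgroup.mem_center_iff.1 hz g))
  have hsum := hd'.central_sum hM hf hz
  rw [hzl, ← hlz] at hsum
  -- elements with square the involution
  have hfour : ∀ x, oe σ τ x * oe σ τ x = σ ^ h →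
      (Inner M a.1 a.2 s (oe s t x) ↔ Inner M D e σ (oe σ τ x)) := by
    intro x hxx
    have hC : ∀ v : (zc σ h), v ∈ a.1 → (v : G) * v = σ ^ h →
        ∃ hb : Subgroup.centralizer (((bEl 2 M a.1 a.2 v).1.map (zc σ h).subtype : Subgroup G) : Set G) ≤ (zc σ h),
          upIdx (bEl 2 M a.1 a.2 v) hb = bEl 2 M D e (v : G) := fun v hv hvv =>
      bEl_down hM hmax hup hf hv fun g hg => (hmemH g).2 (by rw [← hvv]; exact hg.mul_right hg)
    obtain ⟨hbw, hw⟩ := hC _ (hd'.out_mem x) (by rw [hoe]; exact hxx)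
    constructor
    · rintro ⟨v, hv, hf'⟩
      obtain ⟨g, hg, hgv⟩ := id hf'
      have hvD : v ∈ a.1 := fus_mem hf'
      have hgz : Commute (g : G) (σ ^ h) := (hmemH _).1 g.2
      have hvv : (v : G) * v = σ ^ h := by
        rw [← hgv, Subgroup.coe_mul, Subgroup.coe_mul, Subgroup.coe_inv, hoe,
          show (g : G) * oe σ τ x * (g : G)⁻¹ * ((g : G) * oe σ τ x * (g : G)⁻¹) =
            (g : G) * (oe σ τ x * oe σ τ x) * (g : G)⁻¹ by group, hxx, hgz.eq,
          mul_inv_cancel_right]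
      obtain ⟨hbv, hv'⟩ := hC v hvD hvv
      refine ⟨v, ?_, (g : G), ?_, ?_⟩
      · obtain ⟨k, rfl⟩ := hv
        exact ⟨k, by simp [hs]⟩
      · have e1 : conjIdx g (bEl 2 M a.1 a.2 (oe s t x)) = bEl 2 M a.1 a.2 v := by
          rw [← fus_bEl hM hf hg, hgv]
        have hC' : Subgroup.centralizer
            (((conjIdx g (bEl 2 M a.1 a.2 (oe s t x))).1.map (zc σ h).subtype : Subgroup G) : Set G)
              ≤ (zc σ h) := by rw [e1]; exact hbv
        have e2 : conjIdx (g : G) (bEl 2 M D e (oe σ τ x)) = bEl 2 M D e (v : G) := by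
          rw [← hoe, ← hw, ← hv', ← upIdx_conj _ hbw g hC']
          congr 1
        show Relation.ReflTransGen (NormalSubpairRel 2 M) _ _
        rw [e2]
        have hvD' : (v : G) ∈ D := le_map_subtype_of_eq hup ▸ ⟨v, hvD, rfl⟩
        exact (subIdx_spec hM (a := (⟨D, e⟩ : BrauerPairIdx G)) hmax.1.1.1 hmax.1.1.2
          (Q := Subgroup.zpowers (v : G)) (Subgroup.zpowers_le.2 hvD')).2
      · rw [← hgv, ← hoe]; rfl
    · rintro ⟨v, hv, hf'⟩
      obtain ⟨g, hg, hgv⟩ := id hf'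
      have hvD : v ∈ D := fus_mem hf'
      have hvv : v * v = σ ^ h := by
        rcases hd.toCyc.sq_eq_one (Subgroup.mul_mem _ hv hv) (by
          rw [← hgv, show g * oe σ τ x * g⁻¹ * (g * oe σ τ x * g⁻¹) *
            (g * oe σ τ x * g⁻¹ * (g * oe σ τ x * g⁻¹)) =
            g * (oe σ τ x * oe σ τ x * (oe σ τ x * oe σ τ x)) * g⁻¹ by group, hxx,
            hd.toCyc.z_ne.2]
          group) with e1 | e1
        · exfalso
          rw [← hgv, show g * oe σ τ x * g⁻¹ * (g * oe σ τ x * g⁻¹) =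
            g * (oe σ τ x * oe σ τ x) * g⁻¹ by group, hxx, conj_eq_one_iff] at e1
          exact hd.toCyc.z_ne.1 e1
        · exact e1
      have hgH : g ∈ (zc σ h) := (hmemH g).2 (mul_inv_eq_iff_eq_mul.1 (by
        conv_rhs => rw [← hvv, ← hgv]
        conv_lhs => rw [← hxx]
        group))
      obtain ⟨k, rfl⟩ := hv
      set v' : (zc σ h) := s ^ k with hv'def
      have hv'c : (v' : G) = σ ^ k := by simp [hv'def, hs]
      have hv'D : v' ∈ a.1 := Subgroup.zpow_mem _ hd'.memσ k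
      obtain ⟨hbv, hv'⟩ := hC v' hv'D (by rw [hv'c]; exact hvv)
      refine ⟨v', Subgroup.zpow_mem _ (Subgroup.mem_zpowers s) k, ⟨g, hgH⟩, ?_, ?_⟩
      · have hconjv : (⟨g, hgH⟩ : (zc σ h)) * oe s t x * (⟨g, hgH⟩ : (zc σ h))⁻¹ = v' := Subtype.ext (by
          simp only [Subgroup.coe_mul, Subgroup.coe_inv, hoe, hv'c]
          exact hgv)
        have hmapc : (conjIdx (⟨g, hgH⟩ : (zc σ h)) (bEl 2 M a.1 a.2 (oe s t x))).1 =
            (bEl 2 M a.1 a.2 v').1 := by
          rw [conjIdx_fst_zpowers (x := oe s t x) rfl, hconjv]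
          rfl
        have hC' : Subgroup.centralizer (((conjIdx (⟨g, hgH⟩ : (zc σ h))
            (bEl 2 M a.1 a.2 (oe s t x))).1.map (zc σ h).subtype : Subgroup G) : Set G) ≤ (zc σ h) := by
          rw [hmapc]; exact hbv
        have e1 : conjIdx (⟨g, hgH⟩ : (zc σ h)) (bEl 2 M a.1 a.2 (oe s t x)) = bEl 2 M a.1 a.2 v' := by
          refine upIdx_injective (ha := hC') (hb := hbv) ?_
          rw [upIdx_conj _ hbw _ hC', hw, hv', hoe, hv'c, ← fus_bEl hM hmax hg]
          exact congrArg _ hgv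
        show Relation.ReflTransGen (NormalSubpairRel 2 M) _ _
        rw [e1]
        exact (subIdx_spec hM (a := (⟨a.1, a.2⟩ : BrauerPairIdx (zc σ h))) hf.1.1.1 hf.1.1.2
          (Q := Subgroup.zpowers v') (Subgroup.zpowers_le.2 hv'D)).2
      · exact Subtype.ext (by
          simp only [Subgroup.coe_mul, Subgroup.coe_inv, hoe, hv'c]
          exact hgv)
  constructor
  · intro hr
    rw [← hsum]
    congr 1
    refine congrArg Finset.card (Finset.filter_congr fun x _ => not_congr (hfour x ?_).symm)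
    rcases hd.typ with ⟨-, htt⟩ | ⟨e1, -, h4⟩
    · show σ ^ x * τ * (σ ^ x * τ) = _
      rw [hd.out_sq, htt, ← pow_add, ← hd.pow_mod, hr,
        show x + (2 * h - 1) * x = 2 * h * x by
          obtain ⟨w, hw⟩ : ∃ w, 2 * h = w + 1 := ⟨2 * h - 1, by omega⟩
          rw [hw, Nat.add_sub_cancel]; ring, Nat.mul_add_mod, Nat.mod_eq_of_lt (by omega)]
    · omega
  · intro hr
    rcases hd.typ with ⟨e1, -⟩ | ⟨-, htt, h4⟩
    · omega
    have hw : oe σ τ 1 * oe σ τ 1 = σ ^ h := by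
      show σ ^ 1 * τ * (σ ^ 1 * τ) = _
      rw [hd.out_sq, htt, mul_one, mul_one, hr, show 1 + (h - 1) = h by omega]
    have h0 : ¬ Inner M a.1 a.2 s (oe s t 0) := by
      rintro ⟨v, hv, g, hg, hgv⟩
      have e0 : oe s t 0 * oe s t 0 = 1 := by
        show s ^ 0 * t * (s ^ 0 * t) = 1
        refine Subtype.ext ?_
        rw [pow_zero, one_mul, Subgroup.coe_mul, ht, htt, Subgroup.coe_one]
      have hvv : v * v = 1 := by
        rw [← hgv, show g * oe s t 0 * g⁻¹ * (g * oe s t 0 * g⁻¹) =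
          g * (oe s t 0 * oe s t 0) * g⁻¹ by group, e0]
        group
      rcases hd'.toCyc.sq_eq_one hv hvv with e1 | e1
      · rw [← hgv, conj_eq_one_iff] at e1
        exact hd'.out_not 0 (show s ^ 0 * t ∈ Subgroup.zpowers s by
          rw [show s ^ 0 * t = 1 from e1]; exact one_mem _)
      · refine hd'.out_not 0 (show s ^ 0 * t ∈ Subgroup.zpowers s from ?_)
        have e2 : oe s t 0 = g⁻¹ * s ^ h * g := by rw [← e1, ← hgv]; simp [mul_assoc]
        rw [show s ^ 0 * t = g⁻¹ * s ^ h * g from e2,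
          mul_assoc, ← Subgroup.mem_center_iff.1 hz g, inv_mul_cancel_left]
        exact Subgroup.npow_mem_zpowers s h
    have e2 : (uset M a.1 a.2 s t).card =
        1 + ((uset M D e σ τ).filter fun x => x = 1).card := by
      unfold uset
      rw [Finset.filter_filter, Finset.range_add_one, Finset.range_add_one, Finset.range_zero]
      by_cases hi : Inner M D e σ (oe σ τ 1)
      · simp [Finset.filter_insert, Finset.filter_singleton, h0, (hfour 1 hw).2 hi, hi]
      · simp [Finset.filter_insert, Finset.filter_singleton, h0, mt (hfour 1 hw).1 hi, hi]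
    omega

end CfsgLib.Blocks.Tame
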