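import Cfsg.Agent.Lib.Blocks.TameBlock.Shape
import Cfsg.Agent.Lib.Blocks.TameBlock.Transfer

/-!
# The invariants of blocks with quaternion or semidihedral defect groups
-/

namespace CfsgLib.Blocks.Tame

open Cfsg CfsgLib.CharTheory CfsgLib.Blocks.DihBlock
open scoped ComplexConjugate

set_option linter.unusedVariables false
set_option linter.unusedSimpArgs false
set_option linter.style.haveILetI false
set_option linter.unusedSectionVars false

universe u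

variable {G : Type u} [Group G] [Fintype G] {M : Ideal AlgInt} {B : Set (IrrCharacter G)}
  {D : Subgroup G} {e : Set (IrrCharacter (Subgroup.centralizer (D : Set G)))} {σ τ : G} {h r : ℕ}

/-- Members whose contributions at the involution are orthogonal are at most as many as its
Brauer characters. -/
theorem card_le_lz (hM : IsPModular 2 M) (hmax : IsMaximalBrauerPair 2 M B D e)
    (hd : TG D σ τ h r) (S : Finset (IrrCharacter G))
    (horth : ∀ χ ∈ S, ∀ ψ ∈ S, χ ≠ ψ → qz M D e σ h χ ψ = 0)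
    (hne : ∀ χ ∈ S, qz M D e σ h χ χ ≠ 0) :
    S.card ≤ lz M D e σ h := by
  classical
  haveI : Fact (Nat.Prime 2) := ⟨Nat.prime_two⟩
  obtain ⟨b, hb, hind, hsec⟩ := pp_secPair hM hmax (hd.pow_mem' h)
  haveI := Fintype.ofFinite (zc σ h)
  have hdef := hd.defect_z hM hmax
  rw [hb] at hdef
  simp only at hdef
  set R := Finset.univ.filter (fun c : (zc σ h) => ¬ 2 ∣ orderOf c) with hR
  set v : S → (zc σ h) → ℂ := fun χ =>
    pRegularPart 2 (blockPart b (sec (σ ^ h) (zc σ h) (χ.1 : G → ℂ))) with hv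
  set W := Submodule.span ℂ
    ((fun φ : IrrCharacter (zc σ h) => pRegularPart 2 (φ : (zc σ h) → ℂ)) '' b) with hW
  have hvR : ∀ (χ : S) (c : (zc σ h)), c ∈ R → v χ c = blockPart b (sec (σ ^ h) (zc σ h) (χ.1 : G → ℂ)) c :=
    fun χ c hc => by simp only [hv, pRegularPart_apply, if_neg (Finset.mem_filter.1 hc).2]
  have hmem : ∀ χ, v χ ∈ W := by
    intro χ
    have e1 : v χ = ∑ φ ∈ bset b,
        classInner (sec (σ ^ h) (zc σ h) (χ.1 : G → ℂ)) (φ : (zc σ h) → ℂ) • pRegularPart 2 (φ : (zc σ h) → ℂ) := by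
      funext c
      simp only [hv, pRegularPart_apply, Finset.sum_apply, Pi.smul_apply, smul_eq_mul,
        blockPart_apply]
      split_ifs with hc
      · simp [hc]
      · exact Finset.sum_congr rfl fun φ _ => by first | rfl | simp [hc]
    rw [e1]
    exact Submodule.sum_mem _ fun φ hφ =>
      Submodule.smul_mem _ _ (Submodule.subset_span ⟨φ, mem_bset.1 hφ, rfl⟩)
  have hgram : ∀ χ ψ : S, qz M D e σ h χ.1 ψ.1 =
      ((2 : ℕ) : ℂ) ^ blockDefect 2 b * (Nat.card (zc σ h) : ℂ)⁻¹ *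
        ∑ c ∈ R, v χ c * conj (v ψ c) := by
    intro χ ψ
    rw [qz, ← hd.defect hM hmax, ← hdef, ← hsec, secPair, ← hR]
    exact congrArg _ (Finset.sum_congr rfl fun c hc => by rw [hvR χ c hc, hvR ψ c hc])
  have hfac : ((2 : ℕ) : ℂ) ^ blockDefect 2 b * (Nat.card (zc σ h) : ℂ)⁻¹ ≠ 0 :=
    mul_ne_zero (pow_ne_zero _ (by norm_num))
      (inv_ne_zero (Nat.cast_ne_zero.2 Nat.card_pos.ne'))
  have hind' : LinearIndependent ℂ v := by
    rw [Fintype.linearIndependent_iff]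
    intro g hg j
    have h1 : ∑ c ∈ R, (∑ i, g i * v i c) * conj (v j c) = 0 := Finset.sum_eq_zero fun c _ => by
      have := congrFun hg c
      simp only [Finset.sum_apply, Pi.smul_apply, smul_eq_mul, Pi.zero_apply] at this
      rw [this, zero_mul]
    simp only [Finset.sum_mul, mul_assoc] at h1
    rw [Finset.sum_comm, Finset.sum_eq_single j, ← Finset.mul_sum] at h1
    · refine (mul_eq_zero.1 h1).resolve_right fun h0 => hne j.1 j.2 ?_
      rw [hgram, h0, mul_zero]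
    · intro i _ hij
      have h2 := horth i.1 i.2 j.1 j.2 (fun e1 => hij (Subtype.ext e1))
      rw [hgram] at h2
      rw [← Finset.mul_sum, (mul_eq_zero.1 h2).resolve_left hfac, mul_zero]
    · exact fun hn => absurd (Finset.mem_univ j) hn
  have h3 := finrank_span_eq_card hind'
  rw [Fintype.card_coe] at h3
  calc S.card = Module.finrank ℂ (Submodule.span ℂ (Set.range v)) := h3.symm
    _ ≤ Module.finrank ℂ W := Submodule.finrank_mono (Submodule.span_le.2 (by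
        rintro _ ⟨χ, rfl⟩; exact hmem χ))
    _ = idxRank 2 (bEl 2 M D e (σ ^ h)) := by
        show _ = blockRank 2 (bEl 2 M D e (σ ^ h)).2
        rw [hb]
        rfl

variable [Fintype (nr σ h)] {f : Set (IrrCharacter (nr σ h))} {a : BrauerPairIdx (nr σ h)}
  {s t : nr σ h} {ψ₀ : IrrCharacter (nr σ h)} {T : IrrCharacter a.1 → IrrCharacter (nr σ h)}
  {ζ : ℂ} {b : IrrCharacter G → ℕ → ℤ}

/-- A member without coefficients. -/
theorem Par.extra (P : Par M B D e σ τ h r f a s t ψ₀ T) (hζ : IsPrimitiveRoot ζ (2 * h))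
    (C : Cf h r ζ s a T b) {χ : IrrCharacter G} (hχ : χ ∈ B) (hE : χ ∉ eset B b)
    (hz : ∀ j < 2 * h, b χ j = 0) :
    2 ^ blockHeight 2 B (χ : G → ℂ) = h ∧ qz M D e σ h χ χ ≠ 0 ∧
      ∀ ψ ∈ B, ψ ∉ eset B b → ψ ≠ χ → qz M D e σ h χ ψ = 0 := by
  classical
  have h2 := P.hd.two_le
  have hB := P.hmax.1.2.1
  have hTT : ∀ ψ, TT h b χ ψ = 0 := fun ψ => by
    rw [TT, Pv, Nv, Finset.sum_eq_zero fun j hj => by rw [hz j (Finset.mem_range.1 hj), zero_mul],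
      Finset.sum_eq_zero fun j hj => by rw [hz j (Finset.mem_range.1 hj)],
      Finset.sum_eq_zero fun j hj => by rw [hz j (Finset.mem_range.1 hj), mul_zero]]
    ring
  obtain ⟨hEc, -, -⟩ := (P.gram_even hζ C).x_vals
  have hsub : eset B b ⊆ bset B := Finset.filter_subset _ _
  have hbig : ∀ θ ∈ eset B b, (h : ℤ) * h ≤ q1 B χ θ * q1 B χ θ := by
    intro θ hθ
    obtain ⟨⟨w, hw⟩, hne⟩ := P.extra_entry hζ C hθ hχ hz
    rw [q1_comm P.hM hB hχ (mem_eset.1 hθ).1, hw]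
    have hw1 : 1 ≤ w * w := by
      have : w ≠ 0 := fun e1 => hne (by rw [hw, e1, mul_zero])
      have := mul_self_pos.2 this
      omega
    nlinarith [mul_le_mul_of_nonneg_left hw1 (mul_self_nonneg (h : ℤ))]
  have hrow := P.row_q1 hχ
  have hχm : χ ∈ bset B \ eset B b := Finset.mem_sdiff.2 ⟨mem_bset.2 hχ, hE⟩
  rw [← Finset.sum_sdiff hsub, ← Finset.add_sum_erase _ _ hχm] at hrow
  have hE4 : 4 * ((h : ℤ) * h) ≤ ∑ θ ∈ eset B b, q1 B χ θ * q1 B χ θ := by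
    have := Finset.card_nsmul_le_sum _ _ _ hbig
    rw [hEc, nsmul_eq_mul] at this
    exact this
  have hrest : 0 ≤ ∑ ψ ∈ (bset B \ eset B b).erase χ, q1 B χ ψ * q1 B χ ψ :=
    Finset.sum_nonneg fun ψ _ => mul_self_nonneg _
  have hsq : q1 B χ χ = 2 * h := by
    have h3 : (q1 B χ χ - 2 * h) * (q1 B χ χ - 2 * h) ≤ 0 := by nlinarith
    have := mul_self_eq_zero.1 (le_antisymm h3 (mul_self_nonneg _))
    linarith
  rw [hsq] at hrow
  have hrest0 : ∑ ψ ∈ (bset B \ eset B b).erase χ, q1 B χ ψ * q1 B χ ψ = 0 := by nlinarith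
  have hE0 : ∑ θ ∈ eset B b, (q1 B χ θ * q1 B χ θ - (h : ℤ) * h) = 0 := by
    rw [Finset.sum_sub_distrib, Finset.sum_const, hEc, nsmul_eq_mul]
    push_cast
    nlinarith
  refine ⟨?_, ?_, fun ψ hψ hψE hne => ?_⟩
  · obtain ⟨θ, hθ⟩ := (P.gram_even hζ C).ne
    obtain ⟨hθB, hodd⟩ := mem_eset.1 hθ
    have h3 := (Finset.sum_eq_zero_iff_of_nonneg fun i hi => sub_nonneg.2 (hbig i hi)).1 hE0 θ hθ
    obtain ⟨ha, hb', -⟩ := q1_exact P.hM hB hθB hχ ((P.height_odd hζ C hθB).1 hodd)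
    rw [q1_comm P.hM hB hθB hχ] at ha hb'
    obtain ⟨k, hk⟩ := P.hd.toCyc.hpow
    have hk' : (h : ℤ) = 2 ^ (k + 1) := by rw [hk]; push_cast; rfl
    have hdvd : ∀ j : ℕ, (2 : ℤ) ^ j ∣ q1 B χ θ ↔ j ≤ k + 1 := by
      intro j
      have hu : ¬ IsUnit (2 : ℤ) := Int.prime_two.not_unit
      rcases mul_self_eq_mul_self_iff.1 (sub_eq_zero.1 h3) with e1 | e1 <;> rw [e1, hk'] <;>
        simp [dvd_neg, pow_dvd_pow_iff (two_ne_zero (α := ℤ)) hu]
    rw [hdvd] at ha hb'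
    rw [hk]
    congr 1
    omega
  · rw [P.qzz_spec hζ C hχ hχ, Int.cast_ne_zero]
    have h1 := P.diag hζ C hχ
    rw [if_neg hE, hTT, hsq] at h1
    omega
  · have h3 := (Finset.sum_eq_zero_iff_of_nonneg fun i _ => mul_self_nonneg (q1 B χ i)).1 hrest0 ψ
      (Finset.mem_erase.2 ⟨hne, Finset.mem_sdiff.2 ⟨mem_bset.2 hψ, hψE⟩⟩)
    rw [P.qzz_spec hζ C hχ hψ, P.qzz_off hζ C hχ hψ hE hne.symm, hTT, mul_self_eq_zero.1 h3]
    simp

/-- A member with coefficients outside the odd set. -/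
theorem Par.chain (P : Par M B D e σ τ h r f a s t ψ₀ T) (hζ : IsPrimitiveRoot ζ (2 * h))
    (C : Cf h r ζ s a T b) (h4 : 4 ∣ h) {χ : IrrCharacter G} (hχ : χ ∈ B) (hE : χ ∉ eset B b)
    {v w : ℤ} (hv : Pv h b χ = 2 * v) (hw : Nv h b χ = 2 * w) (hvo : Odd v) (hwo : Odd w) :
    blockHeight 2 B (χ : G → ℂ) = 1 ∧ qz M D e σ h χ χ ≠ 0 := by
  classical
  have hB := P.hmax.1.2.1
  have hb0 : b χ 0 = 0 := (P.gram_even hζ C).x_vals.2.2 χ (mem_bset.2 hχ) hE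
  obtain ⟨θ, hθ⟩ := (P.gram_even hζ C).ne
  obtain ⟨hθB, hodd⟩ := mem_eset.1 hθ
  have hθ0 := (P.height_odd hζ C hθB).1 hodd
  obtain ⟨u1, hu1⟩ := C.parity P.hd θ
  have hPo : Odd (Pv h b θ) := by
    obtain ⟨o, ho⟩ := hodd
    exact ⟨o + u1, by omega⟩
  have hNo : Odd (Nv h b θ) := by
    obtain ⟨e1, e2, -⟩ := C.sums P.dg θ
    obtain ⟨o, ho⟩ := hodd
    exact ⟨o + ES h r 0 b θ - ES h r 1 b θ, by rw [e2, ho]; ring⟩
  have hmod := P.q1_mod_h hζ C hθB hχ (by rw [hb0, mul_zero]; exact dvd_zero 2)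
  obtain ⟨q, hq⟩ := h4
  have h4' : (4 : ℤ) ∣ q1 B θ χ - Pv h b θ * Pv h b χ :=
    dvd_trans ⟨(q : ℤ), by rw [hq]; push_cast; ring⟩ hmod
  obtain ⟨o, ho⟩ := hPo.mul hvo
  have h42 : (4 : ℤ) ∣ q1 B θ χ - 2 := by
    rw [hv, mul_left_comm, ho] at h4'
    omega
  obtain ⟨ha, hb', -⟩ := q1_exact P.hM hB hθB hχ hθ0
  have hht : blockHeight 2 B (χ : G → ℂ) = 1 := by
    rcases Nat.lt_trichotomy (blockHeight 2 B (χ : G → ℂ)) 1 with hlt | he | hgt
    · exfalso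
      rw [Nat.lt_one_iff.1 hlt, zero_add, pow_one] at hb'
      exact hb' (by omega)
    · exact he
    · exfalso
      have h5 : (4 : ℤ) ∣ q1 B θ χ :=
        (pow_dvd_pow (2 : ℤ) (show 2 ≤ blockHeight 2 B (χ : G → ℂ) by omega)).trans ha
      omega
  refine ⟨hht, ?_⟩
  rw [P.qzz_spec hζ C hχ hχ, Int.cast_ne_zero]
  intro h0
  have h6 := P.row_qz hζ C hχ
  rw [h0, mul_zero] at h6
  have h7 := mul_self_eq_zero.1
    ((Finset.sum_eq_zero_iff_of_nonneg fun i _ => mul_self_nonneg _).1 h6 θ (mem_bset.2 hθB))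
  have hne : χ ≠ θ := fun e1 => hE (e1 ▸ hθ)
  rw [P.qzz_off hζ C hχ hθB hE hne, q1_comm P.hM hB hχ hθB, TT, hv, hw, hq] at h7
  obtain ⟨o1, ho1⟩ := hvo.mul hPo
  obtain ⟨o2, ho2⟩ := hwo.mul hNo
  set S2 := ∑ j ∈ Finset.range (2 * (4 * q)), b χ j * b θ j with hS2
  rw [hq] at ho1 ho2
  push_cast at h7
  have h8 : (4 : ℤ) ∣ q1 B θ χ := ⟨-2 * (q * S2) + (o1 + o2 + 1), by
    linear_combination -1 * h7 + 2 * ho1 + 2 * ho2⟩
  omega

omit [Fintype (nr σ h)] in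
/-- The invariants of a tame block. -/
theorem TG.invariants (hd : TG D σ τ h r) (hM : IsPModular 2 M)
    (hmax : IsMaximalBrauerPair 2 M B D e) :
    1 ≤ blockRank 2 B ∧ blockRank 2 B ≤ 3 ∧
      (r = 2 * h - 1 → (bset B).card = blockRank 2 B + h + 2) ∧
      (r = h - 1 → ((bset B).card = h + 3 ∨ (bset B).card = h + 4) ∧
        (blockRank 2 B = 3 → (bset B).card = h + 4) ∧
        (blockRank 2 B = 1 → (bset B).card = h + 3)) ∧
      Nat.card {χ : IrrCharacter G // χ ∈ B ∧ blockHeight 2 B (χ : G → ℂ) = 0} = 4 ∧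
      (∀ χ ∈ B, blockHeight 2 B (χ : G → ℂ) = 0 ∨ blockHeight 2 B (χ : G → ℂ) = 1 ∨
        2 ^ blockHeight 2 B (χ : G → ℂ) = h) ∧
      (4 ≤ h →
        Nat.card {χ : IrrCharacter G // χ ∈ B ∧ blockHeight 2 B (χ : G → ℂ) = 1} + 1 = h) := by
  classical
  haveI := Fintype.ofFinite (nr σ h)
  obtain ⟨f, a, s, t, L⟩ := exists_loc hM hmax hd
  obtain ⟨ψ₀, T, P⟩ := L.exists_par
  have h2 := hd.two_le
  have hB := hmax.1.2.1
  have hζ := Complex.isPrimitiveRoot_exp (2 * h) (by omega)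
  obtain ⟨b, C⟩ := P.exists_cf hζ
  have hcount := P.card_formula
  obtain ⟨hQ, hS⟩ := hd.local_sum hM hmax
  have hl := blockRank_pos hM hB
  have hU : uset M D e σ τ ⊆ ({0, 1} : Finset ℕ) := fun x hx => by
    have := (mem_uset.1 hx).1
    interval_cases x <;> simp
  have hRsplit := Finset.card_filter_add_card_filter_not (s := uset M D e σ τ) fun x => x = 1
  have hR0 : ((uset M D e σ τ).filter fun x => ¬ x = 1).card ≤ 1 := by
    refine (Finset.card_le_card (t := {0}) fun x hx => ?_).trans (Finset.card_singleton 0).le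
    have hx0 := hU (Finset.mem_filter.1 hx).1
    rw [Finset.mem_insert, Finset.mem_singleton] at hx0
    exact Finset.mem_singleton.2 (hx0.resolve_right (Finset.mem_filter.1 hx).2)
  have hk : h + 2 ≤ (bset B).card := by
    rcases hd.typ with ⟨hr, -⟩ | ⟨hr, -, -⟩
    · have := hQ hr; omega
    · have := hS hr; omega
  obtain ⟨Ch, hsub, hc4, hc2, hchain, hzero⟩ := P.shape hζ C hk
  set E := eset B b with hEdef
  set X := (bset B \ E) \ Ch with hX
  have hE4 : E.card = 4 := (P.gram_even hζ C).x_vals.1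
  have hEsub : E ⊆ bset B := Finset.filter_subset _ _
  have hcard : (bset B).card = 4 + Ch.card + X.card := by
    rw [← Finset.card_sdiff_add_card_eq_card hEsub, ← Finset.card_sdiff_add_card_eq_card hsub, hE4, hX]
    omega
  have hXm : ∀ χ ∈ X, χ ∈ B ∧ χ ∉ E ∧ χ ∉ Ch := fun χ hχ => by
    obtain ⟨h1, h3⟩ := Finset.mem_sdiff.1 hχ
    obtain ⟨h4, h5⟩ := Finset.mem_sdiff.1 h1
    exact ⟨mem_bset.1 h4, h5, h3⟩
  have hXe : ∀ χ ∈ X, 2 ^ blockHeight 2 B (χ : G → ℂ) = h ∧ qz M D e σ h χ χ ≠ 0 ∧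
      ∀ ψ ∈ B, ψ ∉ E → ψ ≠ χ → qz M D e σ h χ ψ = 0 := fun χ hχ =>
    P.extra hζ C (hXm χ hχ).1 (hXm χ hχ).2.1
      (hzero χ (mem_bset.2 (hXm χ hχ).1) (hXm χ hχ).2.1 (hXm χ hχ).2.2)
  have hChm : ∀ χ ∈ Ch, χ ∈ B ∧ χ ∉ E := fun χ hχ =>
    ⟨mem_bset.1 (Finset.mem_sdiff.1 (hsub hχ)).1, (Finset.mem_sdiff.1 (hsub hχ)).2⟩
  have hh : h = 2 ∨ 4 ∣ h := by
    obtain ⟨k, hk'⟩ := hd.toCyc.hpow
    rcases k with _ | k
    · exact Or.inl (by simpa using hk')
    · exact Or.inr ⟨2 ^ k, by rw [hk']; ring⟩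
  have hChh : ∀ χ ∈ Ch, 4 ∣ h := fun χ hχ => hh.resolve_left fun e1 => by
    rw [hc2 e1] at hχ
    exact Finset.notMem_empty χ hχ
  have hChe : ∀ χ ∈ Ch, blockHeight 2 B (χ : G → ℂ) = 1 ∧ qz M D e σ h χ χ ≠ 0 := by
    intro χ hχ
    obtain ⟨v, w, hv, hw, hvo, hwo⟩ := hchain χ hχ
    exact P.chain hζ C (hChh χ hχ) (hChm χ hχ).1 (hChm χ hχ).2 hv hw hvo hwo
  have hXlz : X.card ≤ lz M D e σ h :=
    card_le_lz hM hmax hd X
      (fun χ hχ ψ hψ hne => (hXe χ hχ).2.2 ψ (hXm ψ hψ).1 (hXm ψ hψ).2.1 hne.symm)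
      fun χ hχ => (hXe χ hχ).2.1
  have hXlz' : Ch.Nonempty → X.card + 1 ≤ lz M D e σ h := by
    rintro ⟨c, hc⟩
    have hcX : c ∉ X := fun hcX => (hXm c hcX).2.2 hc
    have hzero' : ∀ χ ∈ X, qz M D e σ h c χ = 0 := by
      intro χ hχ
      have h1 := (hXe χ hχ).2.2 c (hChm c hc).1 (hChm c hc).2 (fun e1 => hcX (e1 ▸ hχ))
      rw [P.qzz_spec hζ C (hXm χ hχ).1 (hChm c hc).1, Int.cast_eq_zero,
        P.qzz_off hζ C (hXm χ hχ).1 (hChm c hc).1 (hXm χ hχ).2.1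
          (fun e1 => hcX (e1 ▸ hχ))] at h1
      rw [P.qzz_spec hζ C (hChm c hc).1 (hXm χ hχ).1, Int.cast_eq_zero,
        P.qzz_off hζ C (hChm c hc).1 (hXm χ hχ).1 (hChm c hc).2 (fun e1 => hcX (e1 ▸ hχ))]
      rw [q1_comm hM hB (hChm c hc).1 (hXm χ hχ).1,
        show TT h b c χ = TT h b χ c by simp only [TT, mul_comm (b c _), mul_comm (Pv h b c),
          mul_comm (Nv h b c)]]
      exact h1
    have h3 := card_le_lz hM hmax hd (insert c X) (fun χ hχ ψ hψ hne => by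
      rcases Finset.mem_insert.1 hχ with rfl | hχ' <;>
        rcases Finset.mem_insert.1 hψ with rfl | hψ'
      · exact absurd rfl hne
      · exact hzero' ψ hψ'
      · exact (hXe χ hχ').2.2 ψ (hChm ψ hc).1 (hChm ψ hc).2 hne.symm
      · exact (hXe χ hχ').2.2 ψ (hXm ψ hψ').1 (hXm ψ hψ').2.1 hne.symm) (fun χ hχ => by
      rcases Finset.mem_insert.1 hχ with rfl | hχ'
      · exact (hChe χ hc).2
      · exact (hXe χ hχ').2.1)
    rw [Finset.card_insert_of_notMem hcX] at h3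
    exact h3
  have hcomb : (h = 2 ∧ Ch.card = 0) ∨
      (4 ≤ h ∧ Ch.card + 1 = h ∧ X.card + 1 ≤ lz M D e σ h) := by
    rcases hh with e1 | e1
    · exact Or.inl ⟨e1, by rw [hc2 e1]; rfl⟩
    · have h4 : 4 ≤ h := Nat.le_of_dvd (by omega) e1
      exact Or.inr ⟨h4, hc4 h4, hXlz' (Finset.card_pos.1 (by have := hc4 h4; omega))⟩
  refine ⟨hl, ?_, fun hr => ?_, fun hr => ?_, ?_, fun χ hχ => ?_, fun h4 => ?_⟩
  · rcases hd.typ with ⟨hr, -⟩ | ⟨hr, -, h4⟩
    · have := hQ hr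
      rcases hcomb with ⟨e1, e2⟩ | ⟨e1, e2, e3⟩ <;> omega
    · have := hS hr
      rcases hcomb with ⟨e1, e2⟩ | ⟨e1, e2, e3⟩ <;> omega
  · have := hQ hr
    omega
  · have := hS hr
    rcases hd.typ with ⟨hr', -⟩ | ⟨-, -, h4⟩
    · omega
    · have h4' : 4 ≤ h := Nat.le_of_dvd (by omega) h4
      rcases hcomb with ⟨e1, e2⟩ | ⟨e1, e2, e3⟩
      · omega
      · refine ⟨?_, fun hl3 => ?_, fun hl1 => ?_⟩ <;> omega
  · rw [Nat.card_congr (Equiv.subtypeEquivRight fun χ =>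
      (show χ ∈ B ∧ blockHeight 2 B (χ : G → ℂ) = 0 ↔ χ ∈ E by
        simp only [hEdef, mem_eset]
        exact and_congr_right fun hχ => (P.height_odd hζ C hχ).symm)),
      Nat.card_eq_finsetCard, hE4]
  · by_cases hχE : χ ∈ E
    · exact Or.inl ((P.height_odd hζ C hχ).1 (mem_eset.1 hχE).2)
    · by_cases hχC : χ ∈ Ch
      · exact Or.inr (Or.inl (hChe χ hχC).1)
      · exact Or.inr (Or.inr (hXe χ (Finset.mem_sdiff.2
          ⟨Finset.mem_sdiff.2 ⟨mem_bset.2 hχ, hχE⟩, hχC⟩)).1)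
  · rw [Nat.card_congr (Equiv.subtypeEquivRight fun χ =>
      (show χ ∈ B ∧ blockHeight 2 B (χ : G → ℂ) = 1 ↔ χ ∈ Ch from
        ⟨fun ⟨hχ, h1⟩ => by
          by_contra hn
          by_cases hχE : χ ∈ E
          · rw [(P.height_odd hζ C hχ).1 (mem_eset.1 hχE).2] at h1
            omega
          · have h5 := (hXe χ (Finset.mem_sdiff.2
              ⟨Finset.mem_sdiff.2 ⟨mem_bset.2 hχ, hχE⟩, hn⟩)).1
            rw [h1] at h5
            omega,
        fun hχ => ⟨(hChm χ hχ).1, (hChe χ hχ).1⟩⟩)),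
      Nat.card_eq_finsetCard]
    exact hc4 h4

end CfsgLib.Blocks.Tame
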