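import Cfsg.Agent.Lib.Blocks.TameBlock.Formula
import Cfsg.Agent.Lib.Blocks.KernelPairs
import Cfsg.Agent.Lib.CharTheory.Induced

/-!
# The outer elements and the test functions
-/

namespace CfsgLib.Blocks.Tame

open Cfsg CfsgLib.CharTheory
open scoped ComplexConjugate

set_option linter.unusedVariables false
set_option linter.unusedSimpArgs false
set_option linter.style.haveILetI false
set_option linter.unusedSectionVars false

universe u

variable {G : Type u} [Group G] [Fintype G] {M : Ideal AlgInt} {B : Set (IrrCharacter G)}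
  {D : Subgroup G} {e : Set (IrrCharacter (Subgroup.centralizer (D : Set G)))} {σ τ : G} {h r : ℕ}

/-- A block with a defect group of order four containing a central element has one modular
character. -/
theorem rank_one_four {H : Type u} [Group H] [Fintype H] (hM : IsPModular 2 M)
    {b : Set (IrrCharacter H)} (hb : IsPBlock M b) {u : H} (huc : u ∈ Subgroup.center H)
    (hu : ∃ k, orderOf u = 2 ^ k) (hu1 : u ≠ 1) (hd : 2 ^ blockDefect 2 b = 4) :
    blockRank 2 b = 1 := by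
  classical
  haveI : Fact (Nat.Prime 2) := ⟨Nat.prime_two⟩
  obtain ⟨D', hD'⟩ := exists_defectGroup hM hb
  obtain ⟨e', hmax⟩ := exists_maximal_at hM hb hD'
  have huD : u ∈ D' := central_mem_defect hM hb hD' huc hu
  have hcard : Nat.card D' = 4 := (card_defectGroup hM hb hD').trans hd
  refine (nilpotent_rank_one hM ⟨hb, fun Q g hQ x hxN _ hxr => ?_⟩).1
  obtain ⟨k, hk⟩ := (carries_iff_pairOf hM hmax (a := ⟨Q, g⟩)).2 hQ
  have hle : Q.map (MulAut.conj k).toMonoidHom ≤ D' :=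
    subpairLE_le (a := conjIdx k (⟨Q, g⟩ : BrauerPairIdx H)) (b := ⟨D', e'⟩) hk
  set y := k * x * k⁻¹ with hy
  set Q' := Q.map (MulAut.conj k).toMonoidHom with hQ'
  have hyQ : ∀ q ∈ Q', y * q * y⁻¹ ∈ Q' := by
    rintro _ ⟨q, hq, rfl⟩
    refine ⟨x * q * x⁻¹, (Subgroup.mem_normalizer_iff.1 hxN q).1 hq, ?_⟩
    simp only [hy, MulEquiv.coe_toMonoidHom, MulAut.conj_apply]
    group
  set W := (Finset.univ.filter fun v : H => v ∈ D' ∧ v ≠ 1 ∧ v ≠ u) with hW
  have hWc : W.card = 2 := by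
    have h1 : (Finset.univ.filter fun v : H => v ∈ D').card = 4 := by
      rw [← hcard, Nat.card_eq_fintype_card, Fintype.card_subtype]
    have h2 : W = (Finset.univ.filter fun v : H => v ∈ D') \ {1, u} := by
      ext v; simp [hW]
    rw [h2, Finset.card_sdiff_of_subset, h1, Finset.card_pair (Ne.symm hu1)]
    intro v hv
    simp only [Finset.mem_insert, Finset.mem_singleton] at hv
    rcases hv with rfl | rfl <;> simp [huD, one_mem]
  have hyu : Commute y u := Subgroup.mem_center_iff.1 huc y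
  have hfix : ∀ q ∈ Q', Commute y q := by
    intro q hq
    by_cases hq1 : q = 1
    · subst hq1; exact Commute.one_right y
    by_cases hqu : q = u
    · subst hqu; exact hyu
    have hstep : ∀ v ∈ Q', v ≠ 1 → v ≠ u →
        y * v * y⁻¹ ≠ 1 ∧ y * v * y⁻¹ ≠ u := fun v _ h1 h2 => by
      refine ⟨fun e => h1 (conj_eq_one_iff.1 e), fun e => h2 ?_⟩
      rw [mul_inv_eq_iff_eq_mul, ← hyu.eq] at e
      exact mul_left_cancel e
    obtain ⟨a1, a2⟩ := hstep q hq hq1 hqu
    obtain ⟨b1, b2⟩ := hstep _ (hyQ q hq) a1 a2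
    have m0 : q ∈ W := Finset.mem_filter.2 ⟨Finset.mem_univ _, hle hq, hq1, hqu⟩
    have m1 : y * q * y⁻¹ ∈ W := Finset.mem_filter.2 ⟨Finset.mem_univ _, hle (hyQ q hq), a1, a2⟩
    have m2 : y * (y * q * y⁻¹) * y⁻¹ ∈ W :=
      Finset.mem_filter.2 ⟨Finset.mem_univ _, hle (hyQ _ (hyQ q hq)), b1, b2⟩
    by_cases he : y * q * y⁻¹ = q
    · exact mul_inv_eq_iff_eq_mul.1 he
    refine commute_of_sq (by rw [hy, conj_orderOf]; exact hxr) ?_
    have h3 : W = {q, y * q * y⁻¹} := (Finset.eq_of_subset_of_card_le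
      (Finset.insert_subset m0 (Finset.singleton_subset_iff.2 m1))
      (by rw [hWc, Finset.card_pair (Ne.symm he)])).symm
    rw [h3, Finset.mem_insert, Finset.mem_singleton] at m2
    rcases m2 with m2 | m2
    · show y * y * q = q * (y * y)
      rw [← mul_inv_eq_iff_eq_mul]
      conv_rhs => rw [← m2]
      group
    · exact absurd (mul_left_cancel (mul_right_cancel m2)) he
  intro q hq
  exact ((Commute.conj_iff k).1 (hfix _ ⟨q, hq, rfl⟩)).eq.symm

theorem TG.oe_order (hd : TG D σ τ h r) (ε : ℕ) :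
    (∃ k, orderOf (oe σ τ ε) = 2 ^ k) ∧ oe σ τ ε ≠ 1 := by
  refine ⟨?_, fun e1 => hd.out_not ε (show σ ^ ε * τ ∈ Subgroup.zpowers σ by
    rw [show σ ^ ε * τ = 1 from e1]; exact one_mem _)⟩
  have h1 : orderOf (oe σ τ ε) ∣ 2 ^ 2 :=
    orderOf_dvd_of_pow_eq_one (by rw [show 2 ^ 2 = 4 by norm_num]; exact hd.oe_sq_sq ε)
  exact ((Nat.dvd_prime_pow Nat.prime_two).1 h1).imp fun k hk => hk.2

/-- The centralizer in `D` of an outer element has order four. -/
theorem TG.card_cent_out (hd : TG D σ τ h r) {v : G} (hv : v ∈ D)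
    (hvn : v ∉ Subgroup.zpowers σ) :
    Nat.card (D ⊓ Subgroup.centralizer ((Subgroup.zpowers v : Subgroup G) : Set G) : Subgroup G) =
      4 := by
  classical
  have h2 := hd.two_le
  obtain ⟨j, hj, rfl | rfl⟩ := hd.mem_form hv
  · exact absurd (Subgroup.npow_mem_zpowers σ j) hvn
  set v := σ ^ j * τ with hvdef
  have hz := hd.toCyc.z_ne
  have hset : ∀ d : G, d ∈ (D ⊓ Subgroup.centralizer ((Subgroup.zpowers v : Subgroup G) : Set G) :
      Subgroup G) ↔ d ∈ ({1, σ ^ h, v, σ ^ h * v} : Finset G) := by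
    intro d
    rw [Subgroup.mem_inf, isCentr_zpowers v d]
    simp only [Finset.mem_insert, Finset.mem_singleton]
    constructor
    · rintro ⟨hdD, hc⟩
      have key : ∀ i < 2 * h, Commute (σ ^ i) v → i = 0 ∨ i = h := by
        intro i hi hci
        have e := hd.conj_out j i
        rw [← hvdef, ← hci.eq, mul_inv_cancel_right, ← hd.pow_mod (r * i)] at e
        exact (hd.r_eq_iff hi).1 (hd.toCyc.pow_inj hi (Nat.mod_lt _ (by omega)) e).symm
      obtain ⟨i, hi, rfl | rfl⟩ := hd.mem_form hdD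
      · rcases key i hi hc with rfl | rfl <;> simp
      · have hin : σ ^ i * τ * v⁻¹ ∈ Subgroup.zpowers σ := by
          rw [hvdef, show σ ^ i * τ * (σ ^ j * τ)⁻¹ = σ ^ i * (σ ^ j)⁻¹ by group]
          exact Subgroup.mul_mem _ (Subgroup.npow_mem_zpowers σ i)
            (Subgroup.inv_mem _ (Subgroup.npow_mem_zpowers σ j))
        obtain ⟨k, hk⟩ := (IsOfFinOrder.mem_powers_iff_mem_zpowers (isOfFinOrder_of_finite σ)).2 hin
        simp only at hk
        rw [← hd.pow_mod] at hk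
        have hck : Commute (σ ^ (k % (2 * h))) v := by
          rw [hk]; exact hc.mul_left (Commute.refl v).inv_left
        rw [show σ ^ i * τ = σ ^ (k % (2 * h)) * v by rw [hk, inv_mul_cancel_right]]
        rcases key _ (Nat.mod_lt _ (by omega)) hck with e | e <;> rw [e] <;> simp
    · have hvz : Commute v (σ ^ h) := hd.z_central hv
      rintro (rfl | rfl | rfl | rfl)
      · exact ⟨one_mem _, Commute.one_left v⟩
      · exact ⟨hd.pow_mem' h, hvz.symm⟩
      · exact ⟨hv, Commute.refl v⟩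
      · exact ⟨D.mul_mem (hd.pow_mem' h) hv, hvz.symm.mul_left (Commute.refl v)⟩
  rw [Nat.card_eq_fintype_card, Fintype.card_of_subtype _ fun d => (hset d).symm,
    Finset.card_insert_of_notMem, Finset.card_insert_of_notMem, Finset.card_pair]
  · exact fun e => hz.1 (right_eq_mul.1 e)
  · simp only [Finset.mem_insert, Finset.mem_singleton, not_or]
    refine ⟨fun e => hvn (e ▸ Subgroup.npow_mem_zpowers σ h), fun e => ?_⟩
    have : v = 1 := left_eq_mul.1 e
    exact hvn (this ▸ one_mem _)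
  · simp only [Finset.mem_insert, Finset.mem_singleton, not_or]
    refine ⟨Ne.symm hz.1, fun e => hvn (e ▸ one_mem _), fun e => hvn ?_⟩
    rw [show v = (σ ^ h)⁻¹ from eq_inv_of_mul_eq_one_right e.symm]
    exact Subgroup.inv_mem _ (Subgroup.npow_mem_zpowers σ h)

variable [Fintype (nr σ h)] {f : Set (IrrCharacter (nr σ h))} {a : BrauerPairIdx (nr σ h)}
  {s t : nr σ h} {ψ₀ : IrrCharacter (nr σ h)} {T : IrrCharacter a.1 → IrrCharacter (nr σ h)}

/-- The local data of an outer element unfused to the cyclic part. -/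
theorem Par.out_local (P : Par M B D e σ τ h r f a s t ψ₀ T) {u : G} (hu : u ∈ D)
    (hin : ¬ Inner M D e σ u) (hu1 : u ≠ 1) :
    (∀ χ ψ : IrrCharacter G, sv M D e u χ ψ =
        cval u (bEl 2 M D e u) (χ : G → ℂ) * conj (cval u (bEl 2 M D e u) (ψ : G → ℂ))) ∧
      ∑ χ ∈ bset B, sv M D e u χ χ = 4 := by
  classical
  haveI : Fact (Nat.Prime 2) := ⟨Nat.prime_two⟩
  have hM := P.hM
  have hd : 2 ^ blockDefect 2 (bEl 2 M D e u).2 = 4 := by
    obtain ⟨h1, h2⟩ := subIdx_spec hM (a := (⟨D, e⟩ : BrauerPairIdx G)) P.hmax.1.1.1 P.hmax.1.1.2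
      (Q := Subgroup.zpowers u) (Subgroup.zpowers_le.2 hu)
    obtain ⟨x, hx, hcard⟩ := exists_conj_centP hM P.hmax h1 h2
    have hx' : Carries 2 M D e x (bEl 2 M D e u) := hx
    refine hcard.trans ?_
    have hR : ∀ R : Subgroup G, R = Subgroup.zpowers (x * u * x⁻¹) →
        Nat.card (D ⊓ Subgroup.centralizer (R : Set G) : Subgroup G) = 4 := by
      rintro R rfl
      refine P.hd.card_cent_out (carries_mem rfl hx') fun hm => hin ⟨_, hm, x, hx', rfl⟩
    exact hR _ (conjMap_zpowers x u)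
  obtain ⟨b, hb, hind, hsec⟩ := pp_secPair hM P.hmax hu
  haveI := Fintype.ofFinite (Subgroup.centralizer ((Subgroup.zpowers u : Subgroup G) : Set G))
  rw [hb] at hd
  obtain ⟨k, hk⟩ := IsPGroup.iff_orderOf.1 P.hmax.1.1.1 ⟨u, hu⟩
  rw [← Subgroup.orderOf_coe] at hk
  have hC := isCentr_zpowers u
  set u' : Subgroup.centralizer ((Subgroup.zpowers u : Subgroup G) : Set G) := ⟨u, hC.self_mem⟩
  have huc : u' ∈ Subgroup.center _ :=
    Subgroup.mem_center_iff.2 fun g => Subtype.ext ((hC g).1 g.2)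
  have hl : blockRank 2 b = 1 := rank_one_four hM hind.1 huc
    ⟨k, by rw [← Subgroup.orderOf_coe]; exact hk⟩ (fun e => hu1 (congrArg Subtype.val e)) hd
  have hsv : ∀ χ ψ : IrrCharacter G, sv M D e u χ ψ = secPair 2 u b (χ : G → ℂ) (ψ : G → ℂ) :=
    fun χ ψ => by
      rw [hsec, sv]
      simp only at hd
      rw [hd]; norm_num
  refine ⟨fun χ ψ => ?_, ?_⟩
  · rw [hsv, secPair_eq_cval hM hind.1 hl, hb]
  · rw [Finset.sum_congr rfl fun χ _ => hsv χ χ, sum_secPair_diag hM hC ⟨k, hk⟩ hind, hl,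
      Nat.cast_one, mul_one, ← Nat.cast_pow]
    simp only at hd
    rw [hd]; norm_num

/-- A linear test function with signs. -/
theorem TG.exists_lin (hd : TG D σ τ h r) (a b : ℂˣ) (ha : a * a = 1) (hb : b * b = 1) :
    ∃ η : G → ℂ, IsGeneralizedCharacter D (fun u : D => η u) ∧
      (∀ x ∈ D, ∀ u ∈ D, η (x * u * x⁻¹) = η u) ∧
      (∀ i : ℕ, η (σ ^ i) = ((a ^ i : ℂˣ) : ℂ)) ∧
      ∀ i : ℕ, η (σ ^ i * τ) = ((a ^ i * b : ℂˣ) : ℂ) := by
  classical
  have h2 := hd.two_le
  have hpar : ∀ i j : ℕ, i % 2 = j % 2 → a ^ i = a ^ j := fun i j e => by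
    rw [← Nat.mod_add_div i 2, ← Nat.mod_add_div j 2, pow_add, pow_add, pow_mul, pow_mul, sq, ha,
      one_pow, one_pow, e]
  have hinj : ∀ i j : ℕ, σ ^ i = σ ^ j → a ^ i = a ^ j := fun i j e => by
    refine hpar i j ?_
    have := pow_eq_pow_iff_modEq.1 e
    rw [hd.ord] at this
    exact Nat.ModEq.of_dvd ⟨h, rfl⟩ this
  have hex : ∀ d : D, ∃ i, ((d : G) = σ ^ i) ∨ (d : G) = σ ^ i * τ := fun d => by
    obtain ⟨i, -, e⟩ := hd.mem_form d.2
    exact ⟨i, e⟩
  choose I hI using hex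
  let L : D → ℂˣ := fun d => if (d : G) = σ ^ I d then a ^ I d else a ^ I d * b
  have hL1 : ∀ (d : D) (i : ℕ), (d : G) = σ ^ i → L d = a ^ i := by
    intro d i e
    rcases hI d with e' | e'
    · simp only [L, if_pos e']; exact hinj _ _ (e'.symm.trans e)
    · exact absurd (show σ ^ I d * τ ∈ Subgroup.zpowers σ by
        rw [← e', e]; exact Subgroup.npow_mem_zpowers σ i) (hd.out_not _)
  have hL2 : ∀ (d : D) (i : ℕ), (d : G) = σ ^ i * τ → L d = a ^ i * b := by
    intro d i e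
    have hne : (d : G) ≠ σ ^ I d := fun e' => hd.out_not i (by
      rw [← e, e']; exact Subgroup.npow_mem_zpowers σ _)
    simp only [L, if_neg hne]
    rw [hinj _ _ (mul_right_cancel (((hI d).resolve_left hne).symm.trans e))]
  have hmul : ∀ x y : D, L (x * y) = L x * L y := by
    intro x y
    obtain ⟨v, hv⟩ := hd.r_odd
    have hr : ∀ j, a ^ (r * j) = a ^ j := fun j => hpar _ _ (by
      rw [Nat.mul_mod, show r % 2 = 1 by omega, one_mul, Nat.mod_mod])
    obtain ⟨i, -, ex | ex⟩ := hd.mem_form x.2 <;> obtain ⟨j, -, ey | ey⟩ := hd.mem_form y.2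
    · rw [hL1 x i ex, hL1 y j ey, hL1 (x * y) (i + j) (by rw [Subgroup.coe_mul, ex, ey, pow_add]),
        pow_add]
    · rw [hL1 x i ex, hL2 y j ey,
        hL2 (x * y) (i + j) (by rw [Subgroup.coe_mul, ex, ey, pow_add, mul_assoc]), pow_add,
        mul_assoc]
    · rw [hL2 x i ex, hL1 y j ey, hL2 (x * y) (i + r * j) (by
        rw [Subgroup.coe_mul, ex, ey, pow_add, ← hd.conj_pow]; group), pow_add, hr, mul_right_comm]
    · have hab : a ^ h = 1 := by
        rw [hpar h 0 (by rw [hd.h_even]), pow_zero]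
      rw [hL2 x i ex, hL2 y j ey]
      rcases hd.typ with ⟨-, e2⟩ | ⟨-, e2, -⟩
      · rw [hL1 (x * y) (i + r * j + h) (by
          rw [Subgroup.coe_mul, ex, ey, pow_add _ _ h, ← e2, pow_add, ← hd.conj_pow]; group),
          pow_add, pow_add, hr, hab, mul_one, mul_mul_mul_comm, hb, mul_one]
      · rw [hL1 (x * y) (i + r * j) (by
          rw [Subgroup.coe_mul, ex, ey,
            show σ ^ i * τ * (σ ^ j * τ) = σ ^ i * (τ * σ ^ j * τ⁻¹) * (τ * τ) by group, e2,
            mul_one, pow_add, ← hd.conj_pow]),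
          pow_add, hr, mul_mul_mul_comm, hb, mul_one]
  let φ : D →* ℂˣ := MonoidHom.mk' L hmul
  haveI := Fintype.ofFinite D
  refine ⟨sext D fun d => (φ d : ℂ), ?_, fun x hx u hu => ?_, fun i => ?_, fun i => ?_⟩
  · rw [show (fun u : D => sext D (fun d => (φ d : ℂ)) (u : G)) = fun d => (φ d : ℂ) from
      funext fun u => sext_coe D _ u]
    exact isGenChar_of_char (isCharacter_of_irr (isIrrCharacter_linear φ))
  · rw [show x * u * x⁻¹ = ((⟨x, hx⟩ * ⟨u, hu⟩ * (⟨x, hx⟩ : D)⁻¹ : D) : G) from rfl, sext_coe]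
    conv_rhs => rw [show u = ((⟨u, hu⟩ : D) : G) from rfl, sext_coe]
    rw [map_mul, map_mul, map_inv, mul_inv_cancel_comm]
  · rw [show σ ^ i = ((⟨σ ^ i, hd.pow_mem' i⟩ : D) : G) from rfl, sext_coe]
    exact congrArg Units.val (hL1 _ i rfl)
  · rw [show σ ^ i * τ = ((⟨σ ^ i * τ, hd.out_mem i⟩ : D) : G) from rfl, sext_coe]
    exact congrArg Units.val (hL2 _ i rfl)

/-- The function induced from a faithful linear character of the cyclic part. -/
theorem TG.exists_ind (hd : TG D σ τ h r) {ζ : ℂ} (hζ : IsPrimitiveRoot ζ (2 * h)) :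
    ∃ η : G → ℂ, IsGeneralizedCharacter D (fun u : D => η u) ∧
      (∀ x ∈ D, ∀ u ∈ D, η (x * u * x⁻¹) = η u) ∧
      (∀ i : ℕ, η (σ ^ i) = ζ ^ i + ζ ^ (r * i)) ∧
      ∀ i : ℕ, η (σ ^ i * τ) = 0 := by
  classical
  haveI := Fintype.ofFinite D
  have h2 := hd.two_le
  set s : D := ⟨σ, hd.memσ⟩ with hs
  set R := Subgroup.zpowers s with hR
  haveI := Fintype.ofFinite R
  have hos : orderOf s = 2 * h := by rw [← Subgroup.orderOf_coe, hs, hd.ord]
  have hu : IsUnit ζ := isUnit_iff_ne_zero.2 (hζ.ne_zero (by omega))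
  have hg' : orderOf hu.unit ∣ orderOf (⟨s, Subgroup.mem_zpowers s⟩ : R) := by
    rw [Subgroup.orderOf_mk, hos]
    exact orderOf_dvd_of_pow_eq_one (Units.ext (by simp [hζ.pow_eq_one]))
  have hgen : ∀ x : R, x ∈ Subgroup.zpowers (⟨s, Subgroup.mem_zpowers s⟩ : R) := fun x => by
    obtain ⟨k, hk⟩ := x.2
    exact ⟨k, Subtype.ext (by simpa using hk)⟩
  let θ : R →* ℂˣ := monoidHomOfForallMemZpowers hgen hg'
  have hθ : ∀ i : ℕ, (θ ⟨s ^ i, Subgroup.npow_mem_zpowers s i⟩ : ℂ) = ζ ^ i := fun i => by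
    rw [show (⟨s ^ i, Subgroup.npow_mem_zpowers s i⟩ : R) =
      (⟨s, Subgroup.mem_zpowers s⟩ : R) ^ i from Subtype.ext rfl, map_pow,
      monoidHomOfForallMemZpowers_apply_gen, Units.val_pow_eq_pow_val, IsUnit.unit_spec]
  set Φ : D → ℂ := indFun R (fun x => (θ x : ℂ)) with hΦ
  have hin : ∀ i : ℕ, Φ (s ^ i) = ζ ^ i + ζ ^ (r * i) := by
    intro i
    have hcard : Nat.card R = 2 * h := by rw [hR, Nat.card_zpowers, hos]
    have e : ∀ x : D, extendByZero R (fun y => (θ y : ℂ)) (x⁻¹ * s ^ i * x) =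
        if x ∈ R then ζ ^ i else ζ ^ (r * i) := by
      intro x
      obtain ⟨j, -, ex | ex⟩ := hd.mem_form x.2
      · have hx : x = s ^ j := Subtype.ext (by simp [hs, ex])
        rw [if_pos (hx ▸ Subgroup.npow_mem_zpowers s j),
          show x⁻¹ * s ^ i * x = s ^ i by
            rw [hx, mul_assoc, ((Commute.refl s).pow_pow i j).eq, inv_mul_cancel_left]]
        exact (Subtype.val_injective.extend_apply _ _ ⟨_, Subgroup.npow_mem_zpowers s i⟩).trans (hθ i)
      · have hxn : x ∉ R := by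
          rintro ⟨k, hk⟩
          exact hd.out_not j ⟨k, by rw [← ex, ← hk]; simp [hs]⟩
        have hc : x⁻¹ * s ^ i * x = s ^ (r * i % (2 * h)) := by
          apply Subtype.ext
          simp only [Subgroup.coe_mul, Subgroup.coe_inv, SubmonoidClass.coe_pow, ex, hs]
          have e1 := hd.conj_out j (r * i % (2 * h))
          have e2 : σ ^ (r * (r * i % (2 * h))) = σ ^ i := by
            rw [← hd.pow_mod (r * _), Nat.mul_mod_mod, hd.r_sq, hd.pow_mod]
          rw [e2] at e1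
          rw [← e1]
          group
        rw [if_neg hxn, hc]
        refine (Subtype.val_injective.extend_apply _ _ ⟨_, Subgroup.npow_mem_zpowers s _⟩).trans ?_
        rw [hθ]
        exact (pow_eq_pow_mod _ hζ.pow_eq_one).symm
    rw [hΦ, indFun]
    rw [Finset.sum_congr rfl fun x _ => e x, hcard, Finset.sum_ite, Finset.sum_const,
      Finset.sum_const, nsmul_eq_mul, nsmul_eq_mul]
    have c1 : (Finset.univ.filter fun x : D => x ∈ R).card = 2 * h := by
      rw [← Fintype.card_subtype, ← Nat.card_eq_fintype_card, ← hcard]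
    have c2 : (Finset.univ.filter fun x : D => x ∉ R).card = 2 * h := by
      have := Finset.card_filter_add_card_filter_not (s := (Finset.univ : Finset D)) fun x => x ∈ R
      rw [c1, Finset.card_univ, ← Nat.card_eq_fintype_card, hd.card] at this
      omega
    rw [c1, c2]
    have : ((2 * h : ℕ) : ℂ) ≠ 0 := Nat.cast_ne_zero.2 (by omega)
    field_simp
  have hout : ∀ (i : ℕ) (hm : σ ^ i * τ ∈ D), Φ ⟨σ ^ i * τ, hm⟩ = 0 := by
    intro i hm
    haveI : R.Normal := Subgroup.normal_of_index_eq_two (by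
      have h1 := R.card_mul_index
      rw [hR, Nat.card_zpowers, hos, hd.card] at h1
      nlinarith)
    refine indFun_normal_apply_not_mem R _ ?_
    rintro ⟨k, hk⟩
    exact hd.out_not i ⟨k, by simpa [hs] using congrArg Subtype.val hk⟩
  refine ⟨sext D Φ, ?_, fun x hx u hu => ?_, fun i => ?_, fun i => ?_⟩
  · rw [show (fun u : D => sext D Φ (u : G)) = Φ from funext fun u => sext_coe D _ u]
    exact isGenChar_indFun R (isGenChar_of_char (isCharacter_of_irr (isIrrCharacter_linear θ)))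
  · rw [show x * u * x⁻¹ = ((⟨x, hx⟩ * ⟨u, hu⟩ * (⟨x, hx⟩ : D)⁻¹ : D) : G) from rfl, sext_coe]
    conv_rhs => rw [show u = ((⟨u, hu⟩ : D) : G) from rfl, sext_coe]
    exact indFun_isClassFunction R _ _ _
  · rw [show σ ^ i = ((s ^ i : D) : G) by simp [hs], sext_coe]
    exact hin i
  · rw [show σ ^ i * τ = ((⟨σ ^ i * τ, hd.out_mem i⟩ : D) : G) from rfl, sext_coe]
    exact hout i _

end CfsgLib.Blocks.Tame
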