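import Cfsg.Agent.Lib.Blocks.TameBlock.Congr

/-!
# Integrality and congruences of the contributions
-/

namespace CfsgLib.Blocks.Tame

open Cfsg CfsgLib.CharTheory
open scoped ComplexConjugate

set_option linter.unusedVariables false
set_option linter.unusedSimpArgs false
set_option linter.style.haveILetI false
set_option linter.unusedSectionVars false

universe u

variable {G : Type u} [Group G] [Fintype G] {M : Ideal AlgInt} {B : Set (IrrCharacter G)}
  {D : Subgroup G} {e : Set (IrrCharacter (Subgroup.centralizer (D : Set G)))} {σ τ : G} {h r : ℕ}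
  [Fintype (nr σ h)] {f : Set (IrrCharacter (nr σ h))} {a : BrauerPairIdx (nr σ h)}
  {s t : nr σ h} {ψ₀ : IrrCharacter (nr σ h)} {T : IrrCharacter a.1 → IrrCharacter (nr σ h)}
  {ζ : ℂ} {b : IrrCharacter G → ℕ → ℤ}

omit [Fintype (nr σ h)] in
theorem TG.sd_orders (hd : TG D σ τ h r) (hr : r = h - 1) (ht : τ * τ = 1) :
    oe σ τ 0 * oe σ τ 0 = 1 ∧ oe σ τ 1 * oe σ τ 1 = σ ^ h := by
  have h2 := hd.two_le
  constructor
  · show σ ^ 0 * τ * (σ ^ 0 * τ) = 1
    rw [pow_zero, one_mul, ht]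
  · show σ ^ 1 * τ * (σ ^ 1 * τ) = _
    rw [hd.out_sq, ht, mul_one, mul_one, hr, show 1 + (h - 1) = h by omega]

/-- The contributions at the unfused outer classes are integers of known parity. -/
theorem Par.sv_int (P : Par M B D e σ τ h r f a s t ψ₀ T) (hζ : IsPrimitiveRoot ζ (2 * h))
    (C : Cf h r ζ s a T b) {x : ℕ} (hx : x ∈ uset M D e σ τ) {χ ψ : IrrCharacter G} (hχ : χ ∈ B)
    (hψ : ψ ∈ B) :
    ∃ m : ℤ, sv M D e (oe σ τ x) χ ψ = (m : ℂ) ∧ (2 : ℤ) ∣ m - b χ 0 * b ψ 0 := by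
  classical
  have hd := P.hd
  have hM := P.hM
  have hm := P.hmax
  have h2 := hd.two_le
  obtain ⟨hx2, hxi⟩ := mem_uset.1 hx
  set B' : ℂˣ := if x = 0 then -1 else 1 with hB'
  obtain ⟨η, hgen, hcl, hin, hout⟩ := hd.exists_lin (-1) B' (by simp)
    (by rw [hB']; split_ifs <;> simp)
  have hval : ∀ y < 2, (1 : ℂ) - η (oe σ τ y) = if y = x then 2 else 0 := by
    intro y hy
    rw [hout, hB']
    interval_cases y <;> interval_cases x <;> norm_num
  have hi : ∀ i, η (σ ^ i) = (-1) ^ i := fun i => by rw [hin]; simp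
  have hev : (-1 : ℂ) ^ h = 1 := by rw [neg_one_pow_eq_pow_mod_two, hd.h_even, pow_zero]
  have hgen' : IsGeneralizedCharacter D fun u : D => (1 : ℂ) - η u := by
    haveI := Fintype.ofFinite D
    exact isGenChar_sub (isGenChar_of_char (isCharacter_of_irr (isIrrCharacter_one (G := D)))) hgen
  have hinner : ∀ ε, ∀ v ∈ Subgroup.zpowers σ, Fus 2 M D e (oe σ τ ε) v →
      Inner M D e σ (oe σ τ ε) := fun ε v hv hf => ⟨v, hv, hf⟩
  have hst : IsStableFun 2 M D e fun u => (1 : ℂ) - η u := by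
    refine P.stable (fun x hx u hu => by rw [hcl x hx u hu]) (fun ε hε hf => ?_)
      (fun ε hε hf => ?_) (fun hf => ?_)
    · have hεi := hinner ε _ (Subgroup.npow_mem_zpowers σ _) hf
      have hne : ε ≠ x := fun e => hxi (e ▸ hεi)
      have hh4 : h ≠ 2 := fun e => hxi (hd.eight hM hm e hε hx2 hne hεi)
      obtain ⟨q, hq⟩ : 4 ∣ h := by
        obtain ⟨k, hk⟩ := hd.toCyc.hpow
        rcases k with _ | k
        · exact absurd (by simpa using hk) hh4
        · exact ⟨2 ^ k, by rw [hk]; ring⟩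
      rw [hval ε hε, if_neg hne, show rho σ h = σ ^ (h / 2) from rfl, hi,
        show h / 2 = 2 * q by omega, pow_mul, neg_one_sq, one_pow, sub_self]
    · have hne : ε ≠ x := fun e => hxi (e ▸ hinner ε _ (Subgroup.npow_mem_zpowers σ _) hf)
      rw [hval ε hε, if_neg hne, hi, hev, sub_self]
    · exfalso
      have hboth : ¬ Inner M D e σ (oe σ τ 0) ∧ ¬ Inner M D e σ (oe σ τ 1) := by
        interval_cases x
        · exact ⟨hxi, fun h1 => hxi (h1.of_fus hM hm hf)⟩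
        · exact ⟨fun h0 => hxi (h0.of_fus hM hm (fus_symm hM hm (hd.out_mem 0) hf)), hxi⟩
      exact hd.no_pair hM hm hboth.1 hboth.2 hf
  obtain ⟨n, hn⟩ := P.star_int hst hgen' χ ψ
  have h3 := P.formula (hd.cover hM hm) hst hχ hψ
  rw [hn] at h3
  have e0 : η 1 = 1 := by simpa using hi 0
  obtain ⟨c, hc⟩ := C.sum_odd hζ hd χ ψ
  have hmid : ∑ i ∈ gset h, (1 - η (σ ^ i)) * (lam a T χ (s ^ i) * conj (lam a T ψ (s ^ i))) =
      2 * ((h : ℂ) * ((b χ 0 * b ψ 0 + 2 * c : ℤ) : ℂ)) := by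
    rw [← hc, Finset.mul_sum]
    refine Finset.sum_congr rfl fun i _ => ?_
    rw [hi]; ring
  have hlast : ∑ y ∈ uset M D e σ τ, (1 - η (oe σ τ y)) * ((h : ℂ) * sv M D e (oe σ τ y) χ ψ) =
      2 * ((h : ℂ) * sv M D e (oe σ τ x) χ ψ) := by
    rw [Finset.sum_eq_single x (fun y hy hne => by
      rw [hval y (mem_uset.1 hy).1, if_neg hne, zero_mul]) (fun hn => absurd hx hn),
      hval x hx2, if_pos rfl]
  rw [e0, hi, hev, hmid, hlast] at h3
  refine ⟨2 * n - (b χ 0 * b ψ 0 + 2 * c), ?_, ⟨n - b χ 0 * b ψ 0 - c, by ring⟩⟩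
  have hh : (h : ℂ) ≠ 0 := Nat.cast_ne_zero.2 (by omega)
  refine mul_left_cancel₀ hh ?_
  push_cast at h3 ⊢
  linear_combination -(1 / 2 : ℂ) * h3

/-- The contribution at an unfused outer class, as an integer. -/
noncomputable def svz (M : Ideal AlgInt) (D : Subgroup G)
    (e : Set (IrrCharacter (Subgroup.centralizer (D : Set G)))) (u : G)
    (χ ψ : IrrCharacter G) : ℤ :=
  Classical.epsilon fun m : ℤ => sv M D e u χ ψ = (m : ℂ)

theorem Par.svz_spec (P : Par M B D e σ τ h r f a s t ψ₀ T) (hζ : IsPrimitiveRoot ζ (2 * h))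
    (C : Cf h r ζ s a T b) {x : ℕ} (hx : x ∈ uset M D e σ τ) {χ ψ : IrrCharacter G} (hχ : χ ∈ B)
    (hψ : ψ ∈ B) :
    sv M D e (oe σ τ x) χ ψ = (svz M D e (oe σ τ x) χ ψ : ℂ) ∧
      (2 : ℤ) ∣ svz M D e (oe σ τ x) χ ψ - b χ 0 * b ψ 0 := by
  obtain ⟨m, hm, h2⟩ := P.sv_int hζ C hx hχ hψ
  have he := Classical.epsilon_spec (p := fun m : ℤ => sv M D e (oe σ τ x) χ ψ = (m : ℂ)) ⟨m, hm⟩
  refine ⟨he, ?_⟩
  have : svz M D e (oe σ τ x) χ ψ = m := by exact_mod_cast he.symm.trans hm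
  rwa [this]

/-- The contribution at the involution, as an integer. -/
noncomputable def qzz (M : Ideal AlgInt) (B : Set (IrrCharacter G)) (D : Subgroup G)
    (e : Set (IrrCharacter (Subgroup.centralizer (D : Set G)))) (σ τ : G) (h : ℕ)
    (b : IrrCharacter G → ℕ → ℤ) (χ ψ : IrrCharacter G) : ℤ :=
  open Classical in (if χ = ψ then (4 * h : ℕ) else 0) - q1 B χ ψ - TT h b χ ψ -
    ∑ x ∈ uset M D e σ τ, (h : ℤ) * svz M D e (oe σ τ x) χ ψ

theorem Par.qzz_spec (P : Par M B D e σ τ h r f a s t ψ₀ T) (hζ : IsPrimitiveRoot ζ (2 * h))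
    (C : Cf h r ζ s a T b) {χ ψ : IrrCharacter G} (hχ : χ ∈ B) (hψ : ψ ∈ B) :
    qz M D e σ h χ ψ = (qzz M B D e σ τ h b χ ψ : ℂ) := by
  classical
  have h1 := P.formula_one (P.hd.cover P.hM P.hmax) hχ hψ
  rw [C.sum_good hζ (by have := P.hd.two_le; omega),
    Finset.sum_congr rfl fun x hx => by rw [(P.svz_spec hζ C hx hχ hψ).1]] at h1
  rw [qzz]
  split_ifs at h1 ⊢ <;> push_cast at h1 ⊢ <;> linear_combination h1

omit [Fintype (nr σ h)] in
/-- The parity needed of the outer classes. -/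
theorem TG.uset_even (hd : TG D σ τ h r) (hM : IsPModular 2 M)
    (hmax : IsMaximalBrauerPair 2 M B D e) (h2 : h = 2) : 2 ∣ (uset M D e σ τ).card := by
  classical
  by_cases h0 : Inner M D e σ (oe σ τ 0)
  · have : uset M D e σ τ = ∅ := Finset.filter_eq_empty_iff.2 fun x hx hn => hn (by
      have hx' := Finset.mem_range.1 hx
      interval_cases x
      · exact h0
      · exact hd.eight hM hmax h2 two_pos one_lt_two zero_ne_one h0)
    rw [this]
    exact dvd_zero 2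
  · have : uset M D e σ τ = Finset.range 2 := Finset.filter_true_of_mem fun x hx hi => h0 (by
      have hx' := Finset.mem_range.1 hx
      interval_cases x
      · exact hi
      · exact hd.eight hM hmax h2 one_lt_two two_pos one_ne_zero hi)
    rw [this]
    simp

/-- The basic congruence of the contributions at the identity. -/
theorem Par.q1_congr (P : Par M B D e σ τ h r f a s t ψ₀ T) (hζ : IsPrimitiveRoot ζ (2 * h))
    (C : Cf h r ζ s a T b) {χ ψ : IrrCharacter G} (hχ : χ ∈ B) (hψ : ψ ∈ B) :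
    ∃ E : ℤ, (2 * h : ℤ) ∣ 2 * q1 B χ ψ - 2 * (Pv h b χ * Pv h b ψ) + h * E ∧
      ((2 : ℤ) ∣ b χ 0 * b ψ 0 → (2 : ℤ) ∣ E) ∧ (h = 2 → (2 : ℤ) ∣ E) := by
  classical
  have hd := P.hd
  have hM := P.hM
  have hm := P.hmax
  have h2 := hd.two_le
  have h0 : 0 < h := by omega
  have hT := hd.cover hM hm
  set S : ℕ → ℤ := fun x => svz M D e (oe σ τ x) χ ψ with hS
  have hSsv : ∀ x ∈ uset M D e σ τ, sv M D e (oe σ τ x) χ ψ = (S x : ℂ) := fun x hx =>
    (P.svz_spec hζ C hx hχ hψ).1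
  have hSpar : ∀ x ∈ uset M D e σ τ, (2 : ℤ) ∣ S x - b χ 0 * b ψ 0 := fun x hx =>
    (P.svz_spec hζ C hx hχ hψ).2
  set W : ℤ := ∑ x ∈ uset M D e σ τ, S x with hW
  have hone := P.formula_one hT hχ hψ
  rw [C.sum_good hζ h0, Finset.sum_congr rfl fun x hx => by rw [hSsv x hx], ← Finset.mul_sum,
    ← Int.cast_sum, ← hW] at hone
  set Sb : ℤ := ∑ j ∈ Finset.range (2 * h), b χ j * b ψ j with hSb
  set C1 : ℤ := ∑ j ∈ Finset.range (2 * h), b χ j * b ψ ((j + 1) % (2 * h)) with hC1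
  obtain ⟨η, hgen, hcl, hin, hout⟩ := hd.exists_ind hζ
  have hh : ζ ^ h = -1 :=
    IsPrimitiveRoot.eq_neg_one_of_two_right (hζ.pow (by omega) (mul_comm 2 h))
  obtain ⟨hr1, hr2⟩ := hd.r_lt
  obtain ⟨v, hv⟩ := hd.r_odd
  have hcr : ∑ j ∈ Finset.range (2 * h), b χ j * b ψ ((j + r) % (2 * h)) = C1 := by
    rw [hC1]
    refine Finset.sum_bij' (fun j _ => r * j % (2 * h)) (fun j _ => r * j % (2 * h))
      (fun j _ => Finset.mem_range.2 (Nat.mod_lt _ (by omega)))
      (fun j _ => Finset.mem_range.2 (Nat.mod_lt _ (by omega)))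
      (fun j hj => hd.r_inv (Finset.mem_range.1 hj)) (fun j hj => hd.r_inv (Finset.mem_range.1 hj))
      fun j hj => ?_
    rw [C.sym χ j (Finset.mem_range.1 hj)]
    congr 1
    have e := C.sym ψ ((j + r) % (2 * h)) (Nat.mod_lt _ (by omega))
    rw [← e]
    congr 1
    rw [Nat.mul_mod_mod, mul_add, Nat.add_mod (r * j) (r * r), show r * r % (2 * h) = 1 by
      have := hd.r_sq 1
      rwa [mul_one, Nat.mod_eq_of_lt (show 1 < 2 * h by omega)] at this]
  have hi : ∀ i, η (σ ^ i) = (ζ ^ 1) ^ i + (ζ ^ r) ^ i := fun i => by rw [hin, pow_one, ← pow_mul]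
  have e1 : η 1 = 2 := by
    rw [← pow_zero σ, hi 0]; norm_num
  have eh : η (σ ^ h) = -2 := by
    rw [hi, pow_one, ← pow_mul, mul_comm r h, pow_mul, hh, hv, pow_succ, pow_mul, neg_one_sq,
      one_pow]
    norm_num
  have eρ : η (rho σ h) = 0 := by
    rw [show rho σ h = σ ^ (h / 2) from rfl, hi, pow_one, ← pow_mul, hv,
      show (2 * v + 1) * (h / 2) = h * v + h / 2 by
        obtain ⟨q, hq, -⟩ := hd.half
        rw [hq, Nat.mul_div_cancel_left _ two_pos]; ring,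
      pow_add, pow_mul, hh]
    rcases hd.typ with ⟨hr, -⟩ | ⟨hr, -, h4⟩
    · rw [Odd.neg_one_pow (show Odd v by
        obtain ⟨q, hq, hq0⟩ := hd.half
        exact ⟨q * 2 - 1 - q, by omega⟩)]
      ring
    · rw [Odd.neg_one_pow (show Odd v by
        obtain ⟨q, hq⟩ := h4
        exact ⟨q - 1, by omega⟩)]
      ring
  have hsum : ∀ (x : ℕ), x < 2 * h → x % 2 = 1 →
      ∑ i ∈ gset h, (ζ ^ x) ^ i * (lam a T χ (s ^ i) * conj (lam a T ψ (s ^ i))) =
        ((2 * h : ℕ) : ℂ) * ((∑ j ∈ Finset.range (2 * h),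
          b χ j * b ψ ((j + x) % (2 * h)) : ℤ) : ℂ) -
        (Pv h b χ : ℂ) * Pv h b ψ + (Nv h b χ : ℂ) * Nv h b ψ := fun x hx hxo => by
    rw [C.parseval hζ h0 χ ψ hx, show (-1 : ℂ) ^ x = -1 by
      rw [neg_one_pow_eq_pow_mod_two, hxo, pow_one]]
    ring
  have hmid : ∑ i ∈ gset h, η (σ ^ i) * (lam a T χ (s ^ i) * conj (lam a T ψ (s ^ i))) =
      ((4 * h * C1 - 2 * (Pv h b χ * Pv h b ψ) + 2 * (Nv h b χ * Nv h b ψ) : ℤ) : ℂ) := by
    rw [Finset.sum_congr rfl fun i _ => by rw [hi, add_mul], Finset.sum_add_distrib,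
      hsum 1 (by omega) rfl, hsum r hr1 (by omega), hcr, ← hC1]
    push_cast
    ring
  rcases hd.typ with ⟨hr, ht⟩ | ⟨hr, ht, h4⟩
  · have hord : ∀ ε, orderOf (oe σ τ ε) ≠ orderOf (σ ^ h) := fun ε he => by
      have hoz : orderOf (σ ^ h) = 2 :=
        orderOf_eq_prime (by rw [sq]; exact hd.toCyc.z_ne.2) hd.toCyc.z_ne.1
      have e2 : oe σ τ ε * oe σ τ ε = 1 := by
        rw [← sq, ← hoz, ← he]; exact pow_orderOf_eq_one _
      have e3 : oe σ τ ε * oe σ τ ε = σ ^ h := by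
        show σ ^ ε * τ * (σ ^ ε * τ) = _
        rw [hd.out_sq, ht, ← pow_add, ← hd.pow_mod, hr]
        obtain ⟨q, hq, hq0⟩ := hd.half
        rw [show ε + (2 * h - 1) * ε = 2 * h * ε by
          obtain ⟨w, hw⟩ : ∃ w, 2 * h = w + 1 := ⟨2 * h - 1, by omega⟩
          rw [hw, Nat.add_sub_cancel]; ring, Nat.mul_add_mod, Nat.mod_eq_of_lt (by omega)]
      exact hd.toCyc.z_ne.1 (e3.symm.trans e2)
    have hst : IsStableFun 2 M D e η := by
      refine P.stable hcl (fun ε hε hf => ?_) (fun ε hε hf => absurd (fus_order hf).symm (hord ε))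
        (fun _ => ?_)
      · rw [hout, eρ]
      · rw [hout, hout]
    obtain ⟨n, hn⟩ := P.star_int hst hgen χ ψ
    have h3 := P.formula hT hst hχ hψ
    rw [hn, e1, eh, hmid, Finset.sum_eq_zero fun x _ => by rw [hout, zero_mul]] at h3
    refine ⟨W, ⟨n + (if χ = ψ then 2 else 0) - C1 - Sb, ?_⟩, fun he => ?_, fun hh2 => ?_⟩
    · apply Int.cast_injective (α := ℂ)
      rw [TT] at hone
      rw [← hSb] at hone
      split_ifs at hone ⊢ <;> push_cast at hone h3 ⊢ <;>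
        linear_combination -(1 / 2 : ℂ) * h3 + hone
    · rw [hW]
      refine Finset.dvd_sum fun x hx => ?_
      have := hSpar x hx
      omega
    · have hp : (2 : ℤ) ∣ W - (uset M D e σ τ).card * (b χ 0 * b ψ 0) := by
        rw [hW, Finset.cast_card, Finset.sum_mul, ← Finset.sum_sub_distrib]
        exact Finset.dvd_sum fun x hx => by rw [one_mul]; exact hSpar x hx
      have hc : (2 : ℤ) ∣ ((uset M D e σ τ).card : ℤ) := by
        exact_mod_cast hd.uset_even hM hm hh2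
      have := hc.mul_right (b χ 0 * b ψ 0)
      omega
  · obtain ⟨hy, hw⟩ := hd.sd_orders hr ht
    obtain ⟨η', hgen', hcl', hin', hout'⟩ := hd.exists_lin (-1) (-1) (by simp) (by simp)
    have hi' : ∀ i, η' (σ ^ i) = (-1) ^ i := fun i => by rw [hin']; simp
    set F : G → ℂ := fun u => η u + η' u - 1 with hF
    have hF0 : F (oe σ τ 0) = -2 := by
      simp only [hF, hout, hout']; norm_num
    have hF1 : F (oe σ τ 1) = 0 := by
      simp only [hF, hout, hout']; norm_num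
    have hgF : IsGeneralizedCharacter D fun u : D => F u := by
      haveI := Fintype.ofFinite D
      exact isGenChar_sub (isGenChar_add hgen hgen')
        (isGenChar_of_char (isCharacter_of_irr (isIrrCharacter_one (G := D))))
    have hev : (-1 : ℂ) ^ h = 1 := by rw [neg_one_pow_eq_pow_mod_two, hd.h_even, pow_zero]
    have hFh : F (σ ^ h) = -2 := by
      simp only [hF, eh, hi', hev]; norm_num
    have hFρ : F (rho σ h) = 0 := by
      obtain ⟨q, hq⟩ := h4
      simp only [hF, eρ]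
      rw [show rho σ h = σ ^ (h / 2) from rfl, hi', show h / 2 = 2 * q by omega, pow_mul,
        neg_one_sq, one_pow]
      norm_num
    have hne : σ ^ h ≠ 1 := hd.toCyc.z_ne.1
    have hst : IsStableFun 2 M D e F := by
      refine P.stable (fun x hx u hu => by simp only [hF, hcl x hx u hu, hcl' x hx u hu])
        (fun ε hε hf => ?_) (fun ε hε hf => ?_) (fun hf => ?_)
      · interval_cases ε
        · exfalso
          have ho : orderOf (oe σ τ 0) ∣ 2 := orderOf_dvd_of_pow_eq_one (by rw [sq, hy])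
          rw [← fus_order hf, hd.rho_order] at ho
          norm_num at ho
        · rw [hF1, hFρ]
      · interval_cases ε
        · rw [hF0, hFh]
        · exfalso
          have ho := fus_order hf
          have : oe σ τ 1 ^ 2 = 1 := orderOf_dvd_iff_pow_eq_one.1 (ho ▸
            orderOf_dvd_of_pow_eq_one (by rw [sq]; exact hd.toCyc.z_ne.2))
          rw [sq, hw] at this
          exact hne this
      · exfalso
        have ho := fus_order hf
        have : oe σ τ 1 ^ 2 = 1 := orderOf_dvd_iff_pow_eq_one.1 (ho ▸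
          orderOf_dvd_of_pow_eq_one (by rw [sq, hy]))
        rw [sq, hw] at this
        exact hne this
    obtain ⟨n, hn⟩ := P.star_int hst hgF χ ψ
    have h3 := P.formula hT hst hχ hψ
    obtain ⟨c, hc⟩ := C.sum_odd hζ hd χ ψ
    have hmid' : ∑ i ∈ gset h, F (σ ^ i) * (lam a T χ (s ^ i) * conj (lam a T ψ (s ^ i))) =
        ((4 * h * C1 - 2 * (Pv h b χ * Pv h b ψ) + 2 * (Nv h b χ * Nv h b ψ) -
          2 * (h * (b χ 0 * b ψ 0 + 2 * c)) : ℤ) : ℂ) := by
      rw [Int.cast_sub, ← hmid]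
      have e2 : ((2 * (h * (b χ 0 * b ψ 0 + 2 * c)) : ℤ) : ℂ) =
          2 * ∑ i ∈ gset h, ((1 - (-1) ^ i : ℂ) / 2) *
            (lam a T χ (s ^ i) * conj (lam a T ψ (s ^ i))) := by
        rw [hc]; push_cast; ring
      rw [e2, Finset.mul_sum, ← Finset.sum_sub_distrib]
      refine Finset.sum_congr rfl fun i _ => ?_
      simp only [hF, hi']
      ring
    set W0 : ℤ := ∑ x ∈ uset M D e σ τ, if x = 0 then S x else 0 with hW0
    have hlast : ∑ x ∈ uset M D e σ τ, F (oe σ τ x) * ((h : ℂ) * sv M D e (oe σ τ x) χ ψ) =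
        ((-2 * (h * W0) : ℤ) : ℂ) := by
      rw [hW0, Finset.mul_sum, Finset.mul_sum, Int.cast_sum]
      refine Finset.sum_congr rfl fun x hx => ?_
      rw [hSsv x hx]
      have := (mem_uset.1 hx).1
      interval_cases x
      · rw [hF0, if_pos rfl]; push_cast; ring
      · rw [hF1, if_neg one_ne_zero]; push_cast; ring
    have hF1' : F 1 = 2 := by
      have := hi' 0
      rw [pow_zero, pow_zero] at this
      simp only [hF, e1, this]; norm_num
    rw [hn, hF1', hFh, hmid', hlast] at h3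
    refine ⟨W - W0 - (b χ 0 * b ψ 0 + 2 * c), ⟨n + (if χ = ψ then 2 else 0) - C1 - Sb, ?_⟩,
      fun he => ?_, fun hh2 => ?_⟩
    · apply Int.cast_injective (α := ℂ)
      rw [TT] at hone
      rw [← hSb] at hone
      split_ifs at hone ⊢ <;> push_cast at hone h3 ⊢ <;>
        linear_combination -(1 / 2 : ℂ) * h3 + hone
    · have a1 : (2 : ℤ) ∣ W := Finset.dvd_sum fun x hx => by
        have := hSpar x hx
        omega
      have a2 : (2 : ℤ) ∣ W0 := Finset.dvd_sum fun x hx => by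
        have := hSpar x hx
        split_ifs <;> omega
      omega
    · exfalso
      omega

theorem Par.q1_mod_two (P : Par M B D e σ τ h r f a s t ψ₀ T) (hζ : IsPrimitiveRoot ζ (2 * h))
    (C : Cf h r ζ s a T b) {χ ψ : IrrCharacter G} (hχ : χ ∈ B) (hψ : ψ ∈ B) :
    (2 : ℤ) ∣ q1 B χ ψ - b χ 0 * b ψ 0 := by
  obtain ⟨E, ⟨w, hw⟩, -, hE⟩ := P.q1_congr hζ C hχ hψ
  obtain ⟨u1, hu1⟩ := C.parity P.hd χ
  obtain ⟨u2, hu2⟩ := C.parity P.hd ψ
  have hP : Pv h b χ * Pv h b ψ - b χ 0 * b ψ 0 = 2 * (u1 * b ψ 0 + u2 * Pv h b χ) := by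
    rw [show Pv h b ψ = b ψ 0 + 2 * u2 by linarith, show Pv h b χ = b χ 0 + 2 * u1 by linarith]
    ring
  obtain ⟨k, hk⟩ := P.hd.toCyc.hpow
  rcases k with _ | k
  · obtain ⟨e', he'⟩ := hE (by simpa using hk)
    simp only [zero_add, pow_one] at hk
    subst hk
    subst he'
    push_cast at hw
    omega
  · have hkey : (4 : ℤ) ∣ 2 * q1 B χ ψ - 2 * (Pv h b χ * Pv h b ψ) :=
      ⟨2 ^ k * (2 * w - E), by
        rw [show (h : ℤ) = 4 * 2 ^ k by rw [hk]; push_cast; ring] at hw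
        linear_combination hw⟩
    omega

theorem Par.q1_mod_h (P : Par M B D e σ τ h r f a s t ψ₀ T) (hζ : IsPrimitiveRoot ζ (2 * h))
    (C : Cf h r ζ s a T b) {χ ψ : IrrCharacter G} (hχ : χ ∈ B) (hψ : ψ ∈ B)
    (he : (2 : ℤ) ∣ b χ 0 * b ψ 0) :
    (h : ℤ) ∣ q1 B χ ψ - Pv h b χ * Pv h b ψ := by
  obtain ⟨E, ⟨w, hw⟩, hE, -⟩ := P.q1_congr hζ C hχ hψ
  obtain ⟨e', rfl⟩ := hE he
  exact ⟨w - e', by linarith⟩

end CfsgLib.Blocks.Tame
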