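import Cfsg.Agent.Lib.Blocks.Star.Nilpotent
import Cfsg.Agent.Lib.CharTheory.Coherence

/-!
# Inner products of star functions along the fusion classes of a defect group
-/

namespace CfsgLib.Blocks.Tame

open Cfsg CfsgLib.CharTheory
open scoped ComplexConjugate

set_option linter.unusedVariables false
set_option linter.unusedSimpArgs false
set_option linter.style.haveILetI false
set_option linter.unusedSectionVars false

universe u

variable {p : ℕ} {M : Ideal AlgInt} {G : Type u} [Group G] [Fintype G]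
  {B : Set (IrrCharacter G)} {P : Subgroup G}
  {e : Set (IrrCharacter (Subgroup.centralizer (P : Set G)))}

/-- Fusion of elements by their pairs below `(P, e)`. -/
def Fus (p : ℕ) (M : Ideal AlgInt) (P : Subgroup G)
    (e : Set (IrrCharacter (Subgroup.centralizer (P : Set G)))) (u v : G) : Prop :=
  ∃ g, Carries p M P e g (bEl p M P e u) ∧ g * u * g⁻¹ = v

theorem fus_refl (hM : IsPModular p M) (hmax : IsMaximalBrauerPair p M B P e) {u : G}
    (hu : u ∈ P) : Fus p M P e u u :=
  ⟨1, (bEl_spec hM hmax hu).2.1, by group⟩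

theorem fus_mem {u v : G} (h : Fus p M P e u v) : v ∈ P := by
  obtain ⟨g, hg, rfl⟩ := h
  exact carries_mem rfl hg

theorem fus_bEl (hM : IsPModular p M) (hmax : IsMaximalBrauerPair p M B P e) {u g : G}
    (hg : Carries p M P e g (bEl p M P e u)) :
    bEl p M P e (g * u * g⁻¹) = conjIdx g (bEl p M P e u) :=
  bEl_unique hM hmax rfl hg

theorem fus_symm (hM : IsPModular p M) (hmax : IsMaximalBrauerPair p M B P e) {u v : G}
    (hu : u ∈ P) (h : Fus p M P e u v) : Fus p M P e v u := by
  obtain ⟨g, hg, rfl⟩ := h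
  refine ⟨g⁻¹, ?_, by group⟩
  rw [fus_bEl hM hmax hg, carries_conj, inv_mul_cancel]
  exact (bEl_spec hM hmax hu).2.1

theorem fus_trans (hM : IsPModular p M) (hmax : IsMaximalBrauerPair p M B P e) {u v w : G}
    (h : Fus p M P e u v) (h' : Fus p M P e v w) : Fus p M P e u w := by
  obtain ⟨g, hg, rfl⟩ := h
  obtain ⟨g', hg', rfl⟩ := h'
  refine ⟨g' * g, ?_, by group⟩
  rwa [fus_bEl hM hmax hg, carries_conj] at hg'

theorem fus_inner (hM : IsPModular p M) (hmax : IsMaximalBrauerPair p M B P e) {u x : G}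
    (hu : u ∈ P) (hx : x ∈ P) : Fus p M P e u (x * u * x⁻¹) := by
  refine ⟨x, ?_, rfl⟩
  have := carries_mul_left hM hx (bEl_spec hM hmax hu).2.1
  rwa [mul_one] at this

/-- A function constant on the fusion classes is stable. -/
theorem stable_of_fus (hM : IsPModular p M) (hmax : IsMaximalBrauerPair p M B P e) {η : G → ℂ}
    (h : ∀ u v, u ∈ P → Fus p M P e u v → η v = η u) : IsStableFun p M P e η := by
  intro g x a h1 ha hg
  have hx : x ∈ P := by
    have := carries_mem h1 ha
    rwa [one_mul, inv_one, mul_one] at this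
  have hb : bEl p M P e x = a := by
    have := bEl_unique hM hmax h1 ha
    rwa [one_mul, inv_one, mul_one, conjIdx_one] at this
  exact h x _ hx ⟨g, hb ▸ hg, rfl⟩

/-- The pairing at the pair of an element, divided by the order of the centralizer. -/
noncomputable def pp (p : ℕ) (M : Ideal AlgInt) (P : Subgroup G)
    (e : Set (IrrCharacter (Subgroup.centralizer (P : Set G)))) (u : G) (χ ψ : IrrCharacter G) :
    ℂ :=
  pairT p (bEl p M P e u) u (χ : G → ℂ) (ψ : G → ℂ) *
    (Nat.card (Subgroup.centralizer ((Subgroup.zpowers u : Subgroup G) : Set G)) : ℂ)⁻¹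

theorem pp_fus (hM : IsPModular p M) (hmax : IsMaximalBrauerPair p M B P e) {u v : G}
    (h : Fus p M P e u v) (χ ψ : IrrCharacter G) : pp p M P e v χ ψ = pp p M P e u χ ψ := by
  obtain ⟨g, hg, rfl⟩ := h
  rw [pp, pp, fus_bEl hM hmax hg, pairT_conj (irr_isClassFun χ) (irr_isClassFun ψ),
    card_cent_conj]

open Classical in
/-- The members of a finite set fused to `u`. -/
noncomputable def fset (p : ℕ) (M : Ideal AlgInt) (P : Subgroup G)
    (e : Set (IrrCharacter (Subgroup.centralizer (P : Set G)))) (S : Finset G) (u : G) :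
    Finset G :=
  S.filter fun v => Fus p M P e u v

theorem fset_fus (hM : IsPModular p M) (hmax : IsMaximalBrauerPair p M B P e) (S : Finset G)
    {u v : G} (hu : u ∈ P) (h : Fus p M P e u v) : fset p M P e S v = fset p M P e S u := by
  classical
  ext w
  simp only [fset, Finset.mem_filter]
  exact and_congr_right fun _ =>
    ⟨fus_trans hM hmax h, fus_trans hM hmax (fus_symm hM hmax hu h)⟩

theorem card_witSet_fus (hM : IsPModular p M) (hmax : IsMaximalBrauerPair p M B P e) {u : G}
    (hu : u ∈ P) : (witSet p M P e (bEl p M P e u)).card =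
      (fset p M P e Finset.univ u).card *
        Nat.card (Subgroup.centralizer ((Subgroup.zpowers u : Subgroup G) : Set G)) := by
  classical
  rw [Finset.card_eq_sum_card_fiberwise (f := fun g => g * u * g⁻¹)
    (t := fset p M P e Finset.univ u) fun g hg => Finset.mem_filter.2
      ⟨Finset.mem_univ _, g, mem_witSet.1 hg, rfl⟩]
  refine Finset.sum_const_nat fun v hv => ?_
  obtain ⟨g₀, hg₀, rfl⟩ := (Finset.mem_filter.1 hv).2
  rw [← Nat.card_eq_finsetCard]
  refine Nat.card_congr
    { toFun := fun g => ⟨g₀⁻¹ * g.1, (isCentr_zpowers u _).2 ?_⟩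
      invFun := fun c => ⟨g₀ * c.1, Finset.mem_filter.2 ⟨?_, ?_⟩⟩
      left_inv := fun g => Subtype.ext (by simp)
      right_inv := fun c => Subtype.ext (by simp) }
  · have h := (Finset.mem_filter.1 g.2).2
    show g₀⁻¹ * g.1 * u = u * (g₀⁻¹ * g.1)
    calc g₀⁻¹ * g.1 * u = g₀⁻¹ * (g.1 * u * g.1⁻¹) * g.1 := by group
      _ = g₀⁻¹ * (g₀ * u * g₀⁻¹) * g.1 := by rw [h]
      _ = u * (g₀⁻¹ * g.1) := by group
  · exact mem_witSet.2 (carries_mul_cent c.2 hg₀)
  · have h := ((isCentr_zpowers u c.1).1 c.2).eq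
    calc g₀ * c.1 * u * (g₀ * c.1)⁻¹ = g₀ * (c.1 * u) * c.1⁻¹ * g₀⁻¹ := by group
      _ = g₀ * u * g₀⁻¹ := by rw [h]; group

/-- The inner product of a star function with a member of the block, summed along any set meeting
every fusion class. -/
theorem classInner_star [Fintype P] (hM : IsPModular p M) (hmax : IsMaximalBrauerPair p M B P e)
    {η : G → ℂ} (hη : IsStableFun p M P e η) {χ ψ : IrrCharacter G} (hχ : χ ∈ B) (hψ : ψ ∈ B)
    {S : Finset G} (hS : ∀ v ∈ S, v ∈ P) (hmeet : ∀ u ∈ P, ∃ v ∈ S, Fus p M P e u v) :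
    classInner (starFun p M (pairW p M P e η) (χ : G → ℂ)) (ψ : G → ℂ) =
      ∑ v ∈ S, η v * pp p M P e v χ ψ / ((fset p M P e S v).card : ℂ) := by
  classical
  haveI : Fact p.Prime := ⟨hM.1⟩
  have hB := hmax.1.2.1
  set w : G → ℂ := fun v => ((witSet p M P e (bEl p M P e v)).card : ℂ)⁻¹ with hw
  have hwsum : ∀ (a : BrauerPairIdx G) (x : G), a.1 = Subgroup.zpowers x →
      IsBrauerPairOf p M B a.1 a.2 → ∑ g ∈ witSet p M P e a, w (g * x * g⁻¹) = 1 := by
    intro a x h1 ha
    obtain ⟨g₀, hg₀⟩ := (carries_iff_pairOf hM hmax).2 ha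
    have hcard : ∀ g ∈ witSet p M P e a, (witSet p M P e (bEl p M P e (g * x * g⁻¹))).card =
        (witSet p M P e a).card := by
      intro g hg
      have hb := bEl_unique hM hmax h1 (mem_witSet.1 hg)
      refine Finset.card_bij' (fun t _ => t * g) (fun t _ => t * g⁻¹) (fun t ht => ?_)
        (fun t ht => ?_) (fun t _ => mul_inv_cancel_right t g) fun t _ => inv_mul_cancel_right t g
      · rw [mem_witSet, hb, carries_conj] at ht
        exact mem_witSet.2 ht
      · rw [mem_witSet, hb, carries_conj, inv_mul_cancel_right]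
        exact mem_witSet.1 ht
    rw [Finset.sum_congr rfl fun g hg => show w (g * x * g⁻¹) =
        ((witSet p M P e a).card : ℂ)⁻¹ by simp only [hw, hcard g hg], Finset.sum_const,
      nsmul_eq_mul, mul_inv_cancel₀]
    exact Nat.cast_ne_zero.2 (Finset.card_ne_zero.2 ⟨g₀, mem_witSet.2 hg₀⟩)
  conv_lhs => arg 2; rw [← starFun_one (W := fun _ _ => (1 : ℂ)) hM hB hψ
    (fun _ _ _ _ _ => rfl)]
  rw [classInner_starFun hM (irr_isClassFun χ) (irr_isClassFun ψ)]
  simp only [map_one, mul_one]
  rw [sum_block_pairs hM hmax w hwsum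
    (fun x a => pairW p M P e η a x * pairT p a x (χ : G → ℂ) (ψ : G → ℂ))
    (fun t x a ha => by
      rw [pairW_conjInv hη t x a ha, pairT_conj (irr_isClassFun χ) (irr_isClassFun ψ)])
    (fun x a ha hx hp => by
      rw [show pairT p a x (χ : G → ℂ) (ψ : G → ℂ) = 0 from Finset.sum_eq_zero fun y hy => by
        rw [pairVal_off hM hB hχ hx ha hp hy, zero_mul], mul_zero]),
    ← mul_assoc, inv_mul_cancel₀ (Nat.cast_ne_zero.2 Nat.card_pos.ne'), one_mul]
  set F : G → ℂ := fun v => η v * pp p M P e v χ ψ with hF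
  set N : G → ℂ := fun v => ((fset p M P e Finset.univ v).card : ℂ) with hN
  set m : G → ℂ := fun v => ((fset p M P e S v).card : ℂ) with hm
  have hFinv : ∀ u v, u ∈ P → Fus p M P e u v → F v = F u := fun u v hu huv => by
    obtain ⟨g, hg, rfl⟩ := id huv
    have h1 : Carries p M P e 1 (bEl p M P e u) := (bEl_spec hM hmax hu).2.1
    rw [hF]
    simp only []
    rw [pp_fus hM hmax huv, hη g u _ rfl h1 hg]
  have hterm : ∀ u : P, w u * (pairW p M P e η (bEl p M P e u) u *
      pairT p (bEl p M P e u) u (χ : G → ℂ) (ψ : G → ℂ)) = F u / N u := by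
    intro u
    simp only [hw, hF, hN, pairW_bEl hM hmax hη u.2, card_witSet_fus hM hmax u.2, Nat.cast_mul,
      mul_inv, pp, div_eq_mul_inv]
    ring
  rw [Finset.sum_congr rfl fun u _ => hterm u]
  have hsplit : ∀ u : P, F u / N u =
      ∑ v ∈ S, if Fus p M P e (u : G) v then F v / (N v * m v) else 0 := by
    intro u
    rw [← Finset.sum_filter]
    have hc : ∀ v ∈ S.filter (fun v => Fus p M P e (u : G) v), F v / (N v * m v) =
        F u / (N u * m u) := by
      intro v hv
      have huv := (Finset.mem_filter.1 hv).2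
      simp only [hN, hm, hFinv _ _ u.2 huv, fset_fus hM hmax _ u.2 huv]
    rw [Finset.sum_congr rfl hc, Finset.sum_const, nsmul_eq_mul]
    have hm0 : m u ≠ 0 := by
      obtain ⟨v, hv, huv⟩ := hmeet u u.2
      exact Nat.cast_ne_zero.2 (Finset.card_ne_zero.2 ⟨v, Finset.mem_filter.2 ⟨hv, huv⟩⟩)
    have hN0 : N u ≠ 0 := Nat.cast_ne_zero.2 (Finset.card_ne_zero.2
      ⟨u, Finset.mem_filter.2 ⟨Finset.mem_univ _, fus_refl hM hmax u.2⟩⟩)
    show _ = m u * _
    field_simp
  rw [Finset.sum_congr rfl fun u _ => hsplit u, Finset.sum_comm]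
  refine Finset.sum_congr rfl fun v hv => ?_
  rw [← Finset.sum_filter, Finset.sum_const, nsmul_eq_mul]
  have hNv : N v ≠ 0 := Nat.cast_ne_zero.2 (Finset.card_ne_zero.2
    ⟨v, Finset.mem_filter.2 ⟨Finset.mem_univ _, fus_refl hM hmax (hS v hv)⟩⟩)
  have hcard : (Finset.univ.filter fun u : P => Fus p M P e (u : G) v).card =
      (fset p M P e Finset.univ v).card := by
    refine Finset.card_bij (fun u _ => (u : G)) (fun u hu => Finset.mem_filter.2
      ⟨Finset.mem_univ _, fus_symm hM hmax u.2 (Finset.mem_filter.1 hu).2⟩)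
      (fun a _ b _ h => Subtype.ext h) fun b hb => ?_
    have h := (Finset.mem_filter.1 hb).2
    exact ⟨⟨b, fus_mem h⟩, Finset.mem_filter.2 ⟨Finset.mem_univ _, fus_symm hM hmax (hS v hv) h⟩, rfl⟩
  rw [hcard]
  show N v * _ = F v / m v
  field_simp

end CfsgLib.Blocks.Tame
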