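import Cfsg.Agent.Lib.Blocks.TameBlock.Group
import Cfsg.Agent.Lib.Blocks.TameBlock.Trace
import Cfsg.Agent.Lib.Blocks.DihBlock.Restrict

/-!
# The local block at the element of order four
-/

namespace CfsgLib.Blocks.Tame

open Cfsg CfsgLib.CharTheory CfsgLib.Blocks.DihBlock
open scoped ComplexConjugate

set_option linter.unusedVariables false
set_option linter.unusedSimpArgs false
set_option linter.style.haveILetI false
set_option linter.unusedSectionVars false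

universe u

theorem commute_of_sq {K : Type u} [Group K] [Finite K] {x y : K} (hx : ¬ 2 ∣ orderOf x)
    (h : Commute (x * x) y) : Commute x y := by
  obtain ⟨m, hm⟩ := exists_pow_eq_self_of_coprime
    (Nat.prime_two.coprime_iff_not_dvd.2 hx) (x := x)
  rw [← hm, sq]
  exact h.pow_left m

variable {G : Type u} [Group G] [Fintype G]

/-- The normalizer of the subgroup generated by the element of order four. -/
abbrev nr (σ : G) (h : ℕ) : Subgroup G :=
  Subgroup.normalizer ((Subgroup.zpowers (rho σ h) : Subgroup G) : Set G)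

theorem TG.sq_half {K : Type u} [Group K] [Finite K] {D : Subgroup K} {σ τ : K} {h r : ℕ}
    (hd : TG D σ τ h r) : rho σ h * rho σ h = σ ^ h := by
  obtain ⟨q, hq, hq0⟩ := hd.half
  rw [rho, ← pow_add, show h / 2 + h / 2 = h by omega]

/-- The square roots of the involution in the cyclic part. -/
theorem TG.four {K : Type u} [Group K] [Finite K] {D : Subgroup K} {σ τ : K} {h r : ℕ}
    (hd : TG D σ τ h r) {y : K} (hy : y ∈ Subgroup.zpowers σ) (h2 : y * y = σ ^ h) :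
    y = rho σ h ∨ y = σ ^ h * rho σ h := by
  have hc : Commute y (rho σ h)⁻¹ := by
    obtain ⟨t, ht⟩ := hy
    rw [← ht]
    exact ((Commute.refl σ).zpow_left t |>.pow_right _).inv_right
  rcases hd.toCyc.sq_eq_one (Subgroup.mul_mem _ hy
    (Subgroup.inv_mem _ (Subgroup.npow_mem_zpowers σ (h / 2)))) (by
      show y * (rho σ h)⁻¹ * (y * (rho σ h)⁻¹) = 1
      rw [hc.symm.mul_mul_mul_comm, h2, ← mul_inv_rev, hd.sq_half, mul_inv_cancel]) with e | e
  · exact Or.inl (mul_inv_eq_one.1 e)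
  · exact Or.inr (mul_inv_eq_iff_eq_mul.1 e)

theorem good_mem {K : Type u} [Group K] [Finite K] {σ : K} {h i : ℕ} (hd : Cyc σ h)
    (hi : Good h i) : σ ^ i * σ ^ i ≠ 1 := fun e => by
  obtain ⟨i0, i1, i2⟩ := hi
  rcases hd.sq_eq_one (Subgroup.npow_mem_zpowers σ i) e with e1 | e1
  · exact hd.pow_ne_one i0 i1 e1
  · exact i2 (hd.pow_inj i1 (by omega) e1)

section Good

variable {D : Subgroup G} {σ τ : G} {h r : ℕ}

/-- The centralizer of a rotation lies in the local subgroup. -/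
theorem TG.cent_nr (hd : TG D σ τ h r) {i : ℕ} (hi : Good h i) {x : G}
    (hx : Commute x (σ ^ i)) : x ∈ nr σ h := by
  obtain ⟨k, hk⟩ := hd.rho_mem (Subgroup.npow_mem_zpowers σ i) (good_mem hd.toCyc hi)
  have hc : Commute x (rho σ h) := hk ▸ hx.zpow_right k
  refine Subgroup.mem_normalizer_fintype fun y hy => ?_
  obtain ⟨j, rfl⟩ := hy
  show x * rho σ h ^ j * x⁻¹ ∈ Subgroup.zpowers (rho σ h)
  rw [(hc.zpow_right j).eq, mul_inv_cancel_right]
  exact Subgroup.zpow_mem _ (Subgroup.mem_zpowers _) j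

/-- Elements conjugating a rotation to a rotation lie in the local subgroup. -/
theorem TG.fus_nr (hd : TG D σ τ h r) {i j : ℕ} (hi : Good h i) {x : G}
    (hx : x * σ ^ i * x⁻¹ = σ ^ j) : x ∈ nr σ h := by
  obtain ⟨k, hk⟩ := hd.rho_mem (Subgroup.npow_mem_zpowers σ i) (good_mem hd.toCyc hi)
  set y := x * rho σ h * x⁻¹ with hy
  have hym : y ∈ Subgroup.zpowers σ := by
    rw [hy, ← hk]
    show x * (σ ^ i) ^ k * x⁻¹ ∈ Subgroup.zpowers σ
    rw [← conj_zpow, hx]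
    exact Subgroup.zpow_mem _ (Subgroup.npow_mem_zpowers σ j) k
  have hsq : y * y = x * σ ^ h * x⁻¹ := by rw [hy, ← hd.sq_half]; group
  have hzz : x * σ ^ h * x⁻¹ = σ ^ h := by
    refine (hd.toCyc.sq_eq_one (hsq ▸ Subgroup.mul_mem _ hym hym) ?_).resolve_left fun e => ?_
    · rw [show x * σ ^ h * x⁻¹ * (x * σ ^ h * x⁻¹) = x * (σ ^ h * σ ^ h) * x⁻¹ by group,
        hd.toCyc.z_ne.2]
      group
    · exact hd.toCyc.z_ne.1 (conj_eq_one_iff.1 e)
  have hyρ : y ∈ Subgroup.zpowers (rho σ h) := by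
    rcases hd.four hym (hsq.trans hzz) with e | e
    · exact e ▸ Subgroup.mem_zpowers _
    · rw [e, ← hd.sq_half]
      exact Subgroup.mul_mem _ (Subgroup.mul_mem _ (Subgroup.mem_zpowers _)
        (Subgroup.mem_zpowers _)) (Subgroup.mem_zpowers _)
  refine Subgroup.mem_normalizer_fintype fun w hw => ?_
  obtain ⟨l, rfl⟩ := hw
  show x * rho σ h ^ l * x⁻¹ ∈ Subgroup.zpowers (rho σ h)
  rw [← conj_zpow]
  exact Subgroup.zpow_mem _ hyρ l

/-- A rotation is centralized in `D` by the cyclic part only. -/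
theorem TG.cent_good (hd : TG D σ τ h r) {i : ℕ} (hi : Good h i) {d : G} (hd' : d ∈ D)
    (hc : Commute d (σ ^ i)) : d ∈ Subgroup.zpowers σ := by
  obtain ⟨j, -, rfl | rfl⟩ := hd.mem_form hd'
  · exact Subgroup.npow_mem_zpowers σ j
  · exfalso
    have e := hd.conj_out j i
    rw [hc.eq, mul_inv_cancel_right, ← hd.pow_mod (r * i)] at e
    exact (hd.r_good hi).2 (hd.toCyc.pow_inj hi.2.1 (hd.r_good hi).1.2.1 e).symm

end Good

variable {M : Ideal AlgInt} {B : Set (IrrCharacter G)} {D : Subgroup G}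
  {e : Set (IrrCharacter (Subgroup.centralizer (D : Set G)))} {σ τ : G} {h r : ℕ}

/-- The block at the element of order four and a maximal pair of it. -/
structure Loc (M : Ideal AlgInt) (B : Set (IrrCharacter G)) (D : Subgroup G)
    (e : Set (IrrCharacter (Subgroup.centralizer (D : Set G)))) (σ τ : G) (h r : ℕ)
    [Fintype (nr σ h)] (f : Set (IrrCharacter (nr σ h))) (a : BrauerPairIdx (nr σ h))
    (s t : nr σ h) : Prop where
  hM : IsPModular 2 M
  hmax : IsMaximalBrauerPair 2 M B D e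
  hd : TG D σ τ h r
  dg : TG a.1 s t h r
  hs : (s : G) = σ
  ht : (t : G) = τ
  maxf : IsMaximalBrauerPair 2 M f a.1 a.2
  hup : ∃ ha : Subgroup.centralizer ((a.1.map (nr σ h).subtype : Subgroup G) : Set G) ≤ nr σ h,
      upIdx a ha = ⟨D, e⟩

/-- The local data exist. -/
theorem exists_loc (hM : IsPModular 2 M) (hmax : IsMaximalBrauerPair 2 M B D e)
    (hd : TG D σ τ h r) [Fintype (nr σ h)] : ∃ f a s t, Loc M B D e σ τ h r f a s t := by
  classical
  have hρD : rho σ h ∈ D := hd.pow_mem' _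
  have hC : Subgroup.centralizer (D : Set G) ≤ nr σ h := fun x hx =>
    hd.cent_nr hd.rho_good (show x * rho σ h = rho σ h * x from
      (Subgroup.mem_centralizer_iff.1 hx _ hρD).symm)
  obtain ⟨a, ha, hup, hblk⟩ := exists_upIdx (H := nr σ h) hd.mem_normalizer hC hmax.1.1.2
  have hmap : a.1.map (nr σ h).subtype = D := le_map_subtype_of_eq hup
  have hap : IsPGroup 2 a.1 :=
    hmax.1.1.1.of_equiv ((Subgroup.equivMapOfInjective a.1 _ Subtype.coe_injective).trans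
      (MulEquiv.subgroupCongr hmap)).symm
  obtain ⟨f, hf⟩ := exists_block_of_pair hM hap hblk
  have hmax' := maximal_down hM hup hmax hf
  have hlift : ∀ x ∈ D, ∃ y ∈ a.1, (y : G) = x := fun x hx => by
    rw [← hmap] at hx; exact hx
  obtain ⟨s, hsm, hs⟩ := hlift σ hd.memσ
  obtain ⟨t, htm, ht⟩ := hlift τ hd.memτ
  have hout : t ∉ Subgroup.zpowers s := fun hm => by
    obtain ⟨k, hk⟩ := hm
    exact hd.out ⟨k, by rw [← ht, ← hk]; simp [hs]⟩
  refine ⟨f, a, s, t, hM, hmax, hd, ⟨⟨hd.toCyc.hpow, ?_⟩, ?_, hsm, htm, hout, ?_, ?_⟩, hs, ht,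
    hmax', ha, hup⟩
  · rw [← Subgroup.orderOf_coe, hs, hd.ord]
  · rw [← hd.card, ← hmap, Subgroup.card_map_of_injective Subtype.coe_injective]
  · exact Subtype.ext (by simp [hs, ht, hd.rel])
  · rcases hd.typ with ⟨e1, e2⟩ | ⟨e1, e2, e3⟩
    · exact Or.inl ⟨e1, Subtype.ext (by simp [hs, ht, e2])⟩
    · exact Or.inr ⟨e1, Subtype.ext (by simp [ht, e2]), e3⟩

variable [Fintype (nr σ h)] {f : Set (IrrCharacter (nr σ h))} {a : BrauerPairIdx (nr σ h)}
  {s t : nr σ h}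

theorem Loc.hf (L : Loc M B D e σ τ h r f a s t) : IsPBlock M f := L.maxf.1.2.1

theorem Loc.coe_pow (L : Loc M B D e σ τ h r f a s t) (i : ℕ) :
    ((s ^ i : nr σ h) : G) = σ ^ i := by rw [SubmonoidClass.coe_pow, L.hs]

theorem Loc.cent (L : Loc M B D e σ τ h r f a s t) {i : ℕ} (hi : Good h i) (x : G)
    (hx : Commute x ((s ^ i : nr σ h) : G)) : x ∈ nr σ h :=
  L.hd.cent_nr hi (by rwa [L.coe_pow] at hx)

/-- The pair at a rotation is the pair in the whole group. -/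
theorem Loc.bEl_up (L : Loc M B D e σ τ h r f a s t) {i : ℕ} (hi : Good h i) :
    ∃ hb : Subgroup.centralizer
        (((bEl 2 M a.1 a.2 (s ^ i)).1.map (nr σ h).subtype : Subgroup G) : Set G) ≤ nr σ h,
      upIdx (bEl 2 M a.1 a.2 (s ^ i)) hb = bEl 2 M D e (σ ^ i) := by
  have huA : s ^ i ∈ a.1 := L.dg.pow_mem' i
  have hmap : (bEl 2 M a.1 a.2 (s ^ i)).1.map (nr σ h).subtype = Subgroup.zpowers (σ ^ i) := by
    show (Subgroup.zpowers (s ^ i)).map (nr σ h).subtype = _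
    rw [MonoidHom.map_zpowers, map_pow]
    simp [L.hs]
  have hQ : Subgroup.centralizer ((Subgroup.zpowers (σ ^ i) : Subgroup G) : Set G) ≤ nr σ h :=
    fun x hx => L.hd.cent_nr hi ((isCentr_zpowers (σ ^ i) x).1 hx)
  have hb : Subgroup.centralizer
      (((bEl 2 M a.1 a.2 (s ^ i)).1.map (nr σ h).subtype : Subgroup G) : Set G) ≤ nr σ h :=
    hmap ▸ hQ
  obtain ⟨hblk, hle⟩ := subIdx_spec L.hM (a := (⟨a.1, a.2⟩ : BrauerPairIdx (nr σ h)))
    L.maxf.1.1.1 L.maxf.1.1.2 (Q := Subgroup.zpowers (s ^ i)) (Subgroup.zpowers_le.2 huA)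
  obtain ⟨hb', hle'⟩ := subpair_up hQ hle hmap.ge hb
  obtain ⟨ha, hup⟩ := L.hup
  have hle2 : Relation.ReflTransGen (NormalSubpairRel 2 M)
      (upIdx (bEl 2 M a.1 a.2 (s ^ i)) hb) ⟨D, e⟩ := hup ▸ hle'
  refine ⟨hb, ?_⟩
  have he := subIdx_unique L.hM (a := (⟨D, e⟩ : BrauerPairIdx G)) L.hmax.1.1.1 L.hmax.1.1.2 hle2
  rw [show (upIdx (bEl 2 M a.1 a.2 (s ^ i)) hb).1 = Subgroup.zpowers (σ ^ i) from hmap] at he
  exact he.symm

/-- The local block is nilpotent. -/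
theorem Loc.nilpotent (L : Loc M B D e σ τ h r f a s t) : IsNilpotentBlock 2 M f := by
  refine ⟨L.hf, fun Q g hQ x hxN _ hxr => ?_⟩
  obtain ⟨k, hk⟩ := (carries_iff_pairOf L.hM L.maxf (a := ⟨Q, g⟩)).2 hQ
  have hle : Q.map (MulAut.conj k).toMonoidHom ≤ a.1 :=
    subpairLE_le (a := conjIdx k (⟨Q, g⟩ : BrauerPairIdx (nr σ h))) (b := ⟨a.1, a.2⟩) hk
  set y := k * x * k⁻¹ with hy
  have hρ : Commute y (rho s h) := by
    refine commute_of_sq (by rw [hy, conj_orderOf]; exact hxr) ?_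
    have hmem : ∀ w : nr σ h, w ∈ Subgroup.zpowers (rho s h) ↔
        (w : G) ∈ Subgroup.zpowers (rho σ h) := by
      intro w
      constructor
      · rintro ⟨j, rfl⟩; exact ⟨j, by simp [rho, L.hs]⟩
      · rintro ⟨j, hj⟩; exact ⟨j, Subtype.ext (by simpa [rho, L.hs] using hj)⟩
    have hyρ : y * rho s h * y⁻¹ ∈ Subgroup.zpowers (rho s h) := (hmem _).2 (by
      simp only [Subgroup.coe_mul, Subgroup.coe_inv]
      exact (Subgroup.mem_normalizer_iff.1 y.2 _).1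
        ((hmem _).1 (Subgroup.mem_zpowers (rho s h))))
    have hd := L.dg
    have hR : y * rho s h * y⁻¹ ∈ Subgroup.zpowers s :=
      Subgroup.zpowers_le.2 (Subgroup.npow_mem_zpowers s (h / 2)) hyρ
    have hzz : y * s ^ h * y⁻¹ = s ^ h := by
      refine (hd.toCyc.sq_eq_one ?_ ?_).resolve_left fun e => ?_
      · rw [← hd.sq_half, show y * (rho s h * rho s h) * y⁻¹ =
          y * rho s h * y⁻¹ * (y * rho s h * y⁻¹) by group]
        exact Subgroup.mul_mem _ hR hR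
      · rw [show y * s ^ h * y⁻¹ * (y * s ^ h * y⁻¹) = y * (s ^ h * s ^ h) * y⁻¹ by group,
          hd.toCyc.z_ne.2]
        group
      · exact hd.toCyc.z_ne.1 (conj_eq_one_iff.1 e)
    show y * y * rho s h = rho s h * (y * y)
    rw [← mul_inv_eq_iff_eq_mul, show y * y * rho s h * (y * y)⁻¹ =
      y * (y * rho s h * y⁻¹) * y⁻¹ by group]
    rcases hd.four hR (by rw [show y * rho s h * y⁻¹ * (y * rho s h * y⁻¹) =
      y * (rho s h * rho s h) * y⁻¹ by group, hd.sq_half, hzz]) with e | e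
    · rw [e, e]
    · rw [e, show y * (s ^ h * rho s h) * y⁻¹ = y * s ^ h * y⁻¹ * (y * rho s h * y⁻¹) by group,
        hzz, e, ← mul_assoc, hd.toCyc.z_ne.2, one_mul]
  have hc := L.dg.centralizes hle (x := y) (by rw [hy, conj_orderOf]; exact hxr) hρ (by
    rintro _ ⟨q, hq, rfl⟩
    refine ⟨x * q * x⁻¹, (Subgroup.mem_normalizer_iff.1 hxN q).1 hq, ?_⟩
    simp only [hy, MulEquiv.coe_toMonoidHom, MulAut.conj_apply]
    group)
  intro q hq
  exact ((Commute.conj_iff k).1 (hc _ ⟨q, hq, rfl⟩)).eq.symm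

/-- The characters of the local block from those of the defect group. -/
structure Par (M : Ideal AlgInt) (B : Set (IrrCharacter G)) (D : Subgroup G)
    (e : Set (IrrCharacter (Subgroup.centralizer (D : Set G)))) (σ τ : G) (h r : ℕ)
    [Fintype (nr σ h)] (f : Set (IrrCharacter (nr σ h))) (a : BrauerPairIdx (nr σ h))
    (s t : nr σ h)
    (ψ₀ : IrrCharacter (nr σ h)) (T : IrrCharacter a.1 → IrrCharacter (nr σ h)) : Prop
    extends Loc M B D e σ τ h r f a s t where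
  mem0 : ψ₀ ∈ f
  h0 : dv 2 (ψ₀ : nr σ h → ℂ) = minDv 2 f
  inj : Function.Injective T
  cover : ∀ ψ, ψ ∈ f ↔ ∃ l, T l = ψ
  val : ∀ l, (T l : nr σ h → ℂ) =
    starFun 2 M (pairW 2 M a.1 a.2 (sext a.1 (l : a.1 → ℂ))) (ψ₀ : nr σ h → ℂ)
  stab : ∀ l : IrrCharacter a.1, IsStableFun 2 M a.1 a.2 (sext a.1 (l : a.1 → ℂ))

theorem Loc.exists_par (L : Loc M B D e σ τ h r f a s t) : ∃ ψ₀ T, Par M B D e σ τ h r f a s t ψ₀ T := by
  classical
  haveI : Fact (Nat.Prime 2) := ⟨Nat.prime_two⟩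
  haveI := Fintype.ofFinite a.1
  have hM := L.hM
  have hnil := L.nilpotent
  obtain ⟨ψ₀, hψ, h0⟩ := exists_height_zero hM L.hf
  set η : IrrCharacter a.1 → nr σ h → ℂ := fun l => sext a.1 (l : a.1 → ℂ) with hη
  have hval : ∀ (l : IrrCharacter a.1) (v : a.1), η l v = (l : a.1 → ℂ) v := fun l v =>
    sext_coe a.1 _ v
  have hstab : ∀ l, IsStableFun 2 M a.1 a.2 (η l) := fun l =>
    stable_of_class hM L.maxf hnil fun v hv x hx => by
      have h2 := irr_isClassFun l ⟨x, hx⟩ ⟨v, hv⟩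
      rw [← hval, ← hval] at h2
      exact h2
  have hinner : ∀ l l' : IrrCharacter a.1,
      classInner (starFun 2 M (pairW 2 M a.1 a.2 (η l)) (ψ₀ : nr σ h → ℂ))
        (starFun 2 M (pairW 2 M a.1 a.2 (η l')) (ψ₀ : nr σ h → ℂ)) =
      classInner (l : a.1 → ℂ) (l' : a.1 → ℂ) := by
    intro l l'
    rw [classInner_nilpotent hM L.maxf hnil hψ (hstab l) (hstab l'), classInner]
    congr 1
    refine Finset.sum_congr rfl fun v _ => ?_
    rw [fEl_eq_one hM L.maxf hnil hψ h0 v, mul_one, hval, hval]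
  have hη1 : ∀ l, η l 1 = (charDegree (l : a.1 → ℂ) : ℂ) := fun l => by
    rw [irr_charDegree_cast l, show η l 1 = η l ((1 : a.1) : nr σ h) from rfl, hval]
  have hirr : ∀ l, IsIrrCharacter (nr σ h)
      (starFun 2 M (pairW 2 M a.1 a.2 (η l)) (ψ₀ : nr σ h → ℂ)) := fun l => by
    refine irr_of_norm_one (starW_genChar hM L.maxf (hstab l) ?_ ψ₀)
      (by rw [hinner]; exact classInner_irr_self l.2) ?_
    · rw [show (fun v : a.1 => η l v) = (l : a.1 → ℂ) from funext (hval l)]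
      exact isGenChar_of_char (isCharacter_of_irr l.2)
    · rw [starW_one hM L.maxf (hstab l) hψ, hη1, ← irr_charDegree_cast ψ₀, ← Nat.cast_mul,
        Complex.natCast_re, Nat.cast_pos]
      exact Nat.mul_pos (irr_charDegree_pos l) (irr_charDegree_pos ψ₀)
  set T : IrrCharacter a.1 → IrrCharacter (nr σ h) := fun l => ⟨_, hirr l⟩ with hT
  have hmem : ∀ l, T l ∈ f := fun l =>
    mem_of_regular_prop hM L.hf hψ (r := (charDegree (l : a.1 → ℂ) : ℂ))
      (Nat.cast_ne_zero.2 (irr_charDegree_pos l).ne')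
      fun g hg => by
        show starFun 2 M (pairW 2 M a.1 a.2 (η l)) (ψ₀ : nr σ h → ℂ) g = _
        rw [starW_regular hM L.maxf (hstab l) hψ hg, hη1]
  have hinj : Function.Injective T := by
    intro l l' hll
    by_contra hne
    have h1 := hinner l l'
    have e : starFun 2 M (pairW 2 M a.1 a.2 (η l)) (ψ₀ : nr σ h → ℂ) =
        starFun 2 M (pairW 2 M a.1 a.2 (η l')) (ψ₀ : nr σ h → ℂ) :=
      congrArg Subtype.val hll
    rw [e, hinner, classInner_irr_self l'.2,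
      classInner_irr_ne l.2 l'.2 (fun h => hne (Subtype.ext h))] at h1
    exact one_ne_zero h1
  obtain ⟨χ₀, -, Ψ, -⟩ := nilpotent_param hM L.maxf hnil
  let T' : IrrCharacter a.1 → f := fun l => ⟨T l, hmem l⟩
  have hbij : Function.Bijective T' := (Fintype.bijective_iff_injective_and_card T').2
    ⟨fun l l' e => hinj (congrArg Subtype.val e), Fintype.card_congr Ψ⟩
  refine ⟨ψ₀, T, L, hψ, h0, hinj, fun ψ => ⟨fun hψ' => ?_, ?_⟩, fun l => rfl, hstab⟩
  · obtain ⟨l, hl⟩ := hbij.2 ⟨ψ, hψ'⟩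
    exact ⟨l, congrArg Subtype.val hl⟩
  · rintro ⟨l, rfl⟩
    exact hmem l

variable {ψ₀ : IrrCharacter (nr σ h)} {T : IrrCharacter a.1 → IrrCharacter (nr σ h)}

/-- The value of the common character at the pair of a rotation. -/
noncomputable def piv (M : Ideal AlgInt) (a : BrauerPairIdx (nr σ h))
    (ψ₀ : IrrCharacter (nr σ h)) (u c : nr σ h) : ℂ :=
  pairVal (bEl 2 M a.1 a.2 u) (ψ₀ : nr σ h → ℂ) (u * c)

/-- The function on the defect group attached to a character. -/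
noncomputable def lam (a : BrauerPairIdx (nr σ h))
    (T : IrrCharacter a.1 → IrrCharacter (nr σ h)) (χ : IrrCharacter G) (v : nr σ h) : ℂ :=
  ∑ l : IrrCharacter a.1, classInner (fun k : nr σ h => (χ : G → ℂ) k) (T l : nr σ h → ℂ) *
    sext a.1 (l : a.1 → ℂ) v

theorem Par.sum_f (P : Par M B D e σ τ h r f a s t ψ₀ T) {R : Type*} [AddCommMonoid R]
    (Φ : IrrCharacter (nr σ h) → R) : ∑ ψ ∈ bset f, Φ ψ = ∑ l, Φ (T l) := by
  classical
  symm
  refine Finset.sum_bij (fun l _ => T l) (fun l _ => mem_bset.2 ((P.cover _).2 ⟨l, rfl⟩))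
    (fun l _ l' _ e => P.inj e) (fun ψ hψ => ?_) fun l _ => rfl
  obtain ⟨l, hl⟩ := (P.cover ψ).1 (mem_bset.1 hψ)
  exact ⟨l, Finset.mem_univ _, hl⟩

theorem Par.pair_T (P : Par M B D e σ τ h r f a s t ψ₀ T) {u : nr σ h} (hu : u ∈ a.1) {c : nr σ h}
    (hc : c ∈ regC 2 u) (l : IrrCharacter a.1) :
    pairVal (bEl 2 M a.1 a.2 u) (T l : nr σ h → ℂ) (u * c) =
      sext a.1 (l : a.1 → ℂ) u * piv M a ψ₀ u c := by
  obtain ⟨k, hk⟩ := IsPGroup.iff_orderOf.1 P.maxf.1.1.1 (⟨u, hu⟩ : a.1)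
  rw [Subgroup.orderOf_mk] at hk
  rw [P.val, pairVal_starFun P.hM (pairW_conjInv (P.stab l)) (irr_isClassFun ψ₀) ⟨k, hk⟩
    (bEl_spec P.hM P.maxf hu).1 hc, pairW_bEl P.hM P.maxf (P.stab l) hu]
  rfl

theorem Par.pair_off (P : Par M B D e σ τ h r f a s t ψ₀ T) {u : nr σ h} (hu : u ∈ a.1) {c : nr σ h}
    (hc : c ∈ regC 2 u) {ψ : IrrCharacter (nr σ h)} (hψ : ψ ∉ f) :
    pairVal (bEl 2 M a.1 a.2 u) (ψ : nr σ h → ℂ) (u * c) = 0 := by
  obtain ⟨k, hk⟩ := IsPGroup.iff_orderOf.1 P.maxf.1.1.1 (⟨u, hu⟩ : a.1)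
  rw [Subgroup.orderOf_mk] at hk
  obtain ⟨h1, -, h3⟩ := bEl_spec P.hM P.maxf hu
  exact pairVal_off' P.hM hψ ⟨k, hk⟩ h1 h3 hc

theorem Par.pair_sum (P : Par M B D e σ τ h r f a s t ψ₀ T) {u : nr σ h} (hu : u ∈ a.1) {c : nr σ h}
    (hc : c ∈ regC 2 u) (r : IrrCharacter (nr σ h) → ℂ) :
    ∑ ψ : IrrCharacter (nr σ h), pairVal (bEl 2 M a.1 a.2 u) (ψ : nr σ h → ℂ) (u * c) * r ψ =
      (∑ l : IrrCharacter a.1, sext a.1 (l : a.1 → ℂ) u * r (T l)) * piv M a ψ₀ u c := by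
  classical
  rw [← Finset.sum_subset (Finset.subset_univ (bset f)) fun ψ _ hψ => by
    rw [P.pair_off hu hc fun h => hψ (mem_bset.2 h), zero_mul],
    P.sum_f, Finset.sum_mul]
  exact Finset.sum_congr rfl fun l _ => by rw [P.pair_T hu hc]; ring

/-- The values of a restricted character at the pair of a rotation. -/
theorem Par.pair_char (P : Par M B D e σ τ h r f a s t ψ₀ T) {u : nr σ h} (hu : u ∈ a.1) {c : nr σ h}
    (hc : c ∈ regC 2 u) (χ : IrrCharacter G) :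
    pairVal (bEl 2 M a.1 a.2 u) (fun k : nr σ h => (χ : G → ℂ) k) (u * c) =
      lam a T χ u * piv M a ψ₀ u c := by
  classical
  have e : (fun k : nr σ h => (χ : G → ℂ) k) = fun k => ∑ ψ : IrrCharacter (nr σ h),
      classInner (fun k : nr σ h => (χ : G → ℂ) k) (ψ : nr σ h → ℂ) *
        (ψ : nr σ h → ℂ) k := funext fun k => by
    have h1 := congrFun (eq_sum_irr (isClassFunction_restrict (H := nr σ h) χ)) k
    simp only [Finset.sum_apply, Pi.smul_apply, smul_eq_mul] at h1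
    exact h1
  conv_lhs => rw [e]
  rw [pairVal_sum, Finset.sum_congr rfl fun ψ _ => mul_comm _ _, P.pair_sum hu hc, lam]
  congr 1
  exact Finset.sum_congr rfl fun l _ => mul_comm _ _

theorem Par.exists_piv (P : Par M B D e σ τ h r f a s t ψ₀ T) {u : nr σ h} (hu : u ∈ a.1) :
    ∃ c ∈ regC 2 u, piv M a ψ₀ u c ≠ 0 := by
  haveI := Fintype.ofFinite a.1
  have h1 := fEl_eq_one P.hM P.maxf P.toLoc.nilpotent P.mem0 P.h0 ⟨u, hu⟩
  by_contra hc
  push Not at hc
  rw [fEl, fPair] at h1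
  have h2 : pairT 2 (bEl 2 M a.1 a.2 u) u (ψ₀ : nr σ h → ℂ) (ψ₀ : nr σ h → ℂ) = 0 :=
    Finset.sum_eq_zero fun c hcm => by
      show piv M a ψ₀ u c * conj (piv M a ψ₀ u c) = 0
      rw [hc c hcm, zero_mul]
  rw [h2, mul_zero] at h1
  exact zero_ne_one h1


theorem Loc.card_cent (L : Loc M B D e σ τ h r f a s t) {i : ℕ} (hi : Good h i) :
    2 ^ blockDefect 2 (bEl 2 M a.1 a.2 (s ^ i)).2 = 2 * h := by
  rw [card_centP_bEl L.hM L.maxf L.nilpotent (L.dg.pow_mem' i),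
    ← L.dg.toCyc.ord, ← Nat.card_zpowers]
  congr 1
  refine congrArg _ (le_antisymm (fun x hx => L.dg.cent_good hi hx.1
    ((isCentr_zpowers _ x).1 hx.2)) (le_inf (Subgroup.zpowers_le.2 L.dg.memσ) ?_))
  exact Subgroup.zpowers_le.2 ((isCentr_zpowers _ _).2 ((Commute.refl s).pow_right i))

/-- The defect of the pair at a rotation in the whole group. -/
theorem Loc.defect_good (L : Loc M B D e σ τ h r f a s t) {i : ℕ} (hi : Good h i) :
    2 ^ blockDefect 2 (bEl 2 M D e (σ ^ i)).2 = 2 * h := by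
  obtain ⟨hb, hu⟩ := L.bEl_up hi
  rw [← hu, ← L.card_cent hi]
  show 2 ^ blockDefect 2 (irrPull (upE (bEl 2 M a.1 a.2 (s ^ i)).1 hb) '' _) = _
  rw [blockDefect_image]

/-- The contributions at the pair of a rotation. -/
theorem Par.pp_good (P : Par M B D e σ τ h r f a s t ψ₀ T) {i : ℕ} (hi : Good h i)
    (χ ψ : IrrCharacter G) :
    pp 2 M D e (σ ^ i) χ ψ =
      lam a T χ (s ^ i) * conj (lam a T ψ (s ^ i)) / ((2 * h : ℕ) : ℂ) := by
  classical
  haveI := Fintype.ofFinite a.1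
  have huA : s ^ i ∈ a.1 := P.dg.pow_mem' i
  obtain ⟨hb, hu⟩ := P.toLoc.bEl_up hi
  have hcu : ∀ x : G, Commute x ((s ^ i : nr σ h) : G) → x ∈ nr σ h := P.toLoc.cent hi
  have hcoe := P.toLoc.coe_pow i
  set u := s ^ i with hudef
  set S : ℂ := ∑ c ∈ regC 2 u, piv M a ψ₀ u c * conj (piv M a ψ₀ u c) with hS
  have hpT : pairT 2 (bEl 2 M D e (σ ^ i)) (σ ^ i) (χ : G → ℂ) (ψ : G → ℂ) =
      lam a T χ u * conj (lam a T ψ u) * S := by
    rw [← hu, ← hcoe, hS, Finset.mul_sum]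
    unfold pairT
    symm
    refine Finset.sum_bij (fun c _ => (c : G)) (fun c hc => mem_regC.2
      ⟨(mem_regC.1 hc).1.map (nr σ h).subtype, by
        rw [Subgroup.orderOf_coe]; exact (mem_regC.1 hc).2⟩)
      (fun c _ d _ h => Subtype.ext h) (fun b hb' => ?_) fun c hc => ?_
    · have hbH : b ∈ nr σ h := hcu b (mem_regC.1 hb').1.symm
      exact ⟨⟨b, hbH⟩, mem_regC.2 ⟨Subtype.ext (mem_regC.1 hb').1.eq, by
        rw [← Subgroup.orderOf_coe]; exact (mem_regC.1 hb').2⟩, rfl⟩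
    · rw [← Subgroup.coe_mul, pairVal_up _ hb, pairVal_up _ hb, P.pair_char huA hc χ,
        P.pair_char huA hc ψ, map_mul]
      ring
  have h1 := fEl_eq_one P.hM P.maxf P.toLoc.nilpotent P.mem0 P.h0 ⟨u, huA⟩
  rw [fEl, fPair] at h1
  simp only at h1
  have e2 : ((2 : ℕ) : ℂ) ^ blockDefect 2 (bEl 2 M a.1 a.2 u).2 = ((2 * h : ℕ) : ℂ) := by
    rw [← Nat.cast_pow, P.toLoc.card_cent hi]
  have hcardC : Nat.card (Subgroup.centralizer ((Subgroup.zpowers (σ ^ i) : Subgroup G) : Set G)) =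
      Nat.card (Subgroup.centralizer ((Subgroup.zpowers u : Subgroup (nr σ h)) : Set (nr σ h))) := by
    refine Nat.card_congr
      { toFun := fun x => ⟨⟨x.1, hcu x.1 (by rw [hcoe]; exact (isCentr_zpowers _ _).1 x.2)⟩,
          (isCentr_zpowers u _).2 (Subtype.ext (by
            simp only [Subgroup.coe_mul]; rw [hcoe]; exact ((isCentr_zpowers _ _).1 x.2).eq))⟩
        invFun := fun x => ⟨(x.1 : G), (isCentr_zpowers _ _).2 (by
          rw [← hcoe]; exact ((isCentr_zpowers u x.1).1 x.2).map (nr σ h).subtype)⟩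
        left_inv := fun x => rfl
        right_inv := fun x => rfl }
  replace h1 : ((2 : ℕ) : ℂ) ^ blockDefect 2 (bEl 2 M a.1 a.2 u).2 *
      (Nat.card (Subgroup.centralizer ((Subgroup.zpowers u : Subgroup (nr σ h)) : Set (nr σ h))) : ℂ)⁻¹ *
      pairT 2 (bEl 2 M a.1 a.2 u) u (ψ₀ : nr σ h → ℂ) (ψ₀ : nr σ h → ℂ) = 1 := h1
  rw [e2] at h1
  have hS' : pairT 2 (bEl 2 M a.1 a.2 u) u (ψ₀ : nr σ h → ℂ) (ψ₀ : nr σ h → ℂ) = S := rfl
  rw [hS'] at h1
  rw [pp, hpT, hcardC]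
  have hh : ((2 * h : ℕ) : ℂ) ≠ 0 := Nat.cast_ne_zero.2 (by have := P.hd.two_le; omega)
  rw [eq_div_iff hh]
  linear_combination (lam a T χ u * conj (lam a T ψ u)) * h1

/-- The columns at two rotations. -/
theorem Par.orth (P : Par M B D e σ τ h r f a s t ψ₀ T) {l m : ℕ} (hl : Good h l) (hm : Good h m) :
    ∑ χ ∈ bset B, lam a T χ (s ^ l) * conj (lam a T χ (s ^ m)) =
      ((2 * h : ℕ) : ℂ) * ((if m = l then 1 else 0) + if m = r * l % (2 * h) then 1 else 0) := by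
  classical
  haveI := Fintype.ofFinite a.1
  have hd := P.dg
  have huA : s ^ l ∈ a.1 := hd.pow_mem' l
  have hvA : s ^ m ∈ a.1 := hd.pow_mem' m
  obtain ⟨c, hc, hcne⟩ := P.exists_piv huA
  obtain ⟨d, hd', hdne⟩ := P.exists_piv hvA
  have hk := kernel P.hM (hd.toCyc.exists_order (Subgroup.npow_mem_zpowers s l))
    (hd.toCyc.exists_order (Subgroup.npow_mem_zpowers s m)) (P.toLoc.cent hl)
    (fun x hx => P.hd.fus_nr hl (by rwa [P.toLoc.coe_pow, P.toLoc.coe_pow] at hx))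
    (bEl_spec P.hM P.maxf huA).1 (bEl_spec P.hM P.maxf hvA).1 hc hd'
  rw [P.pair_sum huA hc] at hk
  simp only [P.pair_char huA hc, P.pair_char hvA hd', P.pair_T hvA hd', map_mul] at hk
  -- outside the block the columns vanish
  have hoff : ∀ χ : IrrCharacter G, χ ∉ bset B → lam a T χ (s ^ l) = 0 := by
    intro χ hχ
    obtain ⟨hb, hu⟩ := P.toLoc.bEl_up hl
    have h2 := P.pair_char huA hc χ
    have hσl : σ ^ l ∈ D := P.hd.pow_mem' l
    obtain ⟨hm1, -, hm3⟩ := bEl_spec P.hM P.hmax hσl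
    rw [← pairVal_up _ hb (χ : G → ℂ) (s ^ l * c), Subgroup.coe_mul, hu, P.toLoc.coe_pow,
      pairVal_off' P.hM (fun h => hχ (mem_bset.2 h))
        (P.hd.toCyc.exists_order (Subgroup.npow_mem_zpowers σ l)) hm1 hm3
        (mem_regC.2 ⟨by
          rw [← P.toLoc.coe_pow]; exact (mem_regC.1 hc).1.map (nr σ h).subtype,
          by rw [Subgroup.orderOf_coe]; exact (mem_regC.1 hc).2⟩)] at h2
    exact (mul_eq_zero.1 h2.symm).resolve_right hcne
  have e1 : ∑ χ ∈ bset B, lam a T χ (s ^ l) * conj (lam a T χ (s ^ m)) =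
      ∑ l' : IrrCharacter a.1, sext a.1 (l' : a.1 → ℂ) (s ^ l) *
        conj (sext a.1 (l' : a.1 → ℂ) (s ^ m)) := by
    rw [Finset.sum_subset (Finset.subset_univ (bset B))
      fun χ _ hχ => by rw [hoff χ hχ, zero_mul]]
    apply mul_right_cancel₀ (mul_ne_zero hcne ((map_ne_zero (starRingEnd ℂ)).2 hdne))
    rw [Finset.sum_mul, Finset.sum_mul]
    refine Eq.trans (Finset.sum_congr rfl fun χ _ => by ring) (hk.trans ?_)
    rw [Finset.sum_mul]
    exact Finset.sum_congr rfl fun l _ => by ring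
  rw [e1]
  have e : ∀ (χ : IrrCharacter a.1) (x : nr σ h) (hx : x ∈ a.1),
      sext a.1 (χ : a.1 → ℂ) x = (χ : a.1 → ℂ) ⟨x, hx⟩ := fun χ x hx => sext_coe a.1 _ ⟨x, hx⟩
  simp only [e _ _ huA, e _ _ hvA]
  rw [sum_irr_mul_conj]
  have hiff : IsConj (⟨s ^ l, huA⟩ : a.1) ⟨s ^ m, hvA⟩ ↔ m = l ∨ m = r * l % (2 * h) := by
    rw [isConj_iff]
    constructor
    · rintro ⟨⟨x, hx⟩, hxe⟩
      have hx' : x * s ^ l * x⁻¹ = s ^ m := congrArg Subtype.val hxe
      obtain ⟨i, -, rfl | rfl⟩ := hd.mem_form hx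
      · rw [((Commute.refl s).pow_pow i l).eq, mul_inv_cancel_right] at hx'
        exact Or.inl (hd.toCyc.pow_inj hm.2.1 hl.2.1 hx'.symm)
      · rw [hd.conj_out, ← hd.pow_mod] at hx'
        exact Or.inr (hd.toCyc.pow_inj hm.2.1 (Nat.mod_lt _ (by have := hd.two_le; omega))
          hx'.symm)
    · rintro (rfl | rfl)
      · exact ⟨1, by simp⟩
      · exact ⟨⟨t, hd.memτ⟩, Subtype.ext (by
          show t * s ^ l * t⁻¹ = s ^ (r * l % (2 * h))
          rw [hd.conj_pow, hd.pow_mod])⟩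
  have hcard : (Nat.card (Subgroup.centralizer ({(⟨s ^ l, huA⟩ : a.1)} : Set a.1)) : ℂ) =
      ((2 * h : ℕ) : ℂ) := by
    have hle : Subgroup.zpowers s ≤ a.1 := Subgroup.zpowers_le.2 hd.memσ
    have : Subgroup.centralizer ({(⟨s ^ l, huA⟩ : a.1)} : Set a.1) =
        (Subgroup.zpowers s).subgroupOf a.1 := by
      ext x
      rw [Subgroup.mem_centralizer_singleton_iff, Subgroup.mem_subgroupOf]
      constructor
      · exact fun hx => hd.cent_good hl x.2 (congrArg Subtype.val hx)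
      · rintro ⟨j, hj⟩
        exact Subtype.ext (by
          show (x : nr σ h) * s ^ l = s ^ l * x
          rw [← hj]; exact ((Commute.refl s).zpow_left j |>.pow_right l).eq)
    rw [this, Nat.card_congr (Subgroup.subgroupOfEquivOfLe hle).toEquiv, Nat.card_zpowers,
      hd.ord]
  rw [hcard]
  have hne := (hd.r_good hl).2
  by_cases h1 : m = l
  · rw [if_pos (hiff.2 (Or.inl h1)), if_pos h1, if_neg (by omega)]; ring
  · by_cases h2 : m = r * l % (2 * h)
    · rw [if_pos (hiff.2 (Or.inr h2)), if_neg h1, if_pos h2]; ring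
    · rw [if_neg (fun h3 => by rcases hiff.1 h3 with e | e <;> contradiction), if_neg h1, if_neg h2,
        add_zero, mul_zero]

/-- Conjugate exponents give equal values. -/
theorem Par.lam_conj (P : Par M B D e σ τ h r f a s t ψ₀ T) (χ : IrrCharacter G) (i : ℕ) :
    lam a T χ (s ^ (r * i % (2 * h))) = lam a T χ (s ^ i) := by
  classical
  refine Finset.sum_congr rfl fun l _ => ?_
  congr 1
  rw [P.dg.pow_mod, ← P.dg.conj_pow]
  have h1 := irr_isClassFun l ⟨s ^ i, P.dg.pow_mem' i⟩ ⟨t, P.dg.memτ⟩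
  rw [← sext_coe a.1 (l : a.1 → ℂ), ← sext_coe a.1 (l : a.1 → ℂ)] at h1
  exact h1

/-- Multiplying a rotation by a central involution. -/
theorem Par.lam_central (P : Par M B D e σ τ h r f a s t ψ₀ T) (hz : σ ^ h ∈ Subgroup.center G)
    (χ : IrrCharacter G) {i : ℕ} (hi : Good h i) :
    (ψ₀ : nr σ h → ℂ) (s ^ h) / (ψ₀ : nr σ h → ℂ) 1 * lam a T χ (s ^ (i + h)) =
      (χ : G → ℂ) (σ ^ h) / (χ : G → ℂ) 1 * lam a T χ (s ^ i) := by
  classical
  have hd := P.dg
  have hzc : s ^ h ∈ Subgroup.center (nr σ h) := Subgroup.mem_center_iff.2 fun g => Subtype.ext (by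
    simp only [Subgroup.coe_mul, P.toLoc.coe_pow]
    exact Subgroup.mem_center_iff.1 hz g)
  have hmz : s ^ h ∈ Subgroup.zpowers (s ^ i) :=
    hd.toCyc.z_mem (Subgroup.npow_mem_zpowers s i) (hd.toCyc.pow_ne_one hi.1 hi.2.1)
  have hzp : Subgroup.zpowers (s ^ (i + h)) = Subgroup.zpowers (s ^ i) := by
    have h1 : Subgroup.zpowers (s ^ (i + h)) ≤ Subgroup.zpowers (s ^ i) := by
      rw [Subgroup.zpowers_le, pow_add]
      exact Subgroup.mul_mem _ (Subgroup.mem_zpowers _) hmz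
    have h2 : s ^ h ∈ Subgroup.zpowers (s ^ (i + h)) := by
      refine hd.toCyc.z_mem (Subgroup.npow_mem_zpowers s _) fun e => ?_
      rw [pow_add, mul_eq_one_iff_eq_inv, ← eq_inv_of_mul_eq_one_left hd.toCyc.z_ne.2] at e
      exact hi.2.2 (hd.toCyc.pow_inj hi.2.1 (by have := hi.1; have := hd.two_le; omega) e)
    refine le_antisymm h1 (Subgroup.zpowers_le.2 ?_)
    have : s ^ i = s ^ (i + h) * (s ^ h)⁻¹ := by rw [pow_add, mul_inv_cancel_right]
    rw [this]
    exact Subgroup.mul_mem _ (Subgroup.mem_zpowers _) (Subgroup.inv_mem _ h2)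
  have hbeq : bEl 2 M a.1 a.2 (s ^ (i + h)) = bEl 2 M a.1 a.2 (s ^ i) := by
    unfold bEl; rw [hzp]
  obtain ⟨c, hc, hcne⟩ := P.exists_piv (hd.pow_mem' i)
  have hc2 : c ∈ regC 2 (s ^ (i + h)) := by
    obtain ⟨h1, h2⟩ := mem_regC.1 hc
    refine mem_regC.2 ⟨?_, h2⟩
    rw [pow_add]
    exact h1.mul_left (Subgroup.mem_center_iff.1 hzc c).symm
  have hsh : ∀ g : nr σ h, s ^ (i + h) * g = s ^ h * (s ^ i * g) := fun g => by
    rw [add_comm, pow_add, mul_assoc]
  have hψ : piv M a ψ₀ (s ^ (i + h)) c =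
      (ψ₀ : nr σ h → ℂ) (s ^ h) / (ψ₀ : nr σ h → ℂ) 1 * piv M a ψ₀ (s ^ i) c := by
    unfold piv pairVal
    rw [hbeq, Finset.mul_sum]
    refine Finset.sum_congr rfl fun g _ => ?_
    rw [hsh, mul_assoc (s ^ h), central_value_mul hzc ψ₀ (s ^ i * c * g)]
    ring
  have hχ : pairVal (bEl 2 M a.1 a.2 (s ^ (i + h))) (fun k : nr σ h => (χ : G → ℂ) k)
      (s ^ (i + h) * c) = (χ : G → ℂ) (σ ^ h) / (χ : G → ℂ) 1 *
        pairVal (bEl 2 M a.1 a.2 (s ^ i)) (fun k : nr σ h => (χ : G → ℂ) k) (s ^ i * c) := by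
    unfold pairVal
    rw [hbeq, Finset.mul_sum]
    refine Finset.sum_congr rfl fun g _ => ?_
    dsimp only
    rw [hsh, mul_assoc (s ^ h), Subgroup.coe_mul (nr σ h) (s ^ h), P.toLoc.coe_pow,
      central_value_mul hz χ]
    ring
  rw [P.pair_char (hd.pow_mem' _) hc2, P.pair_char (hd.pow_mem' _) hc, hψ] at hχ
  apply mul_right_cancel₀ hcne
  linear_combination hχ

end CfsgLib.Blocks.Tame
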