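import Cfsg.Agent.Lib.Blocks.TameBlock.Columns

/-!
# The rows of the contributions
-/

namespace CfsgLib.Blocks.Tame

open Cfsg CfsgLib.CharTheory CfsgLib.Blocks.DihBlock
open scoped ComplexConjugate

set_option linter.unusedVariables false
set_option linter.unusedSimpArgs false
set_option linter.style.haveILetI false
set_option linter.unusedSectionVars false

universe u

variable {G : Type u} [Group G] [Fintype G] {M : Ideal AlgInt} {B : Set (IrrCharacter G)}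
  {D : Subgroup G} {e : Set (IrrCharacter (Subgroup.centralizer (D : Set G)))} {σ τ : G} {h r : ℕ}

/-- The row identity at a central element of the defect group. -/
theorem TG.row_central (hd : TG D σ τ h r) (hM : IsPModular 2 M)
    (hmax : IsMaximalBrauerPair 2 M B D e) {u : G} (hu : u ∈ D)
    (hc : ∀ y ∈ D, u * y = y * u) (χ : IrrCharacter G) :
    ∑ ψ ∈ bset B, (((4 * h : ℕ) : ℂ) * pp 2 M D e u χ ψ) *
        conj (((4 * h : ℕ) : ℂ) * pp 2 M D e u χ ψ) =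
      ((4 * h : ℕ) : ℂ) * (((4 * h : ℕ) : ℂ) * pp 2 M D e u χ χ) := by
  classical
  obtain ⟨b, hb, hind, hsec⟩ := pp_secPair hM hmax hu
  haveI := Fintype.ofFinite (Subgroup.centralizer ((Subgroup.zpowers u : Subgroup G) : Set G))
  have hdef := blockDefect_bEl_central hM hmax hu (Subgroup.mem_centralizer_iff.2 fun y hy => (hc y hy).symm)
  rw [hb] at hdef
  simp only at hdef
  obtain ⟨k, hk⟩ := IsPGroup.iff_orderOf.1 hmax.1.1.1 ⟨u, hu⟩
  rw [← Subgroup.orderOf_coe] at hk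
  have h1 := sum_secPair_row hM (isCentr_zpowers u) ⟨k, hk⟩ hind χ
  simp only [hsec, hdef, hd.defect hM hmax] at h1
  rw [h1, ← Nat.cast_pow, hd.defect hM hmax]

variable [Fintype (nr σ h)] {f : Set (IrrCharacter (nr σ h))} {a : BrauerPairIdx (nr σ h)}
  {s t : nr σ h} {ψ₀ : IrrCharacter (nr σ h)} {T : IrrCharacter a.1 → IrrCharacter (nr σ h)}
  {ζ : ℂ} {b : IrrCharacter G → ℕ → ℤ}

theorem Par.row_q1 (P : Par M B D e σ τ h r f a s t ψ₀ T) {χ : IrrCharacter G} (hχ : χ ∈ B) :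
    ∑ ψ ∈ bset B, q1 B χ ψ * q1 B χ ψ = 4 * h * q1 B χ χ := by
  have h1 := P.hd.row_central P.hM P.hmax D.one_mem (fun y _ => by rw [one_mul, mul_one]) χ
  rw [P.pp_one hχ hχ, Finset.sum_congr rfl fun ψ hψ => by
    rw [P.pp_one hχ (mem_bset.1 hψ), map_intCast]] at h1
  exact_mod_cast h1

theorem Par.row_qz (P : Par M B D e σ τ h r f a s t ψ₀ T) (hζ : IsPrimitiveRoot ζ (2 * h))
    (C : Cf h r ζ s a T b) {χ : IrrCharacter G} (hχ : χ ∈ B) :
    ∑ ψ ∈ bset B, qzz M B D e σ τ h b χ ψ * qzz M B D e σ τ h b χ ψ =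
      4 * h * qzz M B D e σ τ h b χ χ := by
  have h1 := P.hd.row_central P.hM P.hmax (P.hd.pow_mem' h) (fun y hy => (P.hd.z_central hy).eq.symm) χ
  rw [show ((4 * h : ℕ) : ℂ) * pp 2 M D e (σ ^ h) χ χ = qz M D e σ h χ χ from rfl,
    P.qzz_spec hζ C hχ hχ, Finset.sum_congr rfl fun ψ hψ => by
      rw [show ((4 * h : ℕ) : ℂ) * pp 2 M D e (σ ^ h) χ ψ = qz M D e σ h χ ψ from rfl,
        P.qzz_spec hζ C hχ (mem_bset.1 hψ), map_intCast]] at h1
  exact_mod_cast h1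

theorem Par.qzz_nonneg (P : Par M B D e σ τ h r f a s t ψ₀ T) (hζ : IsPrimitiveRoot ζ (2 * h))
    (C : Cf h r ζ s a T b) {χ : IrrCharacter G} (hχ : χ ∈ B) :
    0 ≤ qzz M B D e σ τ h b χ χ := by
  obtain ⟨x, hx, he⟩ := pp_self_nonneg (D := D) (e := e) P.hM (σ ^ h) χ
  have h1 := P.qzz_spec hζ C hχ hχ
  rw [qz, he] at h1
  have h2 : ((4 * h : ℕ) : ℝ) * x = (qzz M B D e σ τ h b χ χ : ℝ) := by exact_mod_cast h1
  have h3 : (0 : ℝ) ≤ (qzz M B D e σ τ h b χ χ : ℝ) := h2 ▸ mul_nonneg (Nat.cast_nonneg _) hx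
  exact_mod_cast h3

/-- The outer contributions on and off the odd set. -/
theorem Par.svz_values (P : Par M B D e σ τ h r f a s t ψ₀ T) (hζ : IsPrimitiveRoot ζ (2 * h))
    (C : Cf h r ζ s a T b) {x : ℕ} (hx : x ∈ uset M D e σ τ) {χ : IrrCharacter G} (hχ : χ ∈ B) :
    (χ ∈ eset B b → svz M D e (oe σ τ x) χ χ = 1) ∧
      (χ ∉ eset B b → svz M D e (oe σ τ x) χ χ = 0 ∧
        ∀ ψ ∈ B, svz M D e (oe σ τ x) χ ψ = 0) := by
  classical
  have hd := P.hd
  obtain ⟨hx2, hxi⟩ := mem_uset.1 hx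
  obtain ⟨hloc, hsum⟩ := P.out_local (hd.out_mem x) hxi (hd.oe_order x).2
  set S : IrrCharacter G → ℤ := fun χ => svz M D e (oe σ τ x) χ χ with hS
  have hspec : ∀ χ ∈ B, sv M D e (oe σ τ x) χ χ = (S χ : ℂ) ∧ (2 : ℤ) ∣ S χ - b χ 0 * b χ 0 :=
    fun χ hχ => P.svz_spec hζ C hx hχ hχ
  have hnn : ∀ χ ∈ bset B, 0 ≤ S χ := by
    intro χ hχ
    have h1 := (hspec χ (mem_bset.1 hχ)).1
    rw [hloc, Complex.mul_conj] at h1
    have h2 : Complex.normSq (cval (oe σ τ x) (bEl 2 M D e (oe σ τ x)) (χ : G → ℂ)) = (S χ : ℝ) := by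
      exact_mod_cast h1
    have h3 := Complex.normSq_nonneg (cval (oe σ τ x) (bEl 2 M D e (oe σ τ x)) (χ : G → ℂ))
    rw [h2] at h3
    exact_mod_cast h3
  have h4 : ∑ χ ∈ bset B, S χ = 4 := by
    rw [Finset.sum_congr rfl fun χ hχ => (hspec χ (mem_bset.1 hχ)).1] at hsum
    exact_mod_cast hsum
  obtain ⟨hE, hX1, hX0⟩ := (P.gram_even hζ C).x_vals
  have hge : ∀ χ ∈ eset B b, 1 ≤ S χ := fun χ hχ => by
    have h1 := (hspec χ (mem_eset.1 hχ).1).2
    rw [hX1 χ hχ] at h1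
    have := hnn χ (mem_bset.2 (mem_eset.1 hχ).1)
    omega
  have hsub : eset B b ⊆ bset B := Finset.filter_subset _ _
  have hsplit := Finset.sum_sdiff hsub (f := S)
  have hEs : (4 : ℤ) ≤ ∑ χ ∈ eset B b, S χ := by
    have := Finset.card_nsmul_le_sum _ _ _ hge
    rw [hE] at this
    simpa using this
  have hrest0 : 0 ≤ ∑ χ ∈ bset B \ eset B b, S χ :=
    Finset.sum_nonneg fun χ hχ => hnn χ (Finset.mem_sdiff.1 hχ).1
  have hE4 : ∑ χ ∈ eset B b, (S χ - 1) = 0 := by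
    rw [Finset.sum_sub_distrib, Finset.sum_const, hE, nsmul_eq_mul, mul_one]
    push_cast
    omega
  have hone := (Finset.sum_eq_zero_iff_of_nonneg fun χ hχ => by
    have := hge χ hχ; omega).1 hE4
  have hzero := (Finset.sum_eq_zero_iff_of_nonneg fun χ hχ => hnn χ (Finset.mem_sdiff.1 hχ).1).1
    (show ∑ χ ∈ bset B \ eset B b, S χ = 0 by omega)
  refine ⟨fun hχE => ?_, fun hχE => ?_⟩
  · have := hone χ hχE
    show S χ = 1
    omega
  · have h0 : S χ = 0 := hzero χ (Finset.mem_sdiff.2 ⟨mem_bset.2 hχ, hχE⟩)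
    refine ⟨h0, fun ψ hψ => ?_⟩
    have h1 := (hspec χ hχ).1
    rw [hloc, h0, Int.cast_zero, Complex.mul_conj, Complex.ofReal_eq_zero,
      Complex.normSq_eq_zero] at h1
    have h2 := (P.svz_spec hζ C hx hχ hψ).1
    rw [hloc, h1, zero_mul] at h2
    exact_mod_cast h2.symm

/-- The diagonal of the inner product formula. -/
theorem Par.diag (P : Par M B D e σ τ h r f a s t ψ₀ T) (hζ : IsPrimitiveRoot ζ (2 * h))
    (C : Cf h r ζ s a T b) {χ : IrrCharacter G} (hχ : χ ∈ B) [Decidable (χ ∈ eset B b)] :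
    q1 B χ χ + qzz M B D e σ τ h b χ χ + TT h b χ χ +
      (if χ ∈ eset B b then (h : ℤ) * (uset M D e σ τ).card else 0) = 4 * h := by
  classical
  rw [qzz, if_pos rfl]
  have e : ∑ x ∈ uset M D e σ τ, (h : ℤ) * svz M D e (oe σ τ x) χ χ =
      if χ ∈ eset B b then (h : ℤ) * (uset M D e σ τ).card else 0 := by
    by_cases hE : χ ∈ eset B b
    · rw [if_pos hE, Finset.sum_congr rfl fun x hx => by
        rw [(P.svz_values hζ C hx hχ).1 hE, mul_one], Finset.sum_const, nsmul_eq_mul, mul_comm]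
    · rw [if_neg hE, Finset.sum_eq_zero fun x hx => by
        rw [((P.svz_values hζ C hx hχ).2 hE).1, mul_zero]]
  rw [e]
  push_cast
  ring

/-- The diagonal sum stays below four times `h`. -/
theorem Par.TT_lt (P : Par M B D e σ τ h r f a s t ψ₀ T) (hζ : IsPrimitiveRoot ζ (2 * h))
    (C : Cf h r ζ s a T b) {χ : IrrCharacter G} (hχ : χ ∈ B) :
    q1 B χ χ + TT h b χ χ ≤ 4 * h := by
  classical
  have h1 := P.diag hζ C hχ
  have h2 := P.qzz_nonneg hζ C hχ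
  split_ifs at h1
  · have : (0 : ℤ) ≤ (h : ℤ) * (uset M D e σ τ).card := by positivity
    omega
  · omega

/-- The offdiagonal contribution at the involution outside the odd set. -/
theorem Par.qzz_off (P : Par M B D e σ τ h r f a s t ψ₀ T) (hζ : IsPrimitiveRoot ζ (2 * h))
    (C : Cf h r ζ s a T b) {χ ψ : IrrCharacter G} (hχ : χ ∈ B) (hψ : ψ ∈ B)
    (hE : χ ∉ eset B b) (hne : χ ≠ ψ) :
    qzz M B D e σ τ h b χ ψ = -q1 B χ ψ - TT h b χ ψ := by
  rw [qzz, if_neg hne, Finset.sum_eq_zero fun x hx => by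
    rw [((P.svz_values hζ C hx hχ).2 hE).2 ψ hψ, mul_zero]]
  ring

end CfsgLib.Blocks.Tame
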