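import Cfsg.Agent.Lib.Blocks.TameBlock.Rows

/-!
# The members outside the odd set
-/

namespace CfsgLib.Blocks.Tame

open Cfsg CfsgLib.CharTheory CfsgLib.Blocks.DihBlock
open scoped ComplexConjugate

set_option linter.unusedVariables false
set_option linter.unusedSimpArgs false
set_option linter.style.haveILetI false
set_option linter.unusedSectionVars false

universe u

variable {G : Type u} [Group G] [Fintype G] {M : Ideal AlgInt} {B : Set (IrrCharacter G)}
  {D : Subgroup G} {e : Set (IrrCharacter (Subgroup.centralizer (D : Set G)))} {σ τ : G} {h r : ℕ}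
  [Fintype (nr σ h)] {f : Set (IrrCharacter (nr σ h))} {a : BrauerPairIdx (nr σ h)}
  {s t : nr σ h} {ψ₀ : IrrCharacter (nr σ h)} {T : IrrCharacter a.1 → IrrCharacter (nr σ h)}
  {ζ : ℂ} {b : IrrCharacter G → ℕ → ℤ}

theorem sum_coe_reps {h r p : ℕ} (F : ℕ → ℤ) :
    ∑ j ∈ reps h r p, F j = ∑ j : reps h r p, F (j : ℕ) :=
  (Finset.sum_coe_sort (reps h r p) F).symm

/-- Sums of values supported on a set of constant value. -/
theorem ES_const {p : ℕ} {χ : IrrCharacter G} (S : Finset (reps h r p)) (g : ℤ) (hg : g * g = 1)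
    (hS : ∀ j ∈ S, b χ (j : ℕ) = g) (h0 : ∀ j ∉ S, b χ (j : ℕ) = 0) :
    ES h r p b χ = g * S.card ∧ EQ h r p b χ = S.card := by
  classical
  constructor
  · rw [ES, sum_coe_reps (fun j => b χ j), ← Finset.sum_subset (Finset.subset_univ S)
      fun j _ hj => h0 j hj, Finset.sum_congr rfl hS, Finset.sum_const, nsmul_eq_mul, mul_comm]
  · rw [EQ, sum_coe_reps (fun j => b χ j * b χ j), ← Finset.sum_subset (Finset.subset_univ S)
      fun j _ hj => by rw [h0 j hj, mul_zero],
      Finset.sum_congr rfl fun j hj => by rw [hS j hj, hg], Finset.sum_const, nsmul_eq_mul,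
      mul_one]

theorem Gram2.card_union {ι κ : Type*} [DecidableEq ι] [Fintype κ] [DecidableEq κ] {S : Finset ι}
    {Z : κ → ι → ℤ} (g : Gram2 S Z) :
    (Finset.univ.biUnion (supp S Z)).card ≤ Fintype.card κ + 1 := by
  rcases isEmpty_or_nonempty κ with hκ | ⟨⟨j0⟩⟩
  · simp
  have hsub : Finset.univ.biUnion (supp S Z) ⊆
      supp S Z j0 ∪ (Finset.univ.erase j0).biUnion (fun k => supp S Z k \ supp S Z j0) := by
    intro i hi
    obtain ⟨k, -, hk⟩ := Finset.mem_biUnion.1 hi
    by_cases hj : i ∈ supp S Z j0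
    · exact Finset.mem_union_left _ hj
    · exact Finset.mem_union_right _ (Finset.mem_biUnion.2
        ⟨k, Finset.mem_erase.2 ⟨fun e => hj (e ▸ hk), Finset.mem_univ k⟩,
          Finset.mem_sdiff.2 ⟨hk, hj⟩⟩)
  have hle : ∀ k ∈ Finset.univ.erase j0, (supp S Z k \ supp S Z j0).card ≤ 1 := by
    intro k hk
    obtain ⟨c, hc, -⟩ := g.meet (Finset.ne_of_mem_erase hk)
    rw [Finset.card_sdiff, Finset.inter_comm, hc, g.card, Finset.card_singleton]
  refine (Finset.card_le_card hsub).trans ((Finset.card_union_le _ _).trans ?_)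
  have h1 := Finset.card_biUnion_le_card_mul _ _ 1 hle
  rw [Finset.card_erase_of_mem (Finset.mem_univ j0), Finset.card_univ, mul_one] at h1
  have h2 : 0 < Fintype.card κ := Fintype.card_pos_iff.2 ⟨j0⟩
  rw [g.card]
  omega

/-- A member with vanishing leading and representative coefficients has no coefficient. -/
theorem Cf.all_zero (C : Cf h r ζ s a T b) {K : Type u} [Group K] [Finite K] {D' : Subgroup K}
    {σ' τ' : K} (hd : TG D' σ' τ' h r) {χ : IrrCharacter G} (h0 : b χ 0 = 0)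
    (hY : ∀ j : reps h r 0, b χ (j : ℕ) = 0) (hZ : ∀ j : reps h r 1, b χ (j : ℕ) = 0) :
    ∀ j < 2 * h, b χ j = 0 := by
  obtain ⟨-, -, e3⟩ := C.sums hd χ
  have e0 : EQ h r 0 b χ = 0 := Finset.sum_eq_zero fun j hj => by rw [hY ⟨j, hj⟩, mul_zero]
  have e1 : EQ h r 1 b χ = 0 := Finset.sum_eq_zero fun j hj => by rw [hZ ⟨j, hj⟩, mul_zero]
  rw [h0, e0, e1] at e3
  norm_num at e3
  intro j hj
  exact mul_self_eq_zero.1 ((Finset.sum_eq_zero_iff_of_nonneg fun j _ => mul_self_nonneg _).1 e3 j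
    (Finset.mem_range.2 hj))

/-- A member without coefficients meets the odd set in multiples of `h`. -/
theorem Par.extra_entry (P : Par M B D e σ τ h r f a s t ψ₀ T) (hζ : IsPrimitiveRoot ζ (2 * h))
    (C : Cf h r ζ s a T b) {χ ψ : IrrCharacter G} (hχ : χ ∈ eset B b) (hψ : ψ ∈ B)
    (hz : ∀ j < 2 * h, b ψ j = 0) :
    (h : ℤ) ∣ q1 B χ ψ ∧ q1 B χ ψ ≠ 0 := by
  obtain ⟨hχB, hodd⟩ := mem_eset.1 hχ
  have h0 := (P.height_odd hζ C hχB).1 hodd
  refine ⟨?_, (q1_exact P.hM P.hmax.1.2.1 hχB hψ h0).2.2⟩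
  have h2 := P.hd.two_le
  have h1 := P.q1_mod_h hζ C hχB hψ (by rw [hz 0 (by omega), mul_zero]; exact dvd_zero 2)
  rwa [show Pv h b ψ = 0 from Finset.sum_eq_zero fun j hj => hz j (Finset.mem_range.1 hj),
    mul_zero, sub_zero] at h1

/-- A short row forces all members to have coefficients. -/
theorem Par.no_extra (P : Par M B D e σ τ h r f a s t ψ₀ T) (hζ : IsPrimitiveRoot ζ (2 * h))
    (C : Cf h r ζ s a T b) {χ : IrrCharacter G} (hχ : χ ∈ eset B b) (hq : q1 B χ χ = 1)
    (h4 : 4 ≤ h) {ψ : IrrCharacter G} (hψ : ψ ∈ B) :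
    ¬ ∀ j < 2 * h, b ψ j = 0 := by
  intro hz
  obtain ⟨⟨w, hw⟩, hne⟩ := P.extra_entry hζ C hχ hψ hz
  obtain ⟨hχB, hodd⟩ := mem_eset.1 hχ
  have hne' : ψ ≠ χ := fun e1 => by
    rw [← e1, mem_eset, hz 0 (by omega)] at hχ
    simp at hχ
  have h1 := P.row_q1 hχB
  rw [hq, mul_one] at h1
  have h2 : q1 B χ χ * q1 B χ χ + q1 B χ ψ * q1 B χ ψ ≤
      ∑ φ ∈ bset B, q1 B χ φ * q1 B χ φ := by
    rw [← Finset.sum_pair (f := fun φ => q1 B χ φ * q1 B χ φ) hne'.symm]
    refine Finset.sum_le_sum_of_subset_of_nonneg ?_ fun φ _ _ => mul_self_nonneg _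
    intro φ hφ
    simp only [Finset.mem_insert, Finset.mem_singleton] at hφ
    rcases hφ with rfl | rfl
    · exact mem_bset.2 hχB
    · exact mem_bset.2 hψ
  rw [h1, hq, hw] at h2
  have hw1 : 1 ≤ w * w := by
    have : w ≠ 0 := fun e1 => hne (by rw [hw, e1, mul_zero])
    have := mul_self_pos.2 this
    omega
  have hh : (4 : ℤ) ≤ h := by exact_mod_cast h4
  nlinarith [mul_le_mul_of_nonneg_left hw1 (mul_self_nonneg (h : ℤ))]

/-- The classification of the members outside the odd set. -/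
theorem Par.shape (P : Par M B D e σ τ h r f a s t ψ₀ T) (hζ : IsPrimitiveRoot ζ (2 * h))
    (C : Cf h r ζ s a T b) (hk : h + 2 ≤ (bset B).card) :
    ∃ Ch : Finset (IrrCharacter G), Ch ⊆ bset B \ eset B b ∧
      (4 ≤ h → Ch.card + 1 = h) ∧ (h = 2 → Ch = ∅) ∧
      (∀ χ ∈ Ch, ∃ v w : ℤ, Pv h b χ = 2 * v ∧ Nv h b χ = 2 * w ∧ Odd v ∧ Odd w) ∧
      ∀ χ ∈ bset B, χ ∉ eset B b → χ ∉ Ch → ∀ j < 2 * h, b χ j = 0 := by
  classical
  have hd := P.dg
  have h2 := hd.two_le
  have hn0 : 2 * Fintype.card (reps h r 0) + 2 = h := by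
    rw [Fintype.card_coe, hd.card_reps (by norm_num)]
    have := hd.h_even
    omega
  have hn1 : 2 * Fintype.card (reps h r 1) + 2 = h := by
    rw [Fintype.card_coe, hd.card_reps (by norm_num)]
    have := hd.h_even
    omega
  obtain ⟨Q, sj, fj, S⟩ := (P.gram_even hζ C).exists_shape
  obtain ⟨g2, hXZ⟩ := P.gram_odd hζ C
  set Z : reps h r 1 → IrrCharacter G → ℤ := fun j χ => b χ (j : ℕ) with hZdef
  set E := eset B b with hEdef
  have hE : E.card = 4 := S.card
  have hsubE : E ⊆ bset B := S.sub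
  -- values on the odd set
  have hTE : ∀ χ ∈ E, ∃ m : ℕ, m = (Finset.univ.filter fun j => χ ∈ Q j).card ∧
      TE h r b χ = 2 * (1 + 2 * (m : ℤ)) * ((h : ℤ) - 1 - 2 * m) := by
    intro χ hχ
    refine ⟨_, rfl, ?_⟩
    have hx := S.x1 χ hχ
    obtain ⟨e1, e2⟩ := ES_const (h := h) (r := r) (b := b) (p := 0) (χ := χ)
      (Finset.univ.filter fun j => χ ∈ Q j) (b χ 0) hx
      (fun j hj => S.yP j χ (Finset.mem_filter.1 hj).2) fun j hj =>
        S.y0 j χ (hsubE hχ) (fun e1 => hj (Finset.mem_filter.2 ⟨Finset.mem_univ j, e1⟩))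
          fun e1 => S.sE j (e1 ▸ hχ)
    rw [TE, e1, e2]
    linear_combination (-2 * (1 + 2 * ((Finset.univ.filter fun j => χ ∈ Q j).card : ℤ)) ^ 2 +
      2 * (h : ℤ)) * hx
  -- the vanishing at members outside all supports
  have hzero : ∀ χ ∈ bset B, χ ∉ E → χ ∉ Finset.univ.image sj →
      χ ∉ Finset.univ.biUnion (supp (bset B) Z) → ∀ j < 2 * h, b χ j = 0 := by
    intro χ hχ hχE hs hZs
    refine C.all_zero hd (S.x0 χ hχ hχE) (fun j => S.y0 j χ hχ (fun e1 => hχE (S.Psub j e1))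
      fun e1 => hs (e1 ▸ Finset.mem_image_of_mem sj (Finset.mem_univ j))) fun j => ?_
    by_contra hne
    exact hZs (Finset.mem_biUnion.2 ⟨j, Finset.mem_univ j, Finset.mem_filter.2 ⟨hχ, hne⟩⟩)
  have hbound : ∀ χ ∈ bset B, q1 B χ χ + TE h r b χ + TO h r b χ ≤ 4 * h := fun χ hχ => by
    have h1 := P.TT_lt hζ C (mem_bset.1 hχ)
    rw [(C.TT_split hd χ).1] at h1
    linarith
  have hpos : ∀ χ ∈ bset B, 0 < q1 B χ χ := fun χ hχ =>
    q1_pos P.hM P.hmax.1.2.1 (mem_bset.1 hχ)
  -- the pairs are injective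
  have hinj : Function.Injective sj := by
    rcases S.inj_or with hinj | ⟨hall, hlo, hhi⟩
    · exact hinj
    exfalso
    obtain ⟨k, hk'⟩ := hd.toCyc.hpow
    have hh8 : h = 8 := by
      rcases k with _ | _ | _ | k
      · norm_num at hk'; omega
      · norm_num at hk'; omega
      · norm_num at hk'; omega
      · rw [pow_succ, pow_succ, pow_succ, pow_succ] at hk'
        have := Nat.one_le_two_pow (n := k)
        omega
    obtain ⟨j, k', hjk⟩ := Fintype.one_lt_card_iff.1 hlo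
    obtain ⟨χ, hχj, hχk⟩ : ∃ χ ∈ Q j, χ ∉ Q k' := by
      by_contra hc
      push Not at hc
      exact (hall j k' hjk).1 (Finset.eq_of_subset_of_card_le hc (by rw [S.Pcard, S.Pcard]))
    have hχE : χ ∈ E := S.Psub j hχj
    obtain ⟨m, hm, hte⟩ := hTE χ hχE
    have hm1 : 1 ≤ m := hm ▸ Finset.card_pos.2 ⟨j, Finset.mem_filter.2 ⟨Finset.mem_univ j, hχj⟩⟩
    have hm2 : m ≤ 2 := by
      have h3 : (Finset.univ.filter fun j => χ ∈ Q j) ⊆ Finset.univ.erase k' := fun i hi =>
        Finset.mem_erase.2 ⟨fun e1 => hχk (e1 ▸ (Finset.mem_filter.1 hi).2), Finset.mem_univ i⟩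
      have h4 := Finset.card_le_card h3
      rw [← hm, Finset.card_erase_of_mem (Finset.mem_univ k'), Finset.card_univ] at h4
      omega
    have hte30 : TE h r b χ = 30 := by
      rw [hte, hh8]
      interval_cases m <;> norm_num
    have hq : q1 B χ χ = 1 := by
      have h1 := hbound χ (hsubE hχE)
      have h3 := (C.TT_split hd χ).2.2
      have h4 := hpos χ (hsubE hχE)
      have h5 := q1_odd P.hM P.hmax.1.2.1 (mem_eset.1 hχE).1 (mem_eset.1 hχE).1
        ((P.height_odd hζ C (mem_eset.1 hχE).1).1 (mem_eset.1 hχE).2)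
        ((P.height_odd hζ C (mem_eset.1 hχE).1).1 (mem_eset.1 hχE).2)
      rw [hte30, hh8] at h1
      rw [hh8] at h3
      omega
    have hcov : bset B ⊆ E ∪ {sj j} ∪ Finset.univ.biUnion (supp (bset B) Z) := by
      intro ψ hψ
      by_contra hn
      simp only [Finset.mem_union, Finset.mem_singleton, not_or] at hn
      obtain ⟨⟨hn1, hn2⟩, hn3⟩ := hn
      refine P.no_extra hζ C hχE hq (by omega) (mem_bset.1 hψ) (hzero ψ hψ hn1 ?_ hn3)
      intro hm'
      obtain ⟨i, -, hi⟩ := Finset.mem_image.1 hm'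
      by_cases hij : i = j
      · exact hn2 (by rw [← hi, hij])
      · exact hn2 (hi ▸ (hall i j hij).2.2.1)
    have h1 := (Finset.card_le_card hcov).trans (Finset.card_union_le _ _)
    have h3 := Finset.card_union_le E {sj j}
    rw [hE, Finset.card_singleton] at h3
    have h4 := g2.card_union
    omega
  by_cases hh2 : h = 2
  · refine ⟨∅, Finset.empty_subset _, fun h4 => by omega, fun _ => rfl,
      fun χ hχ => absurd hχ (Finset.notMem_empty χ), fun χ hχ hχE _ => hzero χ hχ hχE ?_ ?_⟩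
    · intro hm
      obtain ⟨j, -, -⟩ := Finset.mem_image.1 hm
      have : 0 < Fintype.card (reps h r 0) := Fintype.card_pos_iff.2 ⟨j⟩
      omega
    · intro hm
      obtain ⟨j, -, -⟩ := Finset.mem_biUnion.1 hm
      have : 0 < Fintype.card (reps h r 1) := Fintype.card_pos_iff.2 ⟨j⟩
      omega
  obtain ⟨qh, hqh⟩ : 4 ∣ h := by
    obtain ⟨k, hk'⟩ := hd.toCyc.hpow
    rcases k with _ | k
    · exact absurd (by simpa using hk') hh2
    · exact ⟨2 ^ k, by rw [hk']; ring⟩
  haveI : Nonempty (reps h r 1) := Fintype.card_pos_iff.1 (by omega)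
  -- values at the points of the odd vectors
  have hTO : ∀ χ, χ ∈ Finset.univ.biUnion (supp (bset B) Z) → ∃ (m : ℕ) (g : ℤ), g * g = 1 ∧
      m = (Finset.univ.filter fun j => χ ∈ supp (bset B) Z j).card ∧
      ES h r 1 b χ = g * m ∧ TO h r b χ = 4 * h * m - 8 * ((m : ℤ) * m) := by
    intro χ hχ
    obtain ⟨j, -, hj⟩ := Finset.mem_biUnion.1 hχ
    have hg := g2.unit hj
    obtain ⟨e1, e2⟩ := ES_const (h := h) (r := r) (b := b) (p := 1) (χ := χ)
      (Finset.univ.filter fun j => χ ∈ supp (bset B) Z j) (Z j χ) hg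
      (fun i hi => g2.sign (Finset.mem_filter.1 hi).2 hj) fun i hi => by
        by_contra hne
        exact hi (Finset.mem_filter.2 ⟨Finset.mem_univ i,
          Finset.mem_filter.2 ⟨(Finset.mem_filter.1 hj).1, hne⟩⟩)
    refine ⟨_, _, hg, rfl, e1, ?_⟩
    rw [TO, e1, e2]
    linear_combination (-8 * ((Finset.univ.filter fun j => χ ∈ supp (bset B) Z j).card : ℤ) ^ 2) * hg
  -- a star
  rcases g2.star_or with ⟨c, tt, htinj, htc, hsupp⟩ | ⟨hκ, j, k', c, hjk, hcj, hck, hcl⟩
  swap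
  · exfalso
    have hc : c ∈ Finset.univ.biUnion (supp (bset B) Z) :=
      Finset.mem_biUnion.2 ⟨j, Finset.mem_univ j, hcj⟩
    obtain ⟨m, g, -, hm, -, hto⟩ := hTO c hc
    have hm2 : m = 2 := by
      rw [hm, show (Finset.univ.filter fun i => c ∈ supp (bset B) Z i) = {j, k'} from ?_,
        Finset.card_pair hjk]
      ext i
      simp only [Finset.mem_filter, Finset.mem_univ, true_and, Finset.mem_insert,
        Finset.mem_singleton]
      exact ⟨hcl i, by rintro (rfl | rfl) <;> assumption⟩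
    have hcB : c ∈ bset B := (Finset.mem_filter.1 hcj).1
    have h1 := hbound c hcB
    have h3 := (C.TT_split hd c).2.1
    have h4 := hpos c hcB
    have hh : (h : ℤ) = 8 := by omega
    rw [hto, hm2, hh] at h1
    omega
  -- the star
  have hfilt : ∀ χ, (Finset.univ.filter fun j => χ ∈ supp (bset B) Z j).card =
      if χ = c then Fintype.card (reps h r 1) else
        (Finset.univ.filter fun j => tt j = χ).card := by
    intro χ
    split_ifs with he
    · subst he
      rw [Finset.filter_true_of_mem fun j _ => by rw [hsupp]; simp, Finset.card_univ]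
    · congr 1
      refine Finset.filter_congr fun j _ => ?_
      rw [hsupp, Finset.mem_insert, Finset.mem_singleton, or_iff_right he]
      exact eq_comm
  have hZpts : Finset.univ.biUnion (supp (bset B) Z) = insert c (Finset.univ.image tt) := by
    ext χ
    simp only [Finset.mem_biUnion, Finset.mem_univ, true_and, Finset.mem_insert, Finset.mem_image]
    constructor
    · rintro ⟨j, hj⟩
      rw [hsupp, Finset.mem_insert, Finset.mem_singleton] at hj
      exact hj.imp id fun e1 => ⟨j, e1.symm⟩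
    · rintro (rfl | ⟨j, rfl⟩)
      · exact ⟨Classical.arbitrary _, by rw [hsupp]; simp⟩
      · exact ⟨j, by rw [hsupp]; simp⟩
  have hval : ∀ χ ∈ insert c (Finset.univ.image tt), ∃ v : ℤ, ES h r 1 b χ = v ∧ Odd v ∧
      TO h r b χ = 4 * h - 8 := by
    intro χ hχ
    obtain ⟨m, g, hg, hm, he, hto⟩ := hTO χ (hZpts ▸ hχ)
    rw [hfilt] at hm
    have hgodd : Odd g := by
      rcases Dihedral.units hg with e1 | e1 <;> rw [e1] <;> decide
    by_cases hχc : χ = c
    · rw [if_pos hχc] at hm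
      have hmz : 2 * (m : ℤ) + 2 = h := by rw [hm]; exact_mod_cast hn1
      refine ⟨g * m, he, hgodd.mul ?_, ?_⟩
      · rw [Int.odd_iff]
        omega
      · rw [hto, ← hmz]; ring
    · rw [if_neg hχc] at hm
      obtain ⟨j, -, hj⟩ := Finset.mem_image.1 ((Finset.mem_insert.1 hχ).resolve_left hχc)
      have hm1 : m = 1 := by
        rw [hm, Finset.card_eq_one]
        refine ⟨j, ?_⟩
        ext i
        simp only [Finset.mem_filter, Finset.mem_univ, true_and, Finset.mem_singleton]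
        exact ⟨fun e1 => htinj (e1.trans hj.symm), fun e1 => e1 ▸ hj⟩
      refine ⟨g * m, he, by rw [hm1]; simpa using hgodd, ?_⟩
      rw [hto, hm1]; push_cast; ring
  have hzB : ∀ χ ∈ insert c (Finset.univ.image tt), χ ∈ bset B := by
    intro χ hχ
    rw [← hZpts] at hχ
    obtain ⟨j, -, hj⟩ := Finset.mem_biUnion.1 hχ
    exact (Finset.mem_filter.1 hj).1
  have hnotE : ∀ χ ∈ insert c (Finset.univ.image tt), χ ∉ E := by
    intro χ hχ hχE
    obtain ⟨v, -, -, hto⟩ := hval χ hχ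
    obtain ⟨m, hm, hte⟩ := hTE χ hχE
    have hmn : m ≤ Fintype.card (reps h r 0) := hm ▸ Finset.card_le_univ _
    have hge : 2 * ((h : ℤ) - 1) ≤ TE h r b χ := by
      rw [hte]
      have h3 : (0 : ℤ) ≤ (h : ℤ) - 2 - 2 * m := by omega
      nlinarith [mul_nonneg (Int.natCast_nonneg m) h3]
    have h1 := hbound χ (hsubE hχE)
    have h4 := hpos χ (hsubE hχE)
    rw [hto] at h1
    have hh4 : h = 4 := by omega
    have hodd := q1_odd P.hM P.hmax.1.2.1 (mem_eset.1 hχE).1 (mem_eset.1 hχE).1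
      ((P.height_odd hζ C (mem_eset.1 hχE).1).1 (mem_eset.1 hχE).2)
      ((P.height_odd hζ C (mem_eset.1 hχE).1).1 (mem_eset.1 hχE).2)
    have hq : q1 B χ χ = 1 := by
      rw [hh4] at h1 hge
      omega
    have hκ : Fintype.card (reps h r 1) = 1 := by omega
    obtain ⟨j1, hj1⟩ := Fintype.card_eq_one_iff.1 hκ
    have hboth : c ∈ E ∧ ∀ j, tt j ∈ E := by
      have h5 := hXZ j1
      have hsum : ∑ ψ ∈ bset B, b ψ 0 * b ψ (j1 : ℕ) =
          b c 0 * Z j1 c + b (tt j1) 0 * Z j1 (tt j1) := by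
        rw [← Finset.sum_pair (f := fun ψ => b ψ 0 * Z j1 ψ) (htc j1).symm, ← hsupp j1]
        symm
        refine Finset.sum_subset (Finset.filter_subset _ _) fun ψ hψ hn => ?_
        have : Z j1 ψ = 0 := by
          by_contra hne
          exact hn (Finset.mem_filter.2 ⟨hψ, hne⟩)
        show b ψ 0 * Z j1 ψ = 0
        rw [this, mul_zero]
      rw [hsum] at h5
      have hZc : Z j1 c ≠ 0 := (Finset.mem_filter.1 (show c ∈ supp (bset B) Z j1 by
        rw [hsupp]; simp)).2
      have hZt : Z j1 (tt j1) ≠ 0 := (Finset.mem_filter.1 (show tt j1 ∈ supp (bset B) Z j1 by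
        rw [hsupp]; simp)).2
      have hiff : b c 0 = 0 ↔ b (tt j1) 0 = 0 := by
        constructor <;> intro e1 <;> rw [e1] at h5 <;> simp [hZc, hZt] at h5 <;> exact h5
      have hnz : ∀ ψ ∈ bset B, (ψ ∈ E ↔ b ψ 0 ≠ 0) := fun ψ hψ => ⟨fun hψE e1 => by
        have := S.x1 ψ hψE
        simp [e1] at this, fun hne => by
        by_contra hn
        exact hne (S.x0 ψ hψ hn)⟩
      have hcB := hzB c (Finset.mem_insert_self _ _)
      have htB := hzB (tt j1) (Finset.mem_insert_of_mem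
        (Finset.mem_image_of_mem tt (Finset.mem_univ j1)))
      rcases Finset.mem_insert.1 hχ with e1 | e1
      · subst e1
        refine ⟨hχE, fun j => hj1 j ▸ (hnz _ htB).2 fun e2 => ?_⟩
        exact (hnz _ hcB).1 hχE (hiff.2 e2)
      · obtain ⟨j, -, e2⟩ := Finset.mem_image.1 e1
        rw [hj1 j] at e2
        subst e2
        refine ⟨(hnz _ hcB).2 fun e3 => (hnz _ htB).1 hχE (hiff.1 e3), fun j => hj1 j ▸ hχE⟩
    have hcov : bset B ⊆ E ∪ Finset.univ.image sj := by
      intro ψ hψ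
      by_contra hn
      rw [Finset.mem_union, not_or] at hn
      refine P.no_extra hζ C hχE hq (by omega) (mem_bset.1 hψ) (hzero ψ hψ hn.1 hn.2 ?_)
      rw [hZpts, Finset.mem_insert, Finset.mem_image]
      rintro (rfl | ⟨j, -, rfl⟩)
      exacts [hn.1 hboth.1, hn.1 (hboth.2 j)]
    have h6 := (Finset.card_le_card hcov).trans (Finset.card_union_le _ _)
    rw [hE, Finset.card_image_of_injective _ hinj, Finset.card_univ] at h6
    omega
  have hsval : ∀ j, TE h r b (sj j) = 4 * h - 8 ∧ ES h r 0 b (sj j) = fj j ∧ b (sj j) 0 = 0 := by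
    intro j
    have hb0 : b (sj j) 0 = 0 := S.x0 _ (S.sS j) (S.sE j)
    have hf : fj j * fj j = 1 := by rcases S.funit j with e1 | e1 <;> rw [e1] <;> norm_num
    obtain ⟨e1, e2⟩ := ES_const (h := h) (r := r) (b := b) (p := 0) (χ := sj j) {j} (fj j) hf
      (fun i hi => by rw [Finset.mem_singleton.1 hi]; exact S.ys j) fun i hi =>
        S.y0 i _ (S.sS j) (fun e1 => S.sE j (S.Psub i e1)) fun e1 =>
          hi (Finset.mem_singleton.2 (hinj e1).symm)
    rw [Finset.card_singleton, Nat.cast_one] at e2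
    rw [Finset.card_singleton, Nat.cast_one, mul_one] at e1
    refine ⟨?_, e1, hb0⟩
    rw [TE, e1, e2, hb0]
    linear_combination (-8 : ℤ) * hf
  have hdisj : Disjoint (Finset.univ.image sj) (insert c (Finset.univ.image tt)) := by
    rw [Finset.disjoint_left]
    intro χ hχs hχz
    obtain ⟨j, -, rfl⟩ := Finset.mem_image.1 hχs
    obtain ⟨v, -, -, hto⟩ := hval _ hχz
    have h1 := hbound _ (hzB _ hχz)
    have h4 := hpos _ (hzB _ hχz)
    rw [(hsval j).1, hto] at h1
    omega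
  refine ⟨Finset.univ.image sj ∪ insert c (Finset.univ.image tt), ?_, fun _ => ?_,
    fun e1 => absurd e1 hh2, ?_, fun χ hχ hχE hn => ?_⟩
  · intro χ hχ
    rcases Finset.mem_union.1 hχ with hχ | hχ
    · obtain ⟨j, -, rfl⟩ := Finset.mem_image.1 hχ
      exact Finset.mem_sdiff.2 ⟨S.sS j, S.sE j⟩
    · exact Finset.mem_sdiff.2 ⟨hzB χ hχ, hnotE χ hχ⟩
  · rw [Finset.card_union_of_disjoint hdisj, Finset.card_insert_of_notMem (by simp [htc]),
      Finset.card_image_of_injective _ hinj, Finset.card_image_of_injective _ htinj,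
      Finset.card_univ, Finset.card_univ]
    omega
  · intro χ hχ
    obtain ⟨e1, e2, -⟩ := C.sums hd χ
    rcases Finset.mem_union.1 hχ with hχ | hχ
    · obtain ⟨j, -, rfl⟩ := Finset.mem_image.1 hχ
      obtain ⟨-, he, hb0⟩ := hsval j
      have hz : ES h r 1 b (sj j) = 0 := by
        rw [ES, sum_coe_reps (fun i => b (sj j) i)]
        refine Finset.sum_eq_zero fun i _ => ?_
        by_contra hne
        exact Finset.disjoint_left.1 hdisj hχ (hZpts ▸ Finset.mem_biUnion.2
          ⟨i, Finset.mem_univ i, Finset.mem_filter.2 ⟨S.sS j, hne⟩⟩)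
      have hf : Odd (fj j) := by rcases S.funit j with e3 | e3 <;> rw [e3] <;> decide
      exact ⟨fj j, fj j, by rw [e1, he, hz, hb0]; ring, by rw [e2, he, hz, hb0]; ring, hf, hf⟩
    · obtain ⟨v, he, hv, -⟩ := hval χ hχ
      have hb0 : b χ 0 = 0 := S.x0 χ (hzB χ hχ) (hnotE χ hχ)
      have hy : ES h r 0 b χ = 0 := by
        rw [ES, sum_coe_reps (fun i => b χ i)]
        refine Finset.sum_eq_zero fun i _ => ?_
        exact S.y0 i χ (hzB χ hχ) (fun e3 => hnotE χ hχ (S.Psub i e3)) fun e3 =>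
          Finset.disjoint_left.1 hdisj (Finset.mem_image_of_mem sj (Finset.mem_univ i)) (e3 ▸ hχ)
      exact ⟨v, -v, by rw [e1, he, hy, hb0]; ring, by rw [e2, he, hy, hb0]; ring, hv, hv.neg⟩
  · rw [Finset.mem_union, not_or] at hn
    exact hzero χ hχ hχE hn.1 (hZpts ▸ hn.2)

end CfsgLib.Blocks.Tame
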